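import Groth.Prelude.Def_Magnet4

/-!
# Points of the diagonalizable monoid schemes `A(M)_S`: multiplicative characters `Multiplicative M →* Γ(W, ⊤)`
-/

set_option autoImplicit false

universe u

open CategoryTheory MonoidalCategory CartesianMonoidalCategory MonObj AlgebraicGeometry Opposite Limits
open scoped TensorProduct

namespace K951.Pts

open Magnet

section Sch

variable {W W' : Scheme.{u}} {B C : Type u} [CommRing B] [CommRing C]

/-- The ring map of a morphism to an affine scheme. -/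
noncomputable def fnS (w : W ⟶ Spec (CommRingCat.of B)) : B →+* Γ(W, ⊤) :=
  ((Scheme.ΓSpecIso (CommRingCat.of B)).inv ≫ w.appTop).hom

/-- The morphism to an affine scheme given by a ring map. -/
noncomputable def toS (φ : B →+* Γ(W, ⊤)) : W ⟶ Spec (CommRingCat.of B) :=
  W.toSpecΓ ≫ Spec.map (CommRingCat.ofHom φ)

theorem toS_fnS (w : W ⟶ Spec (CommRingCat.of B)) : toS (fnS w) = w := by
  change W.toSpecΓ ≫ Spec.map ((Scheme.ΓSpecIso (CommRingCat.of B)).inv ≫ w.appTop) = w
  rw [Spec.map_comp, ← Scheme.toSpecΓ_naturality_assoc, toSpecΓ_SpecMap_ΓSpecIso_inv, Category.comp_id]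

theorem fnS_toS (φ : B →+* Γ(W, ⊤)) : fnS (toS φ) = φ := by
  have h1 : (Scheme.ΓSpecIso (CommRingCat.of B)).inv ≫ (toS φ).appTop = CommRingCat.ofHom φ := by
    rw [toS, Scheme.Hom.comp_appTop, ← Scheme.ΓSpecIso_inv_naturality_assoc, Scheme.toSpecΓ_appTop]
    rw [Iso.inv_hom_id]
    exact Category.comp_id _
  exact congrArg CommRingCat.Hom.hom h1

theorem fnS_injective {w w' : W ⟶ Spec (CommRingCat.of B)} (h : fnS w = fnS w') : w = w' := by
  rw [← toS_fnS w, ← toS_fnS w', h]

theorem fnS_comp (v : W' ⟶ W) (w : W ⟶ Spec (CommRingCat.of B)) : fnS (v ≫ w) = v.appTop.hom.comp (fnS w) := by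
  rw [fnS, Scheme.Hom.comp_appTop, ← Category.assoc]
  rfl

theorem fnS_comp_apply (v : W' ⟶ W) (w : W ⟶ Spec (CommRingCat.of B)) (b : B) :
    fnS (v ≫ w) b = v.appTop.hom (fnS w b) := by
  rw [fnS_comp]; rfl

theorem fnS_comp_map (w : W ⟶ Spec (CommRingCat.of B)) (ψ : C →+* B) :
    fnS (w ≫ Spec.map (CommRingCat.ofHom ψ)) = (fnS w).comp ψ := by
  rw [fnS, Scheme.Hom.comp_appTop, ← Scheme.ΓSpecIso_inv_naturality_assoc]
  rfl

theorem comp_toS (v : W' ⟶ W) (φ : B →+* Γ(W, ⊤)) : v ≫ toS φ = toS (v.appTop.hom.comp φ) := by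
  apply fnS_injective
  rw [fnS_comp, fnS_toS, fnS_toS]

end Sch

section Affine

variable {R : Type u} [CommRing R] {M N : Type} [AddCommMonoid M] [AddCommMonoid N]

/-- The functions on an object over `Spec R` form an `R`-algebra. -/
@[reducible] noncomputable def algΓ (W : Over (Spec (CommRingCat.of R))) : Algebra R Γ(W.left, ⊤) :=
  (fnS W.hom).toAlgebra

attribute [local instance] algΓ

variable {B : Type u} [CommRing B] [Algebra R B]

theorem algebraMap_algΓ (W : Over (Spec (CommRingCat.of R))) : algebraMap R Γ(W.left, ⊤) = fnS W.hom := rfl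

/-- The functions pulled back along a morphism to an affine object. -/
noncomputable def fn {W : Over (Spec (CommRingCat.of R))} (w : W ⟶ CoactBr.sp R B) : B →ₐ[R] Γ(W.left, ⊤) where
  __ := fnS w.left
  commutes' r := by
    have hw : w.left ≫ Spec.map (CommRingCat.ofHom (algebraMap R B)) = W.hom := Over.w w
    have h := congr($(fnS_comp_map w.left (algebraMap R B)) r)
    exact h.symm.trans (congrArg (fun v => fnS v r) hw)

theorem fn_apply {W : Over (Spec (CommRingCat.of R))} (w : W ⟶ CoactBr.sp R B) (b : B) : fn w b = fnS w.left b := rfl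

/-- The point of an affine object given by an algebra map. -/
noncomputable def ofFn {W : Over (Spec (CommRingCat.of R))} (φ : B →ₐ[R] Γ(W.left, ⊤)) : W ⟶ CoactBr.sp R B :=
  Over.homMk (toS φ.toRingHom) (by
    change toS φ.toRingHom ≫ Spec.map (CommRingCat.ofHom (algebraMap R B)) = W.hom
    apply fnS_injective
    rw [fnS_comp_map, fnS_toS, ← algebraMap_algΓ]
    exact φ.comp_algebraMap)

theorem fn_ofFn {W : Over (Spec (CommRingCat.of R))} (φ : B →ₐ[R] Γ(W.left, ⊤)) : fn (ofFn φ) = φ := by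
  apply AlgHom.ext
  intro b
  rw [fn_apply]
  exact congr($(fnS_toS φ.toRingHom) b)

theorem fn_injective {W : Over (Spec (CommRingCat.of R))} {w w' : W ⟶ CoactBr.sp R B} (h : fn w = fn w') : w = w' := by
  ext1
  apply fnS_injective
  ext b
  exact congr($h b)

theorem fn_comp {W W' : Over (Spec (CommRingCat.of R))} (v : W' ⟶ W) (w : W ⟶ CoactBr.sp R B) (b : B) :
    fn (v ≫ w) b = v.left.appTop.hom (fn w b) := by
  rw [fn_apply, fn_apply]
  exact fnS_comp_apply _ _ _

theorem fn_comp_pt {W : Over (Spec (CommRingCat.of R))} {C : Type u} [CommRing C] [Algebra R C]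
    (w : W ⟶ CoactBr.sp R B) (ψ : C →ₐ[R] B) : fn (w ≫ CoactBr.pt ψ) = (fn w).comp ψ := by
  apply AlgHom.ext
  intro c
  rw [fn_apply]
  exact congr($(fnS_comp_map w.left ψ.toRingHom) c)

/-- The affinization. -/
noncomputable def aff (W : Over (Spec (CommRingCat.of R))) : W ⟶ CoactBr.sp R Γ(W.left, ⊤) :=
  ofFn (AlgHom.id R _)

theorem fn_aff (W : Over (Spec (CommRingCat.of R))) : fn (aff W) = AlgHom.id R _ := fn_ofFn _

theorem aff_comp_pt {W : Over (Spec (CommRingCat.of R))} (w : W ⟶ CoactBr.sp R B) :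
    aff W ≫ CoactBr.pt (fn w) = w := by
  apply fn_injective
  rw [fn_comp_pt, fn_aff, AlgHom.id_comp]

theorem fn_mul {A : Type u} [CommRing A] [Bialgebra R A] {W : Over (Spec (CommRingCat.of R))}
    (w w' : W ⟶ CoactBr.sp R A) :
    fn (w * w') = (Algebra.TensorProduct.lift (fn w) (fn w') fun _ _ => .all _ _).comp (Bialgebra.comulAlgHom R A) := by
  rw [← aff_comp_pt w, ← aff_comp_pt w', ← MonObj.comp_mul, CoactBr.pt_mul_pt, fn_comp_pt, fn_aff, AlgHom.id_comp,
    aff_comp_pt, aff_comp_pt]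

theorem fn_one {A : Type u} [CommRing A] [Bialgebra R A] {W : Over (Spec (CommRingCat.of R))} :
    fn (1 : W ⟶ CoactBr.sp R A) = (Algebra.ofId R _).comp (Bialgebra.counitAlgHom R A) := by
  have h : (1 : W ⟶ CoactBr.sp R A) = aff W ≫ 1 := (MonObj.comp_one _).symm
  rw [h, CoactBr.one_eq_pt, fn_comp_pt, fn_aff, AlgHom.id_comp]

/-- The character of a point of `A(M)_R`. -/
noncomputable def chiR {W : Over (Spec (CommRingCat.of R))} (w : W ⟶ AMon R M) : Multiplicative M →* Γ(W.left, ⊤) :=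
  (fn (B := MonoidAlgebra R (Multiplicative M)) w).toMonoidHom.comp (MonoidAlgebra.of R (Multiplicative M))

theorem chiR_apply {W : Over (Spec (CommRingCat.of R))} (w : W ⟶ AMon R M) (m : Multiplicative M) :
    chiR w m = fn (B := MonoidAlgebra R (Multiplicative M)) w (MonoidAlgebra.single m 1) := rfl

theorem chiR_injective {W : Over (Spec (CommRingCat.of R))} {w w' : W ⟶ AMon R M} (h : chiR w = chiR w') : w = w' := by
  apply fn_injective
  refine MonoidAlgebra.algHom_ext (fun m => ?_) (Subsingleton.elim _ _)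
  exact congr($h m)

theorem exists_chiR {W : Over (Spec (CommRingCat.of R))} (χ : Multiplicative M →* Γ(W.left, ⊤)) :
    ∃ w : W ⟶ AMon R M, chiR w = χ := by
  refine ⟨ofFn (MonoidAlgebra.lift R _ (Multiplicative M) χ), MonoidHom.ext fun m => ?_⟩
  rw [chiR_apply, fn_ofFn, MonoidAlgebra.lift_single, one_smul]

theorem chiR_comp {W W' : Over (Spec (CommRingCat.of R))} (v : W' ⟶ W) (w : W ⟶ AMon R M) (m : Multiplicative M) :
    chiR (v ≫ w) m = v.left.appTop.hom (chiR w m) := by
  rw [chiR_apply, chiR_apply, fn_comp]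

theorem chiR_mul {W : Over (Spec (CommRingCat.of R))} (w w' : W ⟶ AMon R M) : chiR (w * w') = chiR w * chiR w' := by
  refine MonoidHom.ext fun m => ?_
  rw [chiR_apply, fn_mul]
  simp only [MonoidHom.mul_apply, chiR_apply, AlgHom.comp_apply, Bialgebra.comulAlgHom_apply,
    MonoidAlgebra.comul_single, Bialgebra.comul_one, Algebra.TensorProduct.one_def, TensorProduct.map_tmul,
    MonoidAlgebra.lsingle_apply, Algebra.TensorProduct.lift_tmul]

theorem chiR_one {W : Over (Spec (CommRingCat.of R))} : chiR (1 : W ⟶ AMon R M) = 1 := by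
  refine MonoidHom.ext fun m => ?_
  rw [chiR_apply, fn_one]
  simp

theorem chiR_map {W : Over (Spec (CommRingCat.of R))} (w : W ⟶ AMon R M) (f : N →+ M) :
    chiR (w ≫ AMon.map R f) = (chiR w).comp (AddMonoidHom.toMultiplicative f) := by
  refine MonoidHom.ext fun n => ?_
  rw [chiR_apply, AMon.map_eq_pt, fn_comp_pt]
  simp [chiR_apply]

open Classical in
theorem chiR_faceMap {M : Type} [AddCommMonoid M] {N F : AddSubmonoid M} (hF : IsFace N F)
    {W : Over (Spec (CommRingCat.of R))} (w : W ⟶ AMon R F) (n : N) :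
    chiR (w ≫ AMon.faceMap R hF) (Multiplicative.ofAdd n) =
      if h : (n : M) ∈ F then chiR w (Multiplicative.ofAdd ⟨n, h⟩) else 0 := by
  rw [chiR_apply, AMon.faceMap, fn_comp_pt]
  split_ifs with hn
  · rw [AlgHom.comp_apply, faceAlgHom_single_of_mem _ hF n hn]
    rfl
  · rw [AlgHom.comp_apply, faceAlgHom_single_of_not_mem _ hF n hn, map_zero]

end Affine

section Base

variable {S : Scheme.{u}} {M N : Type} [AddCommMonoid M] [AddCommMonoid N]

/-- The structure morphism of `S` over `Spec ℤ`. -/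
noncomputable abbrev toZ (S : Scheme.{u}) : S ⟶ Spec (CommRingCat.of (ULift.{u} ℤ)) :=
  Limits.IsTerminal.from specULiftZIsTerminal S

/-- The point over `ℤ` of a point of `A(M)_S`. -/
noncomputable def ptZ {W : Over S} (w : W ⟶ AMonS S M) :
    (Over.map (toZ S)).obj W ⟶ AMon (ULift.{u} ℤ) M :=
  ((Over.mapPullbackAdj (toZ S)).homEquiv W (AMon (ULift.{u} ℤ) M)).symm w

/-- THE CHARACTER of a point `w : W ⟶ A(M)_S`: the multiplicative map from `M` to the functions on `W`. -/
noncomputable def chi {W : Over S} (w : W ⟶ AMonS S M) : Multiplicative M →* Γ(W.left, ⊤) :=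
  chiR (W := (Over.map (toZ S)).obj W) (ptZ w)

theorem chi_injective {W : Over S} {w w' : W ⟶ AMonS S M} (h : chi w = chi w') : w = w' := by
  apply ((Over.mapPullbackAdj (toZ S)).homEquiv W (AMon (ULift.{u} ℤ) M)).symm.injective
  exact chiR_injective (W := (Over.map (toZ S)).obj W) h

theorem exists_chi {W : Over S} (χ : Multiplicative M →* Γ(W.left, ⊤)) : ∃ w : W ⟶ AMonS S M, chi w = χ := by
  obtain ⟨w, hw⟩ := exists_chiR (R := ULift.{u} ℤ) (W := (Over.map (toZ S)).obj W) χ
  refine ⟨(Over.mapPullbackAdj (toZ S)).homEquiv W (AMon (ULift.{u} ℤ) M) w, ?_⟩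
  rw [chi, ptZ, Equiv.symm_apply_apply, hw]

theorem chi_comp {W W' : Over S} (v : W' ⟶ W) (w : W ⟶ AMonS S M) (m : Multiplicative M) :
    chi (v ≫ w) m = v.left.appTop.hom (chi w m) := by
  rw [chi, ptZ, Adjunction.homEquiv_naturality_left_symm]
  exact chiR_comp (W := (Over.map (toZ S)).obj W) ((Over.map (toZ S)).map v) (ptZ w) m

theorem chi_comp' {W W' : Over S} (v : W' ⟶ W) (w : W ⟶ AMonS S M) :
    chi (v ≫ w) = (v.left.appTop.hom : _ →* _).comp (chi w) :=
  MonoidHom.ext fun m => chi_comp v w m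

theorem chi_mul {W : Over S} (w w' : W ⟶ AMonS S M) : chi (w * w') = chi w * chi w' := by
  have h : ptZ (w * w') = ptZ w * ptZ w' := by
    apply ((Over.mapPullbackAdj (toZ S)).homEquiv W (AMon (ULift.{u} ℤ) M)).injective
    rw [ptZ, Equiv.apply_symm_apply]
    conv_lhs => rw [← Equiv.apply_symm_apply ((Over.mapPullbackAdj (toZ S)).homEquiv W (AMon (ULift.{u} ℤ) M)) w,
      ← Equiv.apply_symm_apply ((Over.mapPullbackAdj (toZ S)).homEquiv W (AMon (ULift.{u} ℤ) M)) w']
    simp only [Adjunction.homEquiv_unit]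
    rw [Functor.map_mul, MonObj.comp_mul]
    rfl
  rw [chi, h]
  exact chiR_mul (W := (Over.map (toZ S)).obj W) _ _

theorem chi_one {W : Over S} : chi (1 : W ⟶ AMonS S M) = 1 := by
  have h : ptZ (1 : W ⟶ AMonS S M) = 1 := by
    apply ((Over.mapPullbackAdj (toZ S)).homEquiv W (AMon (ULift.{u} ℤ) M)).injective
    rw [ptZ, Equiv.apply_symm_apply]
    simp only [Adjunction.homEquiv_unit]
    rw [Functor.map_one, MonObj.comp_one]
  rw [chi, h]
  exact chiR_one (W := (Over.map (toZ S)).obj W)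

theorem chi_map {W : Over S} (w : W ⟶ AMonS S M) (f : N →+ M) :
    chi (w ≫ AMonS.map S f) = (chi w).comp (AddMonoidHom.toMultiplicative f) := by
  have h : ptZ (w ≫ AMonS.map S f) = ptZ w ≫ AMon.map (ULift.{u} ℤ) f := by
    rw [ptZ, ptZ, AMonS.map]
    exact Adjunction.homEquiv_naturality_right_symm _ _ _
  rw [chi, h]
  exact chiR_map (W := (Over.map (toZ S)).obj W) _ _

theorem chi_map_apply {W : Over S} (w : W ⟶ AMonS S M) (f : N →+ M) (n : N) :
    chi (w ≫ AMonS.map S f) (Multiplicative.ofAdd n) = chi w (Multiplicative.ofAdd (f n)) := by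
  rw [chi_map]; rfl

open Classical in
theorem chi_faceMap {M : Type} [AddCommMonoid M] {N F : AddSubmonoid M} (hF : IsFace N F) {W : Over S}
    (w : W ⟶ AMonS S F) (n : N) :
    chi (w ≫ AMonS.faceMap S hF) (Multiplicative.ofAdd n) =
      if h : (n : M) ∈ F then chi w (Multiplicative.ofAdd ⟨n, h⟩) else 0 := by
  have h : ptZ (w ≫ AMonS.faceMap S hF) = ptZ w ≫ AMon.faceMap (ULift.{u} ℤ) hF := by
    rw [ptZ, ptZ, AMonS.faceMap]
    exact Adjunction.homEquiv_naturality_right_symm _ _ _
  rw [chi, h]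
  exact chiR_faceMap (W := (Over.map (toZ S)).obj W) hF (ptZ w) n

/-- The bijection between points of `A(M)_S` and characters. -/
noncomputable def chiEquiv (W : Over S) (M : Type) [AddCommMonoid M] :
    (W ⟶ AMonS S M) ≃* (Multiplicative M →* Γ(W.left, ⊤)) where
  __ := Equiv.ofBijective chi ⟨fun _ _ h => chi_injective h, exists_chi⟩
  map_mul' := chi_mul

@[simp] theorem chiEquiv_apply {W : Over S} (w : W ⟶ AMonS S M) : chiEquiv W M w = chi w := rfl

/-- The point of `A(M)_S` with a given character. -/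
noncomputable def ofChi {W : Over S} (χ : Multiplicative M →* Γ(W.left, ⊤)) : W ⟶ AMonS S M :=
  (chiEquiv W M).symm χ

@[simp] theorem chi_ofChi {W : Over S} (χ : Multiplicative M →* Γ(W.left, ⊤)) : chi (ofChi χ : W ⟶ AMonS S M) = χ :=
  (chiEquiv W M).apply_symm_apply χ

end Base

end K951.Pts
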