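import Groth.Agent.Magnet.K951.Pts

/-!
# The product `A(N)_S ×_S Y` for `Y` an affine scheme over an arbitrary base `S`: it is `Spec Γ(Y)[N]`
-/

set_option autoImplicit false

universe u

open CategoryTheory MonoidalCategory CartesianMonoidalCategory MonObj AlgebraicGeometry Opposite Limits

namespace K951.Prd

open Magnet K951.Pts

variable {S : Scheme.{u}} {N : Type} [AddCommMonoid N]

/-- The functions on `Y`, as a bare ring. -/
abbrev Fn (Y : Over S) : Type u := Γ(Y.left, ⊤)

/-- Pull-back of functions along a morphism over `S`. -/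
noncomputable abbrev pb {Y Y' : Over S} (f : Y ⟶ Y') : Fn Y' →+* Fn Y := f.left.appTop.hom

theorem pb_comp {Y Y' Y'' : Over S} (f : Y ⟶ Y') (g : Y' ⟶ Y'') : pb (f ≫ g) = (pb f).comp (pb g) := by
  rw [pb, Over.comp_left, Scheme.Hom.comp_appTop]
  rfl

theorem pb_comp_apply {Y Y' Y'' : Over S} (f : Y ⟶ Y') (g : Y' ⟶ Y'') (x : Fn Y'') : pb (f ≫ g) x = pb f (pb g x) := by
  rw [pb_comp]; rfl

theorem pb_id (Y : Over S) : pb (𝟙 Y) = RingHom.id _ := by
  rw [pb, Over.id_left, Scheme.Hom.id_appTop]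
  rfl

/-- Morphisms over `S` into an affine scheme are determined by pull-back of functions. -/
theorem hom_ext_pb {Y Y' : Over S} [IsAffine Y'.left] {f g : Y ⟶ Y'} (h : pb f = pb g) : f = g := by
  ext1
  apply ext_of_isAffine
  ext1
  exact h

theorem pb_chi {W W' : Over S} (v : W' ⟶ W) (w : W ⟶ AMonS S N) (m : Multiplicative N) :
    pb v (chi w m) = chi (v ≫ w) m := (chi_comp v w m).symm

/-- The ring map `Γ(Y)[N] → Γ(W)` given by a morphism `y : W ⟶ Y` and a point `w` of `A(N)_S`: the monomial `b Xⁿ` goes to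
`y^*(b) · chi w n`. -/
noncomputable def evl {W Y : Over S} (w : W ⟶ AMonS S N) (y : W ⟶ Y) :
    MonoidAlgebra (Fn Y) (Multiplicative N) →+* Fn W :=
  MonoidAlgebra.liftNCRingHom (pb y) (chi w) fun _ _ => Commute.all _ _

theorem evl_single {W Y : Over S} (w : W ⟶ AMonS S N) (y : W ⟶ Y) (n : Multiplicative N) (b : Fn Y) :
    evl w y (MonoidAlgebra.single n b) = pb y b * chi w n :=
  MonoidAlgebra.liftNC_single _ _ _ _

theorem evl_apply {W Y : Over S} (w : W ⟶ AMonS S N) (y : W ⟶ Y) (p : MonoidAlgebra (Fn Y) (Multiplicative N)) :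
    evl w y p = p.coeff.sum fun n b => pb y b * chi w n := by
  conv_lhs => rw [← MonoidAlgebra.sum_coeff_single p]
  rw [Finsupp.sum, map_sum]
  refine Finset.sum_congr rfl fun n _ => ?_
  exact evl_single w y n (p.coeff n)

theorem pb_evl {W W' Y : Over S} (v : W' ⟶ W) (w : W ⟶ AMonS S N) (y : W ⟶ Y) :
    (pb v).comp (evl w y) = evl (v ≫ w) (v ≫ y) := by
  apply MonoidAlgebra.ringHom_ext
  · intro b
    rw [RingHom.comp_apply, evl_single, evl_single, map_mul, pb_chi, pb_comp_apply]
  · intro n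
    rw [RingHom.comp_apply, evl_single, evl_single, map_mul, pb_chi, pb_comp_apply]

/-- The ring map `Γ(Y)[N] → Γ(A(N)_S ×_S Y)`. -/
noncomputable def gam (Y : Over S) (N : Type) [AddCommMonoid N] :
    MonoidAlgebra (Fn Y) (Multiplicative N) →+* Fn (AMonS S N ⊗ Y) :=
  evl (fst _ _) (snd _ _)

theorem gam_single (Y : Over S) (n : Multiplicative N) (b : Fn Y) :
    gam Y N (MonoidAlgebra.single n b) = pb (snd (AMonS S N) Y) b * chi (fst (AMonS S N) Y) n :=
  evl_single _ _ _ _

theorem pb_lift_gam {W Y : Over S} (w : W ⟶ AMonS S N) (y : W ⟶ Y) :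
    (pb (lift w y)).comp (gam Y N) = evl w y := by
  rw [gam, pb_evl, lift_fst, lift_snd]

theorem pb_lift_gam_apply {W Y : Over S} (w : W ⟶ AMonS S N) (y : W ⟶ Y)
    (p : MonoidAlgebra (Fn Y) (Multiplicative N)) : pb (lift w y) (gam Y N p) = evl w y p :=
  congr($(pb_lift_gam w y) p)

section

variable (Y : Over S) [IsAffine Y.left] (N)

/-- `Spec Γ(Y)[N]` over `S`. -/
noncomputable def PN : Over S :=
  Over.mk (Spec.map (CommRingCat.ofHom (algebraMap (Fn Y) (MonoidAlgebra (Fn Y) (Multiplicative N)))) ≫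
    Y.left.isoSpec.inv ≫ Y.hom)

/-- The projection to `Y`. -/
noncomputable def PNsnd : PN N Y ⟶ Y :=
  Over.homMk (Spec.map (CommRingCat.ofHom (algebraMap (Fn Y) (MonoidAlgebra (Fn Y) (Multiplicative N)))) ≫
    Y.left.isoSpec.inv) (Category.assoc _ _ _)

/-- The functions on `Spec Γ(Y)[N]`. -/
noncomputable def PNE : MonoidAlgebra (Fn Y) (Multiplicative N) →+* Fn (PN N Y) :=
  (Scheme.ΓSpecIso (CommRingCat.of (MonoidAlgebra (Fn Y) (Multiplicative N)))).inv.hom

theorem PNE_bijective : Function.Bijective (PNE N Y) :=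
  ConcreteCategory.bijective_of_isIso
    (Scheme.ΓSpecIso (CommRingCat.of (MonoidAlgebra (Fn Y) (Multiplicative N)))).inv

/-- The tautological point of `A(N)_S`. -/
noncomputable def PNfst : PN N Y ⟶ AMonS S N :=
  ofChi ((PNE N Y).toMonoidHom.comp (MonoidAlgebra.of (Fn Y) (Multiplicative N)))

theorem chi_PNfst (n : Multiplicative N) : chi (PNfst N Y) n = PNE N Y (MonoidAlgebra.single n 1) := by
  rw [PNfst, chi_ofChi]; rfl

theorem pb_PNsnd (b : Fn Y) : pb (PNsnd N Y) b = PNE N Y (MonoidAlgebra.single 1 b) := by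
  have h1 : (Spec.map (CommRingCat.ofHom (algebraMap (Fn Y) (MonoidAlgebra (Fn Y) (Multiplicative N)))) ≫
      Y.left.isoSpec.inv) ≫ Y.left.toSpecΓ =
      Spec.map (CommRingCat.ofHom (algebraMap (Fn Y) (MonoidAlgebra (Fn Y) (Multiplicative N)))) := by
    rw [Category.assoc, Scheme.isoSpec_inv_toSpecΓ]
    exact Category.comp_id _
  have h2 := fnS_comp (Spec.map (CommRingCat.ofHom (algebraMap (Fn Y) (MonoidAlgebra (Fn Y) (Multiplicative N)))) ≫
      Y.left.isoSpec.inv) (B := Fn Y) Y.left.toSpecΓ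
  rw [h1] at h2
  have h3 : fnS (B := Fn Y) Y.left.toSpecΓ = RingHom.id _ := by
    rw [fnS, Scheme.toSpecΓ_appTop]
    exact congrArg CommRingCat.Hom.hom (Iso.inv_hom_id _)
  rw [h3, RingHom.comp_id] at h2
  have h4 := fnS_comp_map (𝟙 _) (algebraMap (Fn Y) (MonoidAlgebra (Fn Y) (Multiplicative N)))
  rw [Category.id_comp, h2] at h4
  have h5 := congr($h4 b)
  refine h5.trans ?_
  have h6 : fnS (𝟙 (Spec (CommRingCat.of (MonoidAlgebra (Fn Y) (Multiplicative N))))) = PNE N Y := by
    rw [fnS, Scheme.Hom.id_appTop, Category.comp_id]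
    rfl
  rw [h6]
  rfl

instance isAffine_PN : IsAffine (PN N Y).left :=
  inferInstanceAs (IsAffine (Spec (CommRingCat.of (MonoidAlgebra (Fn Y) (Multiplicative N)))))

/-- The underlying morphism of `toPN`. -/
noncomputable def toPNl {W : Over S} (φ : MonoidAlgebra (Fn Y) (Multiplicative N) →+* Fn W) :
    W.left ⟶ (PN N Y).left := toS φ

theorem toPNl_appTop {W : Over S} (φ : MonoidAlgebra (Fn Y) (Multiplicative N) →+* Fn W)
    (p : MonoidAlgebra (Fn Y) (Multiplicative N)) : (toPNl N Y φ).appTop.hom (PNE N Y p) = φ p :=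
  congr($(fnS_toS φ) p)

theorem toPNl_comp {W : Over S} (φ : MonoidAlgebra (Fn Y) (Multiplicative N) →+* Fn W) (y : W ⟶ Y)
    (h : ∀ b, φ (MonoidAlgebra.single 1 b) = pb y b) : toPNl N Y φ ≫ (PNsnd N Y).left = y.left := by
  apply ext_of_isAffine
  ext1
  apply RingHom.ext
  intro b
  have h2 := pb_PNsnd N Y b
  have h3 : (PNsnd N Y).left.appTop.hom b = PNE N Y (MonoidAlgebra.single 1 b) := h2
  rw [Scheme.Hom.comp_appTop, CommRingCat.hom_comp, RingHom.comp_apply, h3, toPNl_appTop]
  exact h b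

/-- Ring maps out of the functions on `Spec Γ(Y)[N]` give morphisms over `S`. -/
noncomputable def toPN {W : Over S} (φ : MonoidAlgebra (Fn Y) (Multiplicative N) →+* Fn W) (y : W ⟶ Y)
    (h : ∀ b, φ (MonoidAlgebra.single 1 b) = pb y b) : W ⟶ PN N Y :=
  Over.homMk (toPNl N Y φ) (by
    rw [← Over.w (PNsnd N Y), ← Category.assoc, toPNl_comp N Y φ y h, Over.w])

theorem pb_toPN {W : Over S} (φ : MonoidAlgebra (Fn Y) (Multiplicative N) →+* Fn W) (y : W ⟶ Y)
    (h : ∀ b, φ (MonoidAlgebra.single 1 b) = pb y b) (p : MonoidAlgebra (Fn Y) (Multiplicative N)) :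
    pb (toPN N Y φ y h) (PNE N Y p) = φ p :=
  toPNl_appTop N Y φ p

/-- `Spec Γ(Y)[N]` is `A(N)_S ×_S Y`. -/
noncomputable def PNiso : PN N Y ≅ AMonS S N ⊗ Y where
  hom := lift (PNfst N Y) (PNsnd N Y)
  inv := toPN N Y (gam Y N) (snd _ _) (fun b => by rw [gam_single, map_one, _root_.mul_one])
  hom_inv_id := by
    apply hom_ext_pb
    apply RingHom.ext
    intro x
    obtain ⟨p, rfl⟩ := (PNE_bijective N Y).2 x
    rw [pb_comp_apply, pb_toPN, pb_lift_gam_apply, pb_id, RingHom.id_apply]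
    have : evl (PNfst N Y) (PNsnd N Y) = PNE N Y := by
      apply MonoidAlgebra.ringHom_ext
      · intro b
        rw [evl_single, map_one, _root_.mul_one, pb_PNsnd]
      · intro n
        rw [evl_single, map_one, _root_.one_mul, chi_PNfst]
    rw [this]
  inv_hom_id := by
    rw [comp_lift]
    apply CartesianMonoidalCategory.hom_ext
    · rw [lift_fst, Category.id_comp]
      apply chi_injective
      apply MonoidHom.ext
      intro n
      rw [chi_comp, chi_PNfst]
      refine (pb_toPN N Y _ _ _ _).trans ?_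
      rw [gam_single, map_one, _root_.one_mul]
    · rw [lift_snd, Category.id_comp]
      apply hom_ext_pb
      apply RingHom.ext
      intro b
      rw [pb_comp_apply, pb_PNsnd, pb_toPN, gam_single, map_one, _root_.mul_one]

theorem isIso_PNiso_inv_left : IsIso (PNiso N Y).inv.left :=
  ⟨(PNiso N Y).hom.left, by rw [← Over.comp_left, Iso.inv_hom_id, Over.id_left],
    by rw [← Over.comp_left, Iso.hom_inv_id, Over.id_left]⟩

theorem isAffine_prod : IsAffine (AMonS S N ⊗ Y).left :=
  have := isIso_PNiso_inv_left N Y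
  .of_isIso (PNiso N Y).inv.left

/-- THE FUNCTIONS ON `A(N)_S ×_S Y` are the monoid algebra over the functions on `Y`, for `Y` affine. -/
theorem gam_bijective : Function.Bijective (gam Y N) := by
  have h1 : (gam Y N) = (pb (PNiso N Y).inv).comp (PNE N Y) := by
    apply RingHom.ext
    intro p
    exact (pb_toPN N Y (gam Y N) (snd _ _)
      (fun b => by rw [gam_single, map_one, _root_.mul_one]) p).symm
  rw [h1, RingHom.coe_comp]
  refine Function.Bijective.comp ?_ (PNE_bijective N Y)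
  have := isIso_PNiso_inv_left N Y
  have h2 : IsIso (Scheme.Hom.app (PNiso N Y).inv.left ⊤) := inferInstance
  exact ConcreteCategory.bijective_of_isIso (Scheme.Hom.app (PNiso N Y).inv.left ⊤)

end

end K951.Prd
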