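import Mathlib.CategoryTheory.Limits.Shapes.Pullback.IsPullback.Basic
import Mathlib.CategoryTheory.Limits.Types.Pullbacks
import Groth.Prelude.Def_Magnet

/-!
# Cartesian squares of presheaves of types, checked on elements
-/

set_option autoImplicit false

universe v₁ u₁ w

open CategoryTheory MonoidalCategory CartesianMonoidalCategory MonObj Opposite Limits

namespace K951.Psh

/-- A commutative square of functors to types is cartesian as soon as it is so on elements. -/
theorem isPullback_of {C : Type u₁} [Category.{v₁} C] {F₁ F₂ F₃ F₄ : C ⥤ Type w}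
    {t : F₁ ⟶ F₂} {l : F₁ ⟶ F₃} {r : F₂ ⟶ F₄} {b : F₃ ⟶ F₄} (hw : t ≫ r = l ≫ b)
    (hinj : ∀ (X : C) (x y : F₁.obj X), t.app X x = t.app X y → l.app X x = l.app X y → x = y)
    (hsurj : ∀ (X : C) (x : F₂.obj X) (y : F₃.obj X), r.app X x = b.app X y →
      ∃ z : F₁.obj X, t.app X z = x ∧ l.app X z = y) : IsPullback t l r b := by
  refine IsPullback.of_forall_isPullback_app fun X => ?_
  rw [Types.isPullback_iff]
  refine ⟨?_, fun x y h => hinj X x y h.1 h.2, fun x y h => hsurj X x y h⟩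
  rw [← NatTrans.comp_app, ← NatTrans.comp_app, hw]

/-- Elements of a cartesian square of functors to types. -/
theorem exists_of_isPullback {C : Type u₁} [Category.{v₁} C] {F₁ F₂ F₃ F₄ : C ⥤ Type w}
    {t : F₁ ⟶ F₂} {l : F₁ ⟶ F₃} {r : F₂ ⟶ F₄} {b : F₃ ⟶ F₄} (h : IsPullback t l r b) (X : C) :
    (∀ x y : F₁.obj X, t.app X x = t.app X y → l.app X x = l.app X y → x = y) ∧
    ∀ (x : F₂.obj X) (y : F₃.obj X), r.app X x = b.app X y → ∃ z : F₁.obj X, t.app X z = x ∧ l.app X z = y := by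
  have h' := h.app X
  rw [Types.isPullback_iff] at h'
  exact ⟨fun x y h1 h2 => h'.2.1 x y ⟨h1, h2⟩, h'.2.2⟩

section Mon

open Magnet Magnet.MonAct

variable {C : Type u₁} [Category.{v₁} C] [CartesianMonoidalCategory C] {A B X Y : C} [MonObj A]

/-- Points form of equivariance. -/
theorem pt_of_isEquivariant {a : MonAct A X} {b : MonAct A Y} {f : X ⟶ Y} (h : IsEquivariant a b f) {T : C}
    (g : T ⟶ A) (x : T ⟶ X) : (lift g x ≫ a.act) ≫ f = lift g (x ≫ f) ≫ b.act := by
  rw [isEquivariant_iff] at h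
  rw [Category.assoc, h]

/-- Criterion for the square of `postcomp` and evaluations at a point to be cartesian. -/
theorem isPullback_postcomp_evalAt (ρ : MonAct A B) (a : MonAct A X) (b : MonAct A Y) (j : X ⟶ Y) [Mono j]
    (hj : IsEquivariant a b j) (e : 𝟙_ C ⟶ B)
    (H : ∀ (T : C) (φ : B ⊗ T ⟶ Y), IsEquivariant (ρ.prod (MonAct.trivial A T)) b φ → ∀ x : T ⟶ X,
      lift (toUnit T ≫ e) (𝟙 T) ≫ φ = x ≫ j → ∃ φ' : B ⊗ T ⟶ X, φ' ≫ j = φ) :
    IsPullback (eqvHom.postcomp ρ j hj) (eqvHom.evalAt ρ a e) (eqvHom.evalAt ρ b e) (yoneda.map j) := by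
  refine isPullback_of ?_ ?_ ?_
  · ext T φ
    change lift (toUnit (unop T) ≫ e) (𝟙 (unop T)) ≫ φ.1 ≫ j = (lift (toUnit (unop T) ≫ e) (𝟙 (unop T)) ≫ φ.1) ≫ j
    rw [Category.assoc]
  · intro T x y h1 _
    apply Subtype.ext
    have h2 : x.1 ≫ j = y.1 ≫ j := congrArg Subtype.val h1
    rwa [cancel_mono] at h2
  · intro T x y hxy
    obtain ⟨φ', hφ'⟩ := H (unop T) x.1 x.2 y hxy
    have hx := x.2
    rw [mem_eqvHom_iff] at hx
    have heq : IsEquivariant (ρ.prod (MonAct.trivial A (unop T))) a φ' := by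
      rw [mem_eqvHom_iff]
      intro T' g b t
      rw [← cancel_mono j, Category.assoc, hφ', hx, pt_of_isEquivariant hj, Category.assoc, hφ']
    refine ⟨⟨φ', heq⟩, Subtype.ext hφ', ?_⟩
    change lift (toUnit (unop T) ≫ e) (𝟙 (unop T)) ≫ φ' = y
    rw [← cancel_mono j, Category.assoc, hφ']
    exact hxy

end Mon

end K951.Psh
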