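import Groth.Agent.Magnet.K951.Dense
import Groth.Agent.Magnet.K951.Psh
import Mathlib.AlgebraicGeometry.PullbackCarrier
import Mathlib.AlgebraicGeometry.ResidueField

/-!
# Stable open subsets for an action of a monoid scheme
-/

set_option autoImplicit false

universe v₁ u₁ u

open CategoryTheory MonoidalCategory CartesianMonoidalCategory MonObj AlgebraicGeometry Opposite Limits

namespace K951.Stab

open Magnet Magnet.MonAct

/-- In a cartesian monoidal category the square of `P ◁ f` over `f` is cartesian. -/
theorem isPullback_whiskerLeft {C : Type u₁} [Category.{v₁} C] [CartesianMonoidalCategory C] (P : C) {X Y : C}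
    (f : X ⟶ Y) : IsPullback (snd P X) (P ◁ f) f (snd P Y) where
  w := by simp
  isLimit' := ⟨PullbackCone.IsLimit.mk _ (fun s => lift (s.snd ≫ fst P Y) s.fst)
    (fun s => by simp) (fun s => by
      apply CartesianMonoidalCategory.hom_ext
      · simp
      · simp [s.condition])
    (fun s m h1 h2 => by
      apply CartesianMonoidalCategory.hom_ext
      · simp [← h2]
      · simpa using h1)⟩

variable {S : Scheme.{u}}

theorem isPullback_whiskerLeft_left (P : Over S) {X Y : Over S} (f : X ⟶ Y) :
    IsPullback (snd P X).left (P ◁ f).left f.left (snd P Y).left :=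
  (isPullback_whiskerLeft P f).map (Over.forget S)

variable {G X Y U : Over S} [MonObj G]

/-- An open subset stable under an action. -/
def IsStable (a : MonAct G X) (W : X.left.Opens) : Prop :=
  (snd G X).left ⁻¹ᵁ W ≤ a.act.left ⁻¹ᵁ W

/-- Preimages of stable opens along equivariant morphisms are stable. -/
theorem IsStable.preimage {a : MonAct G Y} {b : MonAct G X} {f : Y ⟶ X} (hf : IsEquivariant a b f)
    {W : X.left.Opens} (hW : IsStable b W) : IsStable a (f.left ⁻¹ᵁ W) := by
  unfold IsStable at hW ⊢
  have h1 : (snd G Y).left ⁻¹ᵁ f.left ⁻¹ᵁ W = (G ◁ f).left ⁻¹ᵁ (snd G X).left ⁻¹ᵁ W := by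
    rw [← Scheme.Hom.comp_preimage, ← Scheme.Hom.comp_preimage, ← Over.comp_left, ← Over.comp_left,
      whiskerLeft_snd]
  have h2 : a.act.left ⁻¹ᵁ f.left ⁻¹ᵁ W = (G ◁ f).left ⁻¹ᵁ b.act.left ⁻¹ᵁ W := by
    rw [← Scheme.Hom.comp_preimage, ← Scheme.Hom.comp_preimage, ← Over.comp_left, ← Over.comp_left, hf]
  rw [h1, h2]
  exact fun x hx => hW hx

/-- The range of an equivariant morphism is stable. -/
theorem range_stable {a : MonAct G U} {b : MonAct G X} {j : U ⟶ X} (hj : IsEquivariant a b j) (q : (G ⊗ X).left)
    (hq : (snd G X).left q ∈ Set.range j.left) : b.act.left q ∈ Set.range j.left := by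
  obtain ⟨u, hu⟩ := hq
  obtain ⟨r, -, hr⟩ := Scheme.exists_preimage_of_isPullback (isPullback_whiskerLeft_left G j) u q hu
  refine ⟨a.act.left r, ?_⟩
  rw [← hr]
  change (a.act.left ≫ j.left).base r = ((G ◁ j).left ≫ b.act.left).base r
  rw [← Over.comp_left, ← Over.comp_left, hj]

theorem isStable_opensRange {a : MonAct G U} {b : MonAct G X} {j : U ⟶ X} [IsOpenImmersion j.left]
    (hj : IsEquivariant a b j) : IsStable b j.left.opensRange :=
  fun q hq => range_stable hj q hq

/-- The point of `T` given by a residue field, as an object over the base. -/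
noncomputable abbrev resOver (T : Over S) (t : T.left) : Over S :=
  Over.mk (T.left.fromSpecResidueField t ≫ T.hom)

/-- The canonical morphism from the spectrum of a residue field. -/
noncomputable abbrev resMap (T : Over S) (t : T.left) : resOver T t ⟶ T :=
  Over.homMk (T.left.fromSpecResidueField t) rfl

/-- An open subset of a product is everything if it is so on all fibres. -/
theorem eq_top_of_fibres (P T : Over S) (W : (P ⊗ T).left.Opens)
    (h : ∀ t : T.left, (P ◁ resMap T t).left ⁻¹ᵁ W = ⊤) : W = ⊤ := by
  rw [eq_top_iff]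
  intro p _
  have ht : (snd P T).left p ∈ Set.range (resMap T ((snd P T).left p)).left := by
    change _ ∈ Set.range (T.left.fromSpecResidueField _)
    rw [Scheme.range_fromSpecResidueField]
    rfl
  obtain ⟨u, hu⟩ := ht
  obtain ⟨r, -, hr⟩ := Scheme.exists_preimage_of_isPullback
    (isPullback_whiskerLeft_left P (resMap T ((snd P T).left p))) u p hu
  have h1 : r ∈ (P ◁ resMap T ((snd P T).left p)).left ⁻¹ᵁ W := by
    rw [h]; trivial
  have h2 : (P ◁ resMap T ((snd P T).left p)).left r ∈ W := h1
  have h3 : (P ◁ resMap T ((snd P T).left p)).left r = p := hr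
  rwa [h3] at h2

omit [MonObj G] in
/-- A morphism whose topological image lies in the image of an open immersion factors through it. -/
theorem exists_factor_open {P X U : Over S} (j : U ⟶ X) [IsOpenImmersion j.left] (φ : P ⟶ X)
    (h : φ.left ⁻¹ᵁ j.left.opensRange = ⊤) : ∃ φ' : P ⟶ U, φ' ≫ j = φ := by
  have hr : Set.range φ.left ⊆ Set.range j.left := by
    rintro x ⟨p, hp⟩
    have : p ∈ φ.left ⁻¹ᵁ j.left.opensRange := by rw [h]; trivial
    rw [← hp]
    exact this
  have hf := IsOpenImmersion.lift_fac j.left φ.left hr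
  refine ⟨Over.homMk (IsOpenImmersion.lift j.left φ.left hr) ?_, ?_⟩
  · rw [← Over.w j, reassoc_of% hf, Over.w]
  · ext1
    exact hf

end K951.Stab
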