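import Groth.Agent.Magnet.K951.Coact
import Mathlib.AlgebraicGeometry.Morphisms.Affine

/-!
# `T`-points of the attractor `X^N` for `X` affine over `S` and `T` affine
-/

set_option autoImplicit false

universe u

open CategoryTheory MonoidalCategory CartesianMonoidalCategory MonObj AlgebraicGeometry Opposite Limits

namespace K951.AttrAff

open Magnet Magnet.MonAct K951.Pts K951.Prd K951.Coact

variable {S : Scheme.{u}}

section OfRing

variable {W Y T : Over S} [IsAffine Y.left] [IsAffine T.left] (p : Y ⟶ T) (t : W ⟶ T) (φ : Fn Y →+* Fn W)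

/-- The underlying morphism of `ofRing`. -/
noncomputable def ofRingl : W.left ⟶ Y.left :=
  toS (B := Fn Y) φ ≫ Y.left.isoSpec.inv

theorem ofRingl_appTop : (ofRingl φ).appTop = CommRingCat.ofHom φ := by
  have h1 : ofRingl φ ≫ Y.left.toSpecΓ = toS (B := Fn Y) φ := by
    rw [ofRingl, Category.assoc, Scheme.isoSpec_inv_toSpecΓ]
    exact Category.comp_id _
  have h2 := fnS_comp (ofRingl φ) (B := Fn Y) Y.left.toSpecΓ
  have h3 : fnS (B := Fn Y) Y.left.toSpecΓ = RingHom.id _ := by
    rw [fnS, Scheme.toSpecΓ_appTop]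
    exact congrArg CommRingCat.Hom.hom (Iso.inv_hom_id _)
  rw [h3, RingHom.comp_id, h1, fnS_toS] at h2
  ext1
  exact h2.symm

/-- A morphism over `S` to an affine scheme from a ring map compatible with maps to an affine scheme `T`. -/
noncomputable def ofRing (h : φ.comp (pb p) = pb t) : W ⟶ Y :=
  Over.homMk (ofRingl φ) (by
    have h1 : ofRingl φ ≫ p.left = t.left := by
      apply ext_of_isAffine
      rw [Scheme.Hom.comp_appTop, ofRingl_appTop]
      ext1
      exact h
    rw [← Over.w p, reassoc_of% h1, Over.w])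

theorem pb_ofRing (h : φ.comp (pb p) = pb t) : pb (ofRing p t φ h) = φ := by
  change (ofRingl φ).appTop.hom = φ
  rw [ofRingl_appTop]; rfl

theorem ofRing_comp (h : φ.comp (pb p) = pb t) : ofRing p t φ h ≫ p = t := by
  apply hom_ext_pb
  rw [pb_comp, pb_ofRing, h]

end OfRing

theorem isAffine_tensor (X T : Over S) [IsAffineHom X.hom] [IsAffine T.left] : IsAffine (X ⊗ T).left :=
  inferInstanceAs (IsAffine (pullback X.hom T.hom))

variable {M : Type} [AddCommMonoid M] {X : Over S} (a : MonAct (AMonS S M) X) (N : AddSubmonoid M)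
  (T : Over S) [IsAffine T.left]

section Source

/-- The action of `A(M)_S` on `A(N)_S ×_S T`. -/
noncomputable abbrev rho : MonAct (AMonS S M) (AMonS S N ⊗ T) :=
  (subAct S M N).prod (MonAct.trivial (AMonS S M) T)

theorem isAffine_source : IsAffine (AMonS S N ⊗ T).left := isAffine_prod _ T

attribute [local instance] isAffine_tensor isAffine_source

theorem isHomog_gam_single (n : N) (b : Fn T) :
    IsHomog (rho N T) (n : M) (gam T N (MonoidAlgebra.single (Multiplicative.ofAdd n) b)) := by
  rw [isHomog_iff]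
  intro W g z
  rw [← lift_comp_fst_snd z, lift_prod_act, lift_trivial_act, subAct, lift_restrict_act, lift_regular_act,
    pb_lift_gam_apply, pb_lift_gam_apply, evl_single, evl_single, chi_mul]
  change _ * (chi (g ≫ AMonS.map S N.subtype) (Multiplicative.ofAdd n) *
    chi (z ≫ fst (AMonS S N) T) (Multiplicative.ofAdd n)) = _
  rw [chi_map_apply]
  change _ * (chi g (Multiplicative.ofAdd (n : M)) * _) = _
  ring

theorem cmp_gam (m : M) (p : MonoidAlgebra (Fn T) (Multiplicative N)) :
    Coact.cmp (rho N T) m (gam T N p) = p.coeff.sum fun n b =>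
      Coact.cmp (rho N T) m (gam T N (MonoidAlgebra.single n b)) := by
  conv_lhs => rw [← MonoidAlgebra.sum_coeff_single p]
  rw [Finsupp.sum, map_sum]
  let c : Fn (AMonS S N ⊗ T) →+ Fn (AMonS S N ⊗ T) :=
    ⟨⟨Coact.cmp (rho N T) m, by rw [Coact.cmp, map_zero]; rfl⟩, cmp_add _ m⟩
  exact map_sum c _ _

/-- A homogeneous function on `A(N)_S ×_S T` of degree outside `N` vanishes. -/
theorem eq_zero_of_isHomog {m : M} (hm : m ∉ N) {F : Fn (AMonS S N ⊗ T)} (hF : IsHomog (rho N T) m F) : F = 0 := by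
  obtain ⟨p, rfl⟩ := (gam_bijective N T).2 F
  rw [← cmp_of_isHomog _ hF, cmp_gam]
  refine Finset.sum_eq_zero fun n _ => ?_
  refine cmp_of_isHomog_ne _ (isHomog_gam_single N T (Multiplicative.toAdd n) (p.coeff n)) ?_
  rintro rfl
  exact hm (Multiplicative.toAdd n).2

/-- A homogeneous function on `A(N)_S ×_S T` of degree in `N` is a monomial. -/
theorem exists_single_of_isHomog {m : N} {F : Fn (AMonS S N ⊗ T)} (hF : IsHomog (rho N T) (m : M) F) :
    ∃ b : Fn T, F = gam T N (MonoidAlgebra.single (Multiplicative.ofAdd m) b) := by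
  obtain ⟨p, rfl⟩ := (gam_bijective N T).2 F
  refine ⟨p.coeff (Multiplicative.ofAdd m), ?_⟩
  conv_lhs => rw [← cmp_of_isHomog _ hF, cmp_gam]
  rw [Finsupp.sum]
  by_cases hm : Multiplicative.ofAdd m ∈ p.coeff.support
  · rw [Finset.sum_eq_single_of_mem _ hm]
    · exact cmp_of_isHomog _ (isHomog_gam_single N T m _)
    · intro n _ hn
      refine cmp_of_isHomog_ne _ (isHomog_gam_single N T (Multiplicative.toAdd n) (p.coeff n)) ?_
      intro h
      exact hn (Multiplicative.toAdd.injective (Subtype.ext h.symm))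
  · rw [Finsupp.notMem_support_iff.1 hm, MonoidAlgebra.single_zero, map_zero]
    refine Finset.sum_eq_zero fun n hn => ?_
    refine cmp_of_isHomog_ne _ (isHomog_gam_single N T (Multiplicative.toAdd n) (p.coeff n)) ?_
    intro h
    have : Multiplicative.ofAdd m = n := Multiplicative.toAdd.injective (Subtype.ext h)
    exact hm (this ▸ hn)

/-- The unit section of `A(N)_S ×_S T` over `T`. -/
noncomputable abbrev uSec : T ⟶ AMonS S N ⊗ T := lift (toUnit T ≫ η[AMonS S N]) (𝟙 T)

omit [IsAffine T.left] in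
theorem pb_uSec_gam (p : MonoidAlgebra (Fn T) (Multiplicative N)) :
    pb (uSec N T) (gam T N p) = p.coeff.sum fun _ (b : Fn T) => b := by
  rw [uSec, pb_lift_gam_apply, evl_apply]
  refine Finsupp.sum_congr fun n _ => ?_
  have h : (toUnit T ≫ η[AMonS S N]) = 1 := by rw [Hom.one_def]
  rw [h, chi_one, pb_id, RingHom.id_apply, MonoidHom.one_apply, _root_.mul_one]

theorem eq_of_isHomog {m : N} {F : Fn (AMonS S N ⊗ T)} (hF : IsHomog (rho N T) (m : M) F) :
    F = gam T N (MonoidAlgebra.single (Multiplicative.ofAdd m) (pb (uSec N T) F)) := by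
  obtain ⟨b, rfl⟩ := exists_single_of_isHomog N T hF
  congr 2
  rw [pb_uSec_gam, MonoidAlgebra.coeff_single, Finsupp.sum_single_index rfl]

end Source

section Target

attribute [local instance] isAffine_tensor isAffine_source

variable [IsAffineHom X.hom]

/-- The action of `A(M)_S` on `X ×_S T`. -/
noncomputable abbrev aT : MonAct (AMonS S M) (X ⊗ T) := a.prod (MonAct.trivial (AMonS S M) T)

theorem isHomog_pb_snd (c : Fn T) : IsHomog (aT a T) 0 (pb (snd X T) c) :=
  IsHomog.pb (isEquivariant_prod_snd _ _) (isHomog_trivial c)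

variable {a T}

omit [IsAffine T.left] [IsAffineHom X.hom] in
/-- The morphism `A(N)_S ×_S T → X ×_S T` over `T`, for a family `φ`. -/
theorem isEquivariant_lift {φ : AMonS S N ⊗ T ⟶ X} (hφ : IsEquivariant (rho N T) a φ) :
    IsEquivariant (rho N T) (aT a T) (lift φ (snd _ _)) := by
  rw [isEquivariant_iff]
  intro W g z
  rw [isEquivariant_iff] at hφ
  have h1 := hφ W g z
  have h2 : lift g z ≫ (rho N T).act ≫ snd (AMonS S N) T = z ≫ snd (AMonS S N) T := by
    conv_lhs => rw [← lift_comp_fst_snd z]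
    rw [lift_prod_act_assoc, lift_snd, lift_trivial_act]
  rw [comp_lift, comp_lift, h1, h2, comp_lift, lift_prod_act, lift_trivial_act]

/-- The point of an equivariant family: homogeneous functions of degree outside `N` vanish on it. -/
theorem pb_eq_zero {φ : AMonS S N ⊗ T ⟶ X} (hφ : IsEquivariant (rho N T) a φ) {m : M} (hm : m ∉ N)
    {f : Fn (X ⊗ T)} (hf : IsHomog (aT a T) m f) : pb (lift (uSec N T ≫ φ) (𝟙 T)) f = 0 := by
  have h1 : lift (uSec N T ≫ φ) (𝟙 T) = uSec N T ≫ lift φ (snd _ _) := by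
    rw [comp_lift, lift_snd]
  rw [h1, pb_comp_apply, eq_zero_of_isHomog N T hm (IsHomog.pb (isEquivariant_lift N hφ) hf), map_zero]

/-- Equivariant families are determined by their value at the unit section. -/
theorem eq_of_uSec_eq {φ φ' : AMonS S N ⊗ T ⟶ X} (hφ : IsEquivariant (rho N T) a φ)
    (hφ' : IsEquivariant (rho N T) a φ') (h : uSec N T ≫ φ = uSec N T ≫ φ') : φ = φ' := by
  have h1 : lift φ (snd (AMonS S N) T) = lift φ' (snd _ _) := by
    apply hom_ext_pb
    apply ringHom_ext_homog (aT a T)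
    intro m f hf
    have e1 := IsHomog.pb (isEquivariant_lift N hφ) hf
    have e2 := IsHomog.pb (isEquivariant_lift N hφ') hf
    by_cases hm : m ∈ N
    · rw [eq_of_isHomog N T (m := ⟨m, hm⟩) e1, eq_of_isHomog N T (m := ⟨m, hm⟩) e2, ← pb_comp_apply, ← pb_comp_apply,
        comp_lift, comp_lift, h]
    · rw [eq_zero_of_isHomog N T hm e1, eq_zero_of_isHomog N T hm e2]
  have h2 := congrArg (fun u => u ≫ fst X T) h1
  simpa only [lift_fst] using h2

/-- Lifting a ring map through an injective one. -/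
theorem exists_lift_of_range_le {A B C : Type*} [CommRing A] [CommRing B] [CommRing C] (io : B →+* C)
    (hio : Function.Injective io) (θ : A →+* C) (h : ∀ x, ∃ y, io y = θ x) : ∃ ψ : A →+* B, ∀ x, io (ψ x) = θ x := by
  choose ψ hψ using h
  exact ⟨{ toFun := ψ
           map_one' := hio (by rw [hψ, map_one, map_one])
           map_mul' := fun x y => hio (by rw [hψ, map_mul, map_mul, hψ, hψ])
           map_zero' := hio (by rw [hψ, map_zero, map_zero])
           map_add' := fun x y => hio (by rw [hψ, map_add, map_add, hψ, hψ]) }, hψ⟩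

variable (a) in
/-- EXISTENCE: a point of `X` on which the homogeneous functions of degree outside `N` vanish extends to an equivariant
family. -/
theorem exists_of_pb_eq_zero (x : T ⟶ X)
    (hx : ∀ m ∉ N, ∀ f : Fn (X ⊗ T), IsHomog (aT a T) m f → pb (lift x (𝟙 T)) f = 0) :
    ∃ φ : AMonS S N ⊗ T ⟶ X, IsEquivariant (rho N T) a φ ∧ uSec N T ≫ φ = x := by
  let io : MonoidAlgebra (Fn T) (Multiplicative N) →+* MonoidAlgebra (Fn T) (Multiplicative M) :=
    MonoidAlgebra.mapDomainRingHom (Fn T) (AddMonoidHom.toMultiplicative N.subtype)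
  have hio : Function.Injective io :=
    MonoidAlgebra.mapDomain_injective fun _ _ h =>
      Multiplicative.toAdd.injective (Subtype.ext (Multiplicative.ofAdd.injective h))
  let θ : Fn (X ⊗ T) →+* MonoidAlgebra (Fn T) (Multiplicative M) :=
    (MonoidAlgebra.mapRingHom (Multiplicative M) (pb (lift x (𝟙 T)))).comp (coact (aT a T))
  have hθ : ∀ m f, IsHomog (aT a T) m f →
      θ f = MonoidAlgebra.single (Multiplicative.ofAdd m) (pb (lift x (𝟙 T)) f) := by
    intro m f hf
    simp only [θ, RingHom.comp_apply]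
    rw [hf, MonoidAlgebra.mapRingHom_single]
  have hr : ∀ f, ∃ y, io y = θ f := by
    intro f
    refine homog_induction (aT a T) (P := fun f => ∃ y, io y = θ f) ⟨0, by rw [map_zero, map_zero]⟩ ?_ ?_ f
    · rintro f g ⟨y, hy⟩ ⟨z, hz⟩
      exact ⟨y + z, by rw [map_add, map_add, hy, hz]⟩
    · intro m f hf
      rw [hθ m f hf]
      by_cases hm : m ∈ N
      · refine ⟨MonoidAlgebra.single (Multiplicative.ofAdd ⟨m, hm⟩) (pb (lift x (𝟙 T)) f), ?_⟩
        simp [io]
      · refine ⟨0, ?_⟩
        rw [map_zero, hx m hm f hf, MonoidAlgebra.single_zero]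
  obtain ⟨ψ, hψ⟩ := exists_lift_of_range_le io hio θ hr
  have hψh : ∀ (m : N) f, IsHomog (aT a T) (m : M) f →
      ψ f = MonoidAlgebra.single (Multiplicative.ofAdd m) (pb (lift x (𝟙 T)) f) := by
    intro m f hf
    apply hio
    rw [hψ, hθ _ f hf]
    simp [io]
  have hψ0 : ∀ m ∉ N, ∀ f, IsHomog (aT a T) m f → ψ f = 0 := by
    intro m hm f hf
    apply hio
    rw [hψ, hθ _ f hf, hx m hm f hf, MonoidAlgebra.single_zero, map_zero]
  have hbase : ((gam T N).comp ψ).comp (pb (snd X T)) = pb (snd (AMonS S N) T) := by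
    apply RingHom.ext
    intro c
    have h0 : ψ (pb (snd X T) c) = MonoidAlgebra.single (Multiplicative.ofAdd (0 : N)) c := by
      rw [hψh 0 _ (isHomog_pb_snd a T c), ← pb_comp_apply, lift_snd, pb_id, RingHom.id_apply]
    rw [RingHom.comp_apply, RingHom.comp_apply, h0, gam_single]
    have : chi (fst (AMonS S N) T) (Multiplicative.ofAdd (0 : N)) = 1 := map_one _
    rw [this, _root_.mul_one]
  let Φ : AMonS S N ⊗ T ⟶ X ⊗ T := ofRing (snd X T) (snd (AMonS S N) T) ((gam T N).comp ψ) hbase
  have hΦ : pb Φ = (gam T N).comp ψ := pb_ofRing _ _ _ _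
  have hΦeq : IsEquivariant (rho N T) (aT a T) Φ := by
    apply isEquivariant_of_homog
    intro m f hf
    rw [hΦ, RingHom.comp_apply]
    by_cases hm : m ∈ N
    · rw [hψh ⟨m, hm⟩ f hf]
      exact isHomog_gam_single N T ⟨m, hm⟩ _
    · rw [hψ0 m hm f hf, map_zero]
      exact isHomog_zero _ m
  refine ⟨Φ ≫ fst X T, hΦeq.comp (isEquivariant_prod_fst _ _), ?_⟩
  have h1 : uSec N T ≫ Φ = lift x (𝟙 T) := by
    apply hom_ext_pb
    apply ringHom_ext_homog (aT a T)
    intro m f hf
    rw [pb_comp_apply, hΦ, RingHom.comp_apply]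
    by_cases hm : m ∈ N
    · rw [hψh ⟨m, hm⟩ f hf, pb_uSec_gam, MonoidAlgebra.coeff_single, Finsupp.sum_single_index rfl]
    · rw [hψ0 m hm f hf, map_zero, map_zero, hx m hm f hf]
  rw [← Category.assoc, h1, lift_fst]

/-- THE `T`-POINTS OF THE ATTRACTOR, for `X` affine over `S` and `T` affine: the points of `X` on which the homogeneous
functions on `X ×_S T` of degree outside `N` vanish. -/
theorem mem_range_attrToX_iff (x : T ⟶ X) :
    (∃ φ : (attr a N).obj (op T), (attrToX a N).app (op T) φ = x) ↔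
      ∀ m ∉ N, ∀ f : Fn (X ⊗ T), IsHomog (aT a T) m f → pb (lift x (𝟙 T)) f = 0 := by
  constructor
  · rintro ⟨φ, rfl⟩ m hm f hf
    exact pb_eq_zero N φ.2 hm hf
  · intro hx
    obtain ⟨φ, h1, h2⟩ := exists_of_pb_eq_zero a N x hx
    exact ⟨⟨φ, h1⟩, h2⟩

/-- The attractor of an affine scheme is a subfunctor, on affine `T`. -/
theorem attrToX_injective_of_isAffine {φ φ' : (attr a N).obj (op T)}
    (h : (attrToX a N).app (op T) φ = (attrToX a N).app (op T) φ') : φ = φ' :=
  Subtype.ext (eq_of_uSec_eq N φ.2 φ'.2 h)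

end Target

end K951.AttrAff
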