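import Mathlib.CategoryTheory.Sites.SubcanonicalOver
import Groth.Prelude.Def_Magnet

/-!
# The fixed-point subpresheaf and the functor of equivariant maps are sheaves for every subcanonical topology
-/

set_option autoImplicit false

universe v₁ u₁ w

open CategoryTheory MonoidalCategory CartesianMonoidalCategory MonObj Opposite Limits

namespace K951.Shf

open Magnet Magnet.MonAct

variable {C : Type u₁} [Category.{v₁} C] [CartesianMonoidalCategory C] {A B X : C} [MonObj A]
  (J : GrothendieckTopology C) [J.Subcanonical]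

omit [CartesianMonoidalCategory C] in
/-- Morphisms out of `T` are determined on a covering sieve of a subcanonical topology. -/
theorem hom_ext_of_mem {T X : C} {R : Sieve T} (hR : R ∈ J T) {f g : T ⟶ X}
    (h : ∀ ⦃W : C⦄ (w : W ⟶ T), R w → w ≫ f = w ≫ g) : f = g :=
  ((GrothendieckTopology.Subcanonical.isSheaf_of_isRepresentable (J := J) (yoneda.obj X)) R hR).isSeparatedFor.ext
    fun _ w hw => h w hw

omit [CartesianMonoidalCategory C] in
/-- Morphisms into `X` glue over a covering sieve of a subcanonical topology. -/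
theorem exists_glue {T X : C} {R : Sieve T} (hR : R ∈ J T) (x : ∀ ⦃W : C⦄ (w : W ⟶ T), R w → (W ⟶ X))
    (hx : ∀ ⦃W W' : C⦄ (w : W ⟶ T) (hw : R w) (v : W' ⟶ W), x (v ≫ w) (R.downward_closed hw v) = v ≫ x w hw) :
    ∃ f : T ⟶ X, ∀ ⦃W : C⦄ (w : W ⟶ T) (hw : R w), w ≫ f = x w hw := by
  have hs := (GrothendieckTopology.Subcanonical.isSheaf_of_isRepresentable (J := J) (yoneda.obj X)) R hR
  let fam : Presieve.FamilyOfElements (yoneda.obj X) R.arrows := fun W w hw => x w hw
  have hc : fam.Compatible := by
    rw [Presieve.compatible_iff_sieveCompatible]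
    intro W W' w v hw
    exact hx w hw v
  refine ⟨hs.amalgamate fam hc, fun W w hw => ?_⟩
  exact hs.valid_glue hc w hw

/-- The fixed-point subpresheaf of an action is a sheaf for every subcanonical topology. -/
theorem isSheaf_fixedPsh (a : MonAct A X) : Presieve.IsSheaf J (fixedPsh a) := by
  intro T R hR fam hfam
  rw [Presieve.compatible_iff_sieveCompatible] at hfam
  obtain ⟨f, hf⟩ := exists_glue J hR (fun W w hw => (fam w hw).1) (fun W W' w hw v => by
    have := congrArg Subtype.val (hfam w v hw)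
    exact this)
  have hfix : ∀ (T' : C) (t : T' ⟶ T) (g : T' ⟶ A), lift g (t ≫ f) ≫ a.act = t ≫ f := by
    intro T' t g
    apply hom_ext_of_mem J (J.pullback_stable t hR)
    intro W w hw
    rw [← Category.assoc, comp_lift, ← Category.assoc, hf (w ≫ t) hw]
    have := (fam (w ≫ t) hw).2 W (𝟙 _) (w ≫ g)
    rwa [Category.id_comp] at this
  refine ⟨⟨f, hfix⟩, fun W w hw => Subtype.ext (hf w hw), fun y hy => Subtype.ext ?_⟩
  apply hom_ext_of_mem J hR
  intro W w hw
  rw [hf w hw]
  exact congrArg Subtype.val (hy w hw)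

/-- The functor of equivariant maps is a sheaf for every subcanonical topology. -/
theorem isSheaf_eqvHom (ρ : MonAct A B) (a : MonAct A X) : Presieve.IsSheaf J (eqvHom ρ a) := by
  intro T R hR fam hfam
  rw [Presieve.compatible_iff_sieveCompatible] at hfam
  have hR' : R.pullback (snd B T) ∈ J (B ⊗ T) := J.pullback_stable _ hR
  obtain ⟨ψ, hψ⟩ := exists_glue J hR' (fun W w hw => lift (w ≫ fst B T) (𝟙 W) ≫ (fam (w ≫ snd B T) hw).1)
    (fun W W' w hw v => by
      have h1 := congrArg Subtype.val (hfam (w ≫ snd B T) v hw)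
      have h2 : (fam (v ≫ w ≫ snd B T) (R.downward_closed hw v)).1 = (B ◁ v) ≫ (fam (w ≫ snd B T) hw).1 := h1
      have h3 : (fam ((v ≫ w) ≫ snd B T) (by rw [Category.assoc]; exact R.downward_closed hw v)).1 =
          (B ◁ v) ≫ (fam (w ≫ snd B T) hw).1 := by
        rw [← h2]; congr 2; simp only [Category.assoc]
      rw [h3, lift_whiskerLeft_assoc, ← Category.assoc v, comp_lift, Category.id_comp, Category.comp_id, Category.assoc])
  have hval : ∀ (W : C) (b : W ⟶ B) (t : W ⟶ T) (ht : R t), lift b t ≫ ψ = lift b (𝟙 W) ≫ (fam t ht).1 := by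
    intro W b t ht
    rw [hψ (lift b t) (by change R (lift b t ≫ snd B T); rwa [lift_snd])]
    simp only [lift_fst]
    congr 3
    simp only [lift_snd]
  have heq : IsEquivariant (ρ.prod (MonAct.trivial A T)) a ψ := by
    rw [mem_eqvHom_iff]
    intro T' g b t
    apply hom_ext_of_mem J (J.pullback_stable t hR)
    intro W w hw
    have h1 := (fam (w ≫ t) hw).2
    rw [mem_eqvHom_iff] at h1
    rw [← Category.assoc, comp_lift, ← Category.assoc, comp_lift, ← Category.assoc, comp_lift, ← Category.assoc w,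
      comp_lift, hval _ _ _ hw, hval _ _ _ hw, h1]
  refine ⟨⟨ψ, heq⟩, fun W w hw => Subtype.ext ?_, fun y hy => Subtype.ext ?_⟩
  · change (B ◁ w) ≫ ψ = _
    have h1 := congrArg Subtype.val (hfam w (snd B W) hw)
    have h2 : (fam (snd B W ≫ w) (R.downward_closed hw _)).1 = (B ◁ snd B W) ≫ (fam w hw).1 := h1
    rw [show B ◁ w = lift (fst B W) (snd B W ≫ w) from by
      apply CartesianMonoidalCategory.hom_ext <;> simp, hval _ _ _ (R.downward_closed hw _), h2,
      lift_whiskerLeft_assoc, Category.id_comp, lift_fst_snd, Category.id_comp]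
  · apply hom_ext_of_mem J hR'
    intro W w hw
    have h1 := congrArg Subtype.val (hy (w ≫ snd B T) hw)
    have h2 : (B ◁ (w ≫ snd B T)) ≫ y.1 = (fam (w ≫ snd B T) hw).1 := h1
    rw [hψ w hw]
    dsimp only
    rw [← h2, lift_whiskerLeft_assoc, Category.id_comp, lift_comp_fst_snd]

end K951.Shf
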