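import Groth.Agent.Magnet.K951.Prod
import Mathlib.AlgebraicGeometry.Morphisms.ClosedImmersion

/-!
# Closed subschemes of an affine object over `S`, and restriction to open subschemes
-/

set_option autoImplicit false

universe u

open CategoryTheory MonoidalCategory CartesianMonoidalCategory MonObj AlgebraicGeometry Opposite Limits

namespace K951.ClSub

open Magnet K951.Pts K951.Prd

variable {S : Scheme.{u}}

section

variable (X : Over S) [IsAffine X.left] {B : Type u} [CommRing B] (ψ : Fn X →+* B)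

/-- `Spec B` over `S` for a ring map from the functions on the affine scheme `X`. -/
noncomputable def sp : Over S := Over.mk (Spec.map (CommRingCat.ofHom ψ) ≫ X.left.isoSpec.inv ≫ X.hom)

/-- The structure map to `X`. -/
noncomputable def spι : sp X ψ ⟶ X := Over.homMk (Spec.map (CommRingCat.ofHom ψ) ≫ X.left.isoSpec.inv) (Category.assoc _ _ _)

instance isAffine_sp : IsAffine (sp X ψ).left := inferInstanceAs (IsAffine (Spec (CommRingCat.of B)))

/-- The functions on `Spec B`. -/
noncomputable def spE : B →+* Fn (sp X ψ) := (Scheme.ΓSpecIso (CommRingCat.of B)).inv.hom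

theorem spE_bijective : Function.Bijective (spE X ψ) :=
  ConcreteCategory.bijective_of_isIso (Scheme.ΓSpecIso (CommRingCat.of B)).inv

theorem pb_spι (b : Fn X) : pb (spι X ψ) b = spE X ψ (ψ b) := by
  have h1 : (Spec.map (CommRingCat.ofHom ψ) ≫ X.left.isoSpec.inv) ≫ X.left.toSpecΓ =
      Spec.map (CommRingCat.ofHom ψ) := by
    rw [Category.assoc, Scheme.isoSpec_inv_toSpecΓ]
    exact Category.comp_id _
  have h2 := fnS_comp (Spec.map (CommRingCat.ofHom ψ) ≫ X.left.isoSpec.inv) (B := Fn X) X.left.toSpecΓ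
  rw [h1] at h2
  have h3 : fnS (B := Fn X) X.left.toSpecΓ = RingHom.id _ := by
    rw [fnS, Scheme.toSpecΓ_appTop]
    exact congrArg CommRingCat.Hom.hom (Iso.inv_hom_id _)
  rw [h3, RingHom.comp_id] at h2
  have h4 := fnS_comp_map (𝟙 _) ψ
  rw [Category.id_comp, h2] at h4
  have h5 := congr($h4 b)
  refine h5.trans ?_
  have h6 : fnS (𝟙 (Spec (CommRingCat.of B))) = spE X ψ := by
    rw [fnS, Scheme.Hom.id_appTop, Category.comp_id]
    rfl
  rw [h6]
  rfl

/-- The underlying morphism of `toSp`. -/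
noncomputable def toSpl {W : Over S} (φ : B →+* Fn W) : W.left ⟶ (sp X ψ).left := toS φ

theorem toSpl_appTop {W : Over S} (φ : B →+* Fn W) (p : B) : (toSpl X ψ φ).appTop.hom (spE X ψ p) = φ p :=
  congr($(fnS_toS φ) p)

theorem toSpl_comp {W : Over S} (φ : B →+* Fn W) (x : W ⟶ X) (h : φ.comp ψ = pb x) :
    toSpl X ψ φ ≫ (spι X ψ).left = x.left := by
  apply ext_of_isAffine
  ext1
  apply RingHom.ext
  intro b
  have h2 := pb_spι X ψ b
  have h3 : (spι X ψ).left.appTop.hom b = spE X ψ (ψ b) := h2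
  rw [Scheme.Hom.comp_appTop, CommRingCat.hom_comp, RingHom.comp_apply, h3, toSpl_appTop]
  exact congr($h b)

/-- Ring maps give morphisms over `S`. -/
noncomputable def toSp {W : Over S} (φ : B →+* Fn W) (x : W ⟶ X) (h : φ.comp ψ = pb x) : W ⟶ sp X ψ :=
  Over.homMk (toSpl X ψ φ) (by rw [← Over.w (spι X ψ), ← Category.assoc, toSpl_comp X ψ φ x h, Over.w])

theorem toSp_spι {W : Over S} (φ : B →+* Fn W) (x : W ⟶ X) (h : φ.comp ψ = pb x) : toSp X ψ φ x h ≫ spι X ψ = x := by
  ext1
  exact toSpl_comp X ψ φ x h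

theorem pb_toSp {W : Over S} (φ : B →+* Fn W) (x : W ⟶ X) (h : φ.comp ψ = pb x) (p : B) :
    pb (toSp X ψ φ x h) (spE X ψ p) = φ p := toSpl_appTop X ψ φ p

theorem isClosedImmersion_spι (hψ : Function.Surjective ψ) : IsClosedImmersion (spι X ψ).left := by
  have h1 : IsClosedImmersion (Spec.map (CommRingCat.ofHom ψ)) := IsClosedImmersion.spec_of_surjective _ hψ
  have h2 : IsClosedImmersion (Spec.map (CommRingCat.ofHom ψ) ≫ X.left.isoSpec.inv) :=
    IsClosedImmersion.comp _ _
  exact h2

end

section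

variable (X : Over S) [IsAffine X.left] (I : Ideal (Fn X))

/-- The closed subscheme of an ideal of functions. -/
noncomputable abbrev cl : Over S := sp X (Ideal.Quotient.mk I)

/-- Its inclusion. -/
noncomputable abbrev clι : cl X I ⟶ X := spι X (Ideal.Quotient.mk I)

theorem isClosedImmersion_clι : IsClosedImmersion (clι X I).left :=
  isClosedImmersion_spι X _ Ideal.Quotient.mk_surjective

theorem exists_factor_cl_iff {T : Over S} (x : T ⟶ X) : (∃ z : T ⟶ cl X I, z ≫ clι X I = x) ↔ ∀ f ∈ I, pb x f = 0 := by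
  constructor
  · rintro ⟨z, rfl⟩ f hf
    rw [pb_comp_apply, pb_spι, Ideal.Quotient.eq_zero_iff_mem.2 hf, map_zero, map_zero]
  · intro h
    exact ⟨toSp X _ (Ideal.Quotient.lift I (pb x) h) x (Ideal.Quotient.lift_comp_mk _ _ _), toSp_spι _ _ _ _ _⟩

end

section

/-- Ring maps into the functions, compatible with a map to an affine base, give morphisms. -/
theorem exists_hom {T X : Over S} [IsAffine X.left] [IsAffine S] (φ : Fn X →+* Fn T)
    (h : φ.comp X.hom.appTop.hom = T.hom.appTop.hom) : ∃ x : T ⟶ X, pb x = φ := by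
  let x₀ : T.left ⟶ X.left := T.left.toSpecΓ ≫ Spec.map (CommRingCat.ofHom φ) ≫ X.left.isoSpec.inv
  have h0 : x₀.appTop.hom = φ := by
    have h1 : x₀ ≫ X.left.toSpecΓ = toS φ := by
      simp only [x₀, Category.assoc]
      rw [Scheme.isoSpec_inv_toSpecΓ]
      simp only [toS]
      exact congrArg _ (Category.comp_id _)
    have h2 := fnS_comp x₀ (B := Fn X) X.left.toSpecΓ
    have h3 : fnS (B := Fn X) X.left.toSpecΓ = RingHom.id _ := by
      rw [fnS, Scheme.toSpecΓ_appTop]
      exact congrArg CommRingCat.Hom.hom (Iso.inv_hom_id _)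
    rw [h1, h3, RingHom.comp_id, fnS_toS] at h2
    exact h2.symm
  refine ⟨Over.homMk x₀ ?_, h0⟩
  apply ext_of_isAffine
  rw [Scheme.Hom.comp_appTop]
  ext1
  rw [CommRingCat.hom_comp, h0, h]

end

section

/-- The restriction of an object over `S` to an open subscheme. -/
noncomputable abbrev opT (T : Over S) (U : T.left.Opens) : Over S := Over.mk (U.ι ≫ T.hom)

/-- The inclusion of an open subscheme. -/
noncomputable abbrev opι (T : Over S) (U : T.left.Opens) : opT T U ⟶ T := Over.homMk U.ι rfl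

/-- A function vanishing on all affine open subschemes vanishes. -/
theorem eq_zero_of_opT (T : Over S) (f : Fn T) (h : ∀ U : T.left.affineOpens, pb (opι T U.1) f = 0) : f = 0 := by
  refine TopCat.Sheaf.eq_of_locally_eq' T.left.sheaf (fun U : T.left.affineOpens => U.1) ⊤
    (fun U => homOfLE le_top) (iSup_affineOpens_eq_top T.left).ge f 0 fun U => ?_
  refine Eq.trans ?_ (map_zero (T.left.presheaf.map (homOfLE le_top : U.1 ⟶ ⊤).op).hom).symm
  have h2 : T.left.presheaf.map (homOfLE le_top : U.1 ⟶ ⊤).op = U.1.ι.appTop ≫ U.1.topIso.hom := by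
    rw [Scheme.Opens.ι_appTop, Scheme.Opens.topIso_hom]
    exact Functor.map_comp _ _ _
  have h3 : (U.1.ι.appTop ≫ U.1.topIso.hom).hom f = 0 := by
    rw [CommRingCat.hom_comp, RingHom.comp_apply]
    exact (congrArg U.1.topIso.hom.hom (h U)).trans (map_zero _)
  rw [← h2] at h3
  exact h3

end

end K951.ClSub
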