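import Groth.Agent.Magnet.K951.StabGrp
import Groth.Agent.Magnet.K951.ClSub
import Groth.Agent.Magnet.K949.Dominant
import Mathlib.Algebra.Polynomial.Coeff
import Mathlib.Algebra.Polynomial.Monomial

/-!
# Equivariant maps out of `A¹ × Y` over a field are determined by their restrictions to the infinitesimal neighbourhoods of
`0 × Y`
-/

set_option autoImplicit false
set_option linter.unusedSectionVars false

universe u

open CategoryTheory MonoidalCategory CartesianMonoidalCategory MonObj AlgebraicGeometry Opposite Limits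

namespace K951.Nilp

open Magnet Magnet.MonAct K951.Pts K951.Prd K951.ClSub K951.StabGrp K951.Dense K951.Stab

/-- The non-negative integers. -/
abbrev Nn : AddSubmonoid ℤ := AddSubmonoid.multiples (1 : ℤ)

theorem nonneg (z : Nn) : 0 ≤ (z : ℤ) := by
  obtain ⟨z, n, rfl⟩ := z
  simp

theorem toNat_eq_zero (z : Nn) (h : (z : ℤ).toNat = 0) : z = 0 := by
  apply Subtype.ext
  have := nonneg z
  change (z : ℤ) = 0
  omega

theorem toNat_injective (z z' : Nn) (h : (z : ℤ).toNat = (z' : ℤ).toNat) : z = z' := by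
  apply Subtype.ext
  have := nonneg z
  have := nonneg z'
  omega

/-- The character attached to a power. -/
def pw {B : Type u} [CommRing B] (b : B) : Multiplicative Nn →* B where
  toFun z := b ^ (z.toAdd : ℤ).toNat
  map_one' := by simp
  map_mul' z z' := by
    have h1 := nonneg z.toAdd
    have h2 := nonneg z'.toAdd
    rw [toAdd_mul, ← pow_add]
    congr 1
    rw [AddSubmonoid.coe_add, Int.toNat_add h1 h2]

theorem pw_apply {B : Type u} [CommRing B] (b : B) (z : Multiplicative Nn) : pw b z = b ^ (z.toAdd : ℤ).toNat := rfl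

section Gen

variable {S : Scheme.{u}}

/-- The point of the affine line given by a function. -/
noncomputable def co {T : Over S} (b : Fn T) : T ⟶ AMonS S Nn := ofChi (pw b)

theorem chi_co {T : Over S} (b : Fn T) (z : Multiplicative Nn) : chi (co b) z = b ^ (z.toAdd : ℤ).toNat := by
  rw [co, chi_ofChi, pw_apply]

theorem comp_co {T T' : Over S} (t : T' ⟶ T) (b : Fn T) : t ≫ co b = co (pb t b) := by
  apply chi_injective
  apply MonoidHom.ext
  intro z
  rw [chi_comp, chi_co, chi_co, map_pow]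

/-- The zero section. -/
noncomputable def zo (S : Scheme.{u}) : 𝟙_ (Over S) ⟶ AMonS S Nn := co 0

theorem toUnit_zo (T : Over S) : toUnit T ≫ zo S = co 0 := by
  rw [zo, comp_co, map_zero]

theorem co_zero_mul {T : Over S} (m : T ⟶ AMonS S Nn) : co 0 * m = co 0 := by
  apply chi_injective
  apply MonoidHom.ext
  intro z
  rw [chi_mul, MonoidHom.mul_apply, chi_co]
  by_cases h : (z.toAdd : ℤ).toNat = 0
  · have h1 : z = 1 := toNat_eq_zero _ h
    rw [h1, (chi m).map_one, _root_.mul_one]
  · rw [zero_pow h, zero_mul]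

/-- Points with nilpotent coordinate are nilpotent. -/
theorem co_pow {T : Over S} (b : Fn T) (n : ℕ) (hb : b ^ (n + 1) = 0) : (co b : T ⟶ AMonS S Nn) ^ (n + 1) = co 0 := by
  apply chi_injective
  apply MonoidHom.ext
  intro z
  have h1 : ∀ j : ℕ, chi ((co b : T ⟶ AMonS S Nn) ^ j) z = (chi (co b) z) ^ j := by
    intro j
    induction j with
    | zero => rw [_root_.pow_zero, _root_.pow_zero, chi_one, MonoidHom.one_apply]
    | succ j ih => rw [pow_succ, pow_succ, chi_mul, MonoidHom.mul_apply, ih]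
  rw [h1, chi_co, chi_co, ← pow_mul]
  by_cases h : (z.toAdd : ℤ).toNat = 0
  · rw [h, zero_mul, _root_.pow_zero, _root_.pow_zero]
  · rw [zero_pow h, mul_comm, pow_mul, hb, zero_pow h]

end Gen

section Coeff

open Polynomial

variable {B : Type u} [CommRing B]

/-- The polynomial attached to an element of the monoid algebra. -/
noncomputable def toPoly (p : MonoidAlgebra B (Multiplicative Nn)) : B[X] :=
  p.coeff.sum fun z b => monomial (z.toAdd : ℤ).toNat b

theorem coeff_toPoly (p : MonoidAlgebra B (Multiplicative Nn)) (z : Multiplicative Nn) :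
    (toPoly p).coeff (z.toAdd : ℤ).toNat = p.coeff z := by
  classical
  rw [toPoly, Finsupp.sum, finsetSum_coeff]
  rw [Finset.sum_eq_single z]
  · rw [coeff_monomial, if_pos rfl]
  · intro z' _ hne
    rw [coeff_monomial, if_neg]
    intro h
    exact hne (toNat_injective _ _ h)
  · intro h
    rw [coeff_monomial, if_pos rfl]
    simpa using h

theorem eq_zero_of_forall_dvd (p : MonoidAlgebra B (Multiplicative Nn)) (h : ∀ n : ℕ, X ^ (n + 1) ∣ toPoly p) :
    p = 0 := by
  have h1 : ∀ z, p.coeff z = 0 := by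
    intro z
    rw [← coeff_toPoly]
    obtain ⟨q, hq⟩ := h (z.toAdd : ℤ).toNat
    rw [hq, coeff_X_pow_mul', if_neg (by omega)]
  ext z
  exact h1 z

end Coeff

section Pt

open Polynomial

variable {S : Scheme.{u}} (Y : Over S) [IsAffine Y.left] (n : ℕ)

/-- The truncated polynomial ring. -/
abbrev Tr (B : Type u) [CommRing B] (n : ℕ) : Type u := B[X] ⧸ Ideal.span {(X : B[X]) ^ (n + 1)}

/-- The structure map of the truncated polynomial ring. -/
noncomputable def trC (B : Type u) [CommRing B] (n : ℕ) : B →+* Tr B n :=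
  (Ideal.Quotient.mk (Ideal.span {(X : B[X]) ^ (n + 1)})).comp C

/-- The infinitesimal neighbourhood of the zero section. -/
noncomputable abbrev nb : Over S := sp Y (trC (Fn Y) n)

/-- Its coordinate. -/
noncomputable def ε : Fn (nb Y n) :=
  spE Y (trC (Fn Y) n) (Ideal.Quotient.mk (Ideal.span {(X : (Fn Y)[X]) ^ (n + 1)}) X)

theorem ε_pow : ε Y n ^ (n + 1) = 0 := by
  rw [ε, ← map_pow, ← map_pow, Ideal.Quotient.eq_zero_iff_mem.2 (Ideal.mem_span_singleton_self _), map_zero]

theorem pb_nb (p : MonoidAlgebra (Fn Y) (Multiplicative Nn)) :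
    pb (lift (co (ε Y n)) (spι Y (trC (Fn Y) n))) (gam Y Nn p) =
      spE Y (trC (Fn Y) n) (Ideal.Quotient.mk (Ideal.span {(X : (Fn Y)[X]) ^ (n + 1)}) (toPoly p)) := by
  rw [pb_lift_gam_apply, evl_apply, toPoly, Finsupp.sum, Finsupp.sum, map_sum, map_sum]
  refine Finset.sum_congr rfl fun z _ => ?_
  rw [← C_mul_X_pow_eq_monomial, (Ideal.Quotient.mk _).map_mul, (spE Y (trC (Fn Y) n)).map_mul]
  have h1 : chi (co (ε Y n)) z = spE Y (trC (Fn Y) n) (Ideal.Quotient.mk _ (X ^ (z.toAdd : ℤ).toNat)) := by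
    rw [chi_co, (Ideal.Quotient.mk _).map_pow, (spE Y (trC (Fn Y) n)).map_pow]
    rfl
  rw [h1]
  congr 1
  exact pb_spι Y (trC (Fn Y) n) _

theorem eq_zero_of_nb (f : Fn (AMonS S Nn ⊗ Y)) (h : ∀ n, pb (lift (co (ε Y n)) (spι Y (trC (Fn Y) n))) f = 0) :
    f = 0 := by
  obtain ⟨p, rfl⟩ := (gam_bijective Nn Y).2 f
  have h1 : p = 0 := by
    refine eq_zero_of_forall_dvd p fun n => ?_
    have h2 := h n
    rw [pb_nb, map_eq_zero_iff _ (spE_bijective _ _).1, Ideal.Quotient.eq_zero_iff_mem, Ideal.mem_span_singleton] at h2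
    exact h2
  rw [h1, map_zero]

end Pt

section Main

variable {k : Type u} [Field k]

/-- The group of units of the affine line is schematically dense. -/
theorem dominant_left {S : Scheme.{u}} {M N : Type} [AddCommMonoid M] [AddCommMonoid N] (f : N →+ M)
    (hf : Function.Injective f) :
    IsSchemeTheoreticallyDominant (AMonS.map S f).left ∧ IsAffineHom (AMonS.map S f).left := by
  have h1 : (AMonS.map S f) = (ρ_ _).inv ≫ (AMonS.map S f ▷ 𝟙_ _) ≫ (ρ_ _).hom := by
    rw [rightUnitor_naturality, Iso.inv_hom_id_assoc]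
  have h2 := K949.Dominant.dominant_map (S := S) f hf (𝟙_ _)
  have h3 := K949.Dominant.isAffineHom_map (S := S) f (𝟙_ _)
  have h4 := K949.Dominant.isIso_left_hom (ρ_ (AMonS S N))
  have h5 := K949.Dominant.isIso_left_inv (ρ_ (AMonS S M))
  rw [h1, Over.comp_left, Over.comp_left]
  exact ⟨inferInstance, inferInstance⟩

/-- Morphisms out of `P × Y` agree as soon as they do over all affine opens of `Y`. -/
theorem hom_ext_opT {S : Scheme.{u}} {P Y X : Over S} {f g : P ⊗ Y ⟶ X}
    (h : ∀ U : Y.left.affineOpens, (P ◁ opι Y U.1) ≫ f = (P ◁ opι Y U.1) ≫ g) : f = g := by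
  ext1
  apply Scheme.hom_ext_of_forall
  intro w
  obtain ⟨U, hU, hwU, -⟩ := exists_isAffineOpen_mem_and_subset (x := (snd P Y).left w) (U := ⊤) trivial
  have hop : IsOpenImmersion (P ◁ opι Y U).left :=
    MorphismProperty.of_isPullback (P := @IsOpenImmersion) (isPullback_whiskerLeft_left P (opι Y U))
      (inferInstanceAs (IsOpenImmersion U.ι))
  obtain ⟨r, -, hr⟩ := Scheme.exists_preimage_of_isPullback (isPullback_whiskerLeft_left P (opι Y U)) ⟨_, hwU⟩ w rfl
  refine ⟨(P ◁ opι Y U).left.opensRange, ⟨r, hr⟩, ?_⟩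
  rw [← cancel_epi (P ◁ opι Y U).left.isoOpensRange.hom, Scheme.Hom.isoOpensRange_hom_ι_assoc,
    Scheme.Hom.isoOpensRange_hom_ι_assoc]
  exact congrArg (fun m => m.left) (h ⟨U, hU⟩)

variable {G X Y : Over (Spec (CommRingCat.of k))} [GrpObj G] (i : G ⟶ AMonS (Spec (CommRingCat.of k)) Nn) [IsMonHom i]
  [QuasiCompact i.left] [IsSchemeTheoreticallyDominant i.left] (a : MonAct G X)

/-- The case of an affine parameter scheme. -/
theorem eq_of_affine [IsAffine Y.left] (γ₁ γ₂ : AMonS (Spec (CommRingCat.of k)) Nn ⊗ Y ⟶ X)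
    (h₁ : IsEquivariant (((regular (AMonS (Spec (CommRingCat.of k)) Nn)).restrict i).prod (MonAct.trivial G Y)) a γ₁)
    (h₂ : IsEquivariant (((regular (AMonS (Spec (CommRingCat.of k)) Nn)).restrict i).prod (MonAct.trivial G Y)) a γ₂)
    (h : ∀ (T : Over (Spec (CommRingCat.of k))) (b : Fn T) (t : T ⟶ Y), IsNilpotent b →
      lift (co b) t ≫ γ₁ = lift (co b) t ≫ γ₂) : γ₁ = γ₂ := by
  have hcl : IsClosedImmersion (eqzι γ₁ γ₂).left :=
    isClosedImmersion_eqz i (zo _) (fun T m => by rw [toUnit_zo]; exact co_zero_mul m) a γ₁ γ₂ h₁ h₂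
      (by rw [toUnit_zo]; exact h Y 0 (𝟙 Y) IsNilpotent.zero)
  have haff : IsAffine (AMonS (Spec (CommRingCat.of k)) Nn ⊗ Y).left := isAffine_prod Nn Y
  have hinj : Function.Injective (eqzι γ₁ γ₂).left.appTop := by
    have h0 : Function.Injective (pb (eqzι γ₁ γ₂)) := by
      rw [injective_iff_map_eq_zero]
      intro f hf
      refine eq_zero_of_nb Y f fun n => ?_
      obtain ⟨s, hs⟩ := exists_eqz γ₁ γ₂ _ (h _ (ε Y n) (spι Y (trC (Fn Y) n)) ⟨n + 1, ε_pow Y n⟩)
      rw [← hs, pb_comp_apply, hf, map_zero]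
    exact h0
  have hiso : IsIso (eqzι γ₁ γ₂).left := IsClosedImmersion.isIso_of_injective_of_isAffine hinj
  have hiso' : IsIso (eqzι γ₁ γ₂) := by
    have : IsIso ((Over.forget _).map (eqzι γ₁ γ₂)) := hiso
    exact isIso_of_reflects_iso _ (Over.forget _)
  rw [← cancel_epi (eqzι γ₁ γ₂)]
  exact eqzι_condition γ₁ γ₂

/-- Equivariant maps agreeing on nilpotent points agree. -/
theorem eq_of_forall_nilpotent (γ₁ γ₂ : AMonS (Spec (CommRingCat.of k)) Nn ⊗ Y ⟶ X)
    (h₁ : IsEquivariant (((regular (AMonS (Spec (CommRingCat.of k)) Nn)).restrict i).prod (MonAct.trivial G Y)) a γ₁)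
    (h₂ : IsEquivariant (((regular (AMonS (Spec (CommRingCat.of k)) Nn)).restrict i).prod (MonAct.trivial G Y)) a γ₂)
    (h : ∀ (T : Over (Spec (CommRingCat.of k))) (b : Fn T) (t : T ⟶ Y), IsNilpotent b →
      lift (co b) t ≫ γ₁ = lift (co b) t ≫ γ₂) : γ₁ = γ₂ := by
  refine hom_ext_opT fun U => ?_
  have : IsAffine (opT Y U.1).left := U.2
  have heq : IsEquivariant
      (((regular (AMonS (Spec (CommRingCat.of k)) Nn)).restrict i).prod (MonAct.trivial G (opT Y U.1)))
      (((regular (AMonS (Spec (CommRingCat.of k)) Nn)).restrict i).prod (MonAct.trivial G Y))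
      (AMonS (Spec (CommRingCat.of k)) Nn ◁ opι Y U.1) := by
    unfold Magnet.MonAct.IsEquivariant
    exact Magnet.MonAct.prod_trivial_act_whiskerLeft _ _
  refine eq_of_affine i a _ _ (heq.comp h₁) (heq.comp h₂) fun T b t hb => ?_
  rw [lift_whiskerLeft_assoc, lift_whiskerLeft_assoc]
  exact h T b _ hb

end Main

end K951.Nilp
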