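import Groth.Agent.Magnet.K950.RepClosed
import Groth.Agent.Magnet.K951.AttrAff
import Groth.Agent.Magnet.K951.Nilp
import Groth.Agent.Magnet.K951.Shf

/-!
# The image of the attractor `X^N → X` is Zariski-local on `T`, for `X` affine over `S`
-/

set_option autoImplicit false
set_option linter.unusedSectionVars false

universe u

open CategoryTheory MonoidalCategory CartesianMonoidalCategory MonObj AlgebraicGeometry Opposite Limits

namespace K951.MemLoc

open Magnet Magnet.MonAct K951.Pts K951.Prd K951.Coact K951.AttrAff K951.ClSub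

variable {S : Scheme.{u}}

section Gen

variable {F : (Over S)ᵒᵖ ⥤ Type u} {X : Over S} (io : F ⟶ yoneda.obj X)

/-- Membership in a subfunctor which is a sheaf can be checked on an open covering. -/
theorem mem_of_iSup (hι : ∀ T : (Over S)ᵒᵖ, Function.Injective (io.app T))
    (hF : Presieve.IsSheaf (QuotSh.J Scheme.fppfPrecoverage S) F) {T : Over S} (x : T ⟶ X)
    (P : T.left.Opens → Prop) (hP : ∀ t : T.left, ∃ U : T.left.Opens, P U ∧ t ∈ U)
    (h : ∀ U : T.left.Opens, P U → K950.RepClosed.Mem io (opι T U ≫ x)) : K950.RepClosed.Mem io x := by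
  rw [← K950.RepClosed.pred_iff]
  let 𝒰 : T.left.OpenCover := T.left.openCoverOfIsOpenCover (fun U : {U : T.left.Opens // P U} => U.1) (by
    rw [TopologicalSpace.IsOpenCover, eq_top_iff]
    intro t _
    obtain ⟨U, hU, ht⟩ := hP t
    rw [TopologicalSpace.Opens.mem_iSup]
    exact ⟨⟨U, hU⟩, ht⟩)
  refine (K950.RepClosed.isLocalPred io hι hF).zariski x.left 𝒰 fun U => ?_
  have h1 := h U.1 U.2
  rw [← K950.RepClosed.pred_iff] at h1
  exact h1

end Gen

variable {M : Type} [AddCommMonoid M] {X : Over S} (a : MonAct (AMonS S M) X) (N : AddSubmonoid M)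

theorem attrToX_map {T T' : Over S} (t : T' ⟶ T) (φ : (attr a N).obj (op T)) :
    (attrToX a N).app (op T') ((attr a N).map t.op φ) = t ≫ (attrToX a N).app (op T) φ := by
  change lift (toUnit T' ≫ η[AMonS S N]) (𝟙 T') ≫ (AMonS S N ◁ t) ≫ φ.1 =
    t ≫ lift (toUnit T ≫ η[AMonS S N]) (𝟙 T) ≫ φ.1
  rw [lift_whiskerLeft_assoc, ← Category.assoc t, comp_lift, Category.id_comp, Category.comp_id, ← Category.assoc t,
    comp_toUnit]

variable [IsAffineHom X.hom]

/-- The attractor of a scheme affine over the base is a subfunctor. -/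
theorem attrToX_injective (T : (Over S)ᵒᵖ) : Function.Injective ((attrToX a N).app T) := by
  obtain ⟨T⟩ := T
  intro φ φ' h
  apply Subtype.ext
  refine K951.Nilp.hom_ext_opT fun U => ?_
  have : IsAffine (opT T U.1).left := U.2
  have h1 : (attr a N).map (opι T U.1).op φ = (attr a N).map (opι T U.1).op φ' := by
    apply attrToX_injective_of_isAffine
    have e1 := attrToX_map a N (opι T U.1) φ
    have e2 := attrToX_map a N (opι T U.1) φ'
    rw [e1, e2]
    exact congrArg _ h
  exact congrArg Subtype.val h1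

theorem mem_iff_of_iSup {T : Over S} (x : T ⟶ X)
    (P : T.left.Opens → Prop) (hP : ∀ t : T.left, ∃ U : T.left.Opens, P U ∧ t ∈ U) :
    K950.RepClosed.Mem (attrToX a N) x ↔
      ∀ U : T.left.Opens, P U → K950.RepClosed.Mem (attrToX a N) (opι T U ≫ x) :=
  ⟨fun h U _ => h.precomp _ _, mem_of_iSup _ (attrToX_injective a N) (K951.Shf.isSheaf_eqvHom _ _ _) x P hP⟩

end K951.MemLoc
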