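import Groth.Agent.Magnet.K951.Slice
import Groth.Agent.Magnet.K951.ClSub
import Groth.Agent.Magnet.K951.Stab

/-!
# The Białynicki-Birula functor of an affine scheme over a field is a closed subfunctor
-/

set_option autoImplicit false
set_option linter.unusedSectionVars false

universe u

open CategoryTheory MonoidalCategory CartesianMonoidalCategory MonObj AlgebraicGeometry Opposite Limits

namespace K951.BBAff

open Magnet Magnet.MonAct K951.Prd K951.Dense K951.ClSub K951.Slice

attribute [local instance] K951.Pts.algΓ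

section General

variable {S : Scheme.{u}} {M G X T T' : Over S} [MonObj M] [GrpObj G] (i : G ⟶ M) [IsMonHom i] (a : MonAct G X)

/-- Evaluation at the unit section. -/
noncomputable def ev (φ : M ⊗ T ⟶ X) : T ⟶ X := lift (toUnit T ≫ η[M]) (𝟙 T) ≫ φ

/-- The map `φ : M × T ⟶ X` extends the orbit map of `x : T ⟶ X`. -/
def Ext (x : T ⟶ X) (φ : M ⊗ T ⟶ X) : Prop := (i ▷ T) ≫ φ = (G ◁ x) ≫ a.act

variable {i a}

omit [MonObj M] [IsMonHom i] in
theorem Ext.pt {x : T ⟶ X} {φ : M ⊗ T ⟶ X} (h : Ext i a x φ) (g : T' ⟶ G) (t : T' ⟶ T) :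
    lift (g ≫ i) t ≫ φ = lift g (t ≫ x) ≫ a.act := by
  rw [← lift_whiskerRight_assoc, h, lift_whiskerLeft_assoc]

theorem ext_iff {x : T ⟶ X} {φ : M ⊗ T ⟶ X} :
    Ext i a x φ ↔ ∀ (T' : Over S) (g : T' ⟶ G) (t : T' ⟶ T), lift (g ≫ i) t ≫ φ = lift g (t ≫ x) ≫ a.act := by
  constructor
  · intro h T' g t
    exact h.pt g t
  · intro h
    apply hom_ext_lift₂
    intro T' g t
    rw [lift_whiskerRight_assoc, h, lift_whiskerLeft_assoc]

theorem Ext.comp {x : T ⟶ X} {φ : M ⊗ T ⟶ X} (h : Ext i a x φ) (t : T' ⟶ T) : Ext i a (t ≫ x) ((M ◁ t) ≫ φ) := by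
  rw [ext_iff] at h ⊢
  intro T'' g t'
  rw [lift_whiskerLeft_assoc, h, Category.assoc]

theorem Ext.ev_eq {x : T ⟶ X} {φ : M ⊗ T ⟶ X} (h : Ext i a x φ) : ev φ = x := by
  have := h.pt 1 (𝟙 T)
  rw [MonObj.one_comp, Category.id_comp, a.lift_one_act, Hom.one_def] at this
  exact this

/-- Equivariant maps extend the orbit map of their value at the unit section. -/
theorem ext_of_equivariant {φ : M ⊗ T ⟶ X}
    (h : IsEquivariant (((regular M).restrict i).prod (MonAct.trivial G T)) a φ) : Ext i a (ev φ) φ := by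
  rw [mem_eqvHom_iff] at h
  rw [ext_iff]
  intro T' g t
  have h1 := h T' g 1 t
  rw [lift_restrict_act, lift_regular_act, _root_.mul_one] at h1
  rw [h1, ev, ← Category.assoc, comp_lift, Category.comp_id, Hom.one_def, ← Category.assoc, comp_toUnit]

variable (i a)

/-- The value of the functor of equivariant maps. -/
theorem evalAt_apply (φ : (eqvHom ((regular M).restrict i) a).obj (op T)) :
    (eqvHom.evalAt ((regular M).restrict i) a η[M]).app (op T) φ = ev φ.1 := rfl

end General

section Field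

variable {k : Type u} [Field k] {M G X T : Over (Spec (CommRingCat.of k))} [MonObj M] [GrpObj G]
  {i : G ⟶ M} [IsMonHom i] [QuasiCompact i.left] [IsSchemeTheoreticallyDominant i.left] {a : MonAct G X}

theorem dominant_whiskerLeft (P : Over (Spec (CommRingCat.of k))) {Y Y' : Over (Spec (CommRingCat.of k))}
    (f : Y ⟶ Y') [QuasiCompact f.left] [IsSchemeTheoreticallyDominant f.left] :
    IsSchemeTheoreticallyDominant (P ◁ f).left := by
  have : Flat (snd P Y').left := inferInstanceAs (Flat (pullback.snd P.hom Y'.hom))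
  exact IsSchemeTheoreticallyDominant.of_isPullback (K951.Stab.isPullback_whiskerLeft_left P f)

omit [MonObj M] [GrpObj G] [IsMonHom i] in
/-- Maps extending the same orbit map agree. -/
theorem Ext.unique [IsSeparated X.hom] [MonObj M] [GrpObj G] [IsMonHom i] {a : MonAct G X}
    {x : T ⟶ X} {φ φ' : M ⊗ T ⟶ X} (h : Ext i a x φ) (h' : Ext i a x φ') : φ = φ' :=
  eq_of_separated_over (i ▷ T) φ φ' (h.trans h'.symm)

/-- Maps extending an orbit map are equivariant. -/
theorem Ext.isEquivariant [IsSeparated X.hom] {x : T ⟶ X} {φ : M ⊗ T ⟶ X} (h : Ext i a x φ) :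
    IsEquivariant (((regular M).restrict i).prod (MonAct.trivial G T)) a φ := by
  have := dominant_whiskerLeft G (i ▷ T)
  refine eq_of_separated_over (G ◁ (i ▷ T)) _ _ ?_
  apply hom_ext_lift₂
  intro T' g z
  rw [← lift_comp_fst_snd z]
  simp only [lift_whiskerLeft_assoc, lift_whiskerRight, lift_prod_act_assoc, lift_restrict_act, lift_regular_act,
    lift_trivial_act]
  rw [← MonObj.mul_comp, h.pt, h.pt, a.lift_mul_act]

end Field

section Affine

variable {k : Type u} [Field k] {M G X : Over (Spec (CommRingCat.of k))} [MonObj M] [GrpObj G]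
  [IsAffine M.left] [IsAffine G.left] [IsAffine X.left]
  (i : G ⟶ M) [IsMonHom i] [IsSchemeTheoreticallyDominant i.left] (a : MonAct G X)

/-- The ideal of the locus where the orbit map extends. -/
noncomputable def idl : Ideal (Fn X) :=
  Ideal.span {f | ∃ (l : Fn G →ₗ[k] k) (c : Fn X), l ∘ₗ (pbA i).toLinearMap = 0 ∧ sl G X l (pb a.act c) = f}

omit [MonObj M] [GrpObj G] [IsAffine X.left] [IsMonHom i] in
theorem pb_injective_of_dominant {P P' : Over (Spec (CommRingCat.of k))} (p : P' ⟶ P)
    [IsSchemeTheoreticallyDominant p.left] [QuasiCompact p.left] : Function.Injective (pb p) :=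
  Scheme.Hom.app_injective p.left ⊤

theorem pb_hom {S : Scheme.{u}} {Y Y' : Over S} (f : Y ⟶ Y') : (pb f).comp Y'.hom.appTop.hom = Y.hom.appTop.hom := by
  rw [← Over.w f, Scheme.Hom.comp_appTop]
  rfl

/-- A ring map with values in the image of an injective ring map lifts. -/
theorem exists_lift {A B C : Type*} [CommRing A] [CommRing B] [CommRing C] (f : A →+* C) (g : B →+* C)
    (hg : Function.Injective g) (h : ∀ a, f a ∈ Set.range g) : ∃ φ : A →+* B, g.comp φ = f := by
  choose φ hφ using h
  refine ⟨{ toFun := φ, map_one' := hg ?_, map_mul' := fun x y => hg ?_, map_zero' := hg ?_, map_add' := fun x y => hg ?_ },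
    RingHom.ext hφ⟩
  · rw [hφ, map_one, map_one]
  · rw [hφ, map_mul, map_mul, hφ, hφ]
  · rw [hφ, map_zero, map_zero]
  · rw [hφ, map_add, map_add, hφ, hφ]

/-- Over an affine scheme the orbit map of `x` extends if and only if `x` kills the ideal. -/
theorem exists_ext_iff {T : Over (Spec (CommRingCat.of k))} [IsAffine T.left] (x : T ⟶ X) :
    (∃ φ : M ⊗ T ⟶ X, Ext i a x φ) ↔ ∀ f ∈ idl i a, pb x f = 0 := by
  have key : (∀ f ∈ idl i a, pb x f = 0) ↔ ∀ c : Fn X, pb ((G ◁ x) ≫ a.act) c ∈ Set.range (pb (i ▷ T)) := by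
    have h1 : (∀ f ∈ idl i a, pb x f = 0) ↔ idl i a ≤ RingHom.ker (pb x) := Iff.rfl
    rw [h1, idl, Ideal.span_le]
    constructor
    · intro h c
      rw [mem_range_iff]
      intro l hl
      rw [pb_comp_apply, ← pb_sl]
      exact h ⟨l, c, hl, rfl⟩
    · rintro h _ ⟨l, c, hl, rfl⟩
      have h2 := h c
      rw [mem_range_iff] at h2
      have h3 := h2 l hl
      rw [pb_comp_apply, ← pb_sl] at h3
      exact h3
  rw [key]
  constructor
  · rintro ⟨φ, hφ⟩ c
    rw [← (show (i ▷ T) ≫ φ = (G ◁ x) ≫ a.act from hφ), pb_comp_apply]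
    exact ⟨_, rfl⟩
  · intro h
    have hinj : Function.Injective (pb (i ▷ T)) := pb_injective_of_dominant (i ▷ T)
    obtain ⟨ψ, hψ⟩ := exists_lift _ _ hinj h
    obtain ⟨φ, hφ⟩ := exists_hom (T := M ⊗ T) (X := X) ψ (by
      apply RingHom.ext
      intro b
      apply hinj
      have h1 := congr($(pb_hom (i ▷ T)) b)
      have h2 := congr($(pb_hom ((G ◁ x) ≫ a.act)) b)
      rw [← hψ] at h2
      exact h2.trans h1.symm)
    refine ⟨φ, ?_⟩
    change (i ▷ T) ≫ φ = (G ◁ x) ≫ a.act
    apply hom_ext_pb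
    rw [pb_comp, hφ, hψ]

/-- The orbit map of `x` extends if and only if `x` kills the ideal. -/
theorem pb_eq_zero_of_ext {T : Over (Spec (CommRingCat.of k))} (x : T ⟶ X) {φ : M ⊗ T ⟶ X} (h : Ext i a x φ)
    (f : Fn X) (hf : f ∈ idl i a) : pb x f = 0 := by
  apply eq_zero_of_opT
  intro U
  have : IsAffine (opT T U.1).left := U.2
  rw [← pb_comp_apply]
  exact (exists_ext_iff i a (opι T U.1 ≫ x)).1 ⟨_, h.comp _⟩ f hf

/-- The locus where the orbit map extends. -/
noncomputable abbrev locus : Over (Spec (CommRingCat.of k)) := cl X (idl i a)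

theorem exists_univ : ∃ φ : M ⊗ locus i a ⟶ X, Ext i a (clι X (idl i a)) φ :=
  (exists_ext_iff i a _).2 fun f hf => (exists_factor_cl_iff X (idl i a) _).1 ⟨𝟙 _, Category.id_comp _⟩ f hf

/-- The universal equivariant map. -/
noncomputable def univ : M ⊗ locus i a ⟶ X := (exists_univ i a).choose

theorem ext_univ : Ext i a (clι X (idl i a)) (univ i a) := (exists_univ i a).choose_spec

theorem exists_factor_of_ext {T : Over (Spec (CommRingCat.of k))} (x : T ⟶ X) {φ : M ⊗ T ⟶ X} (h : Ext i a x φ) :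
    ∃ z : T ⟶ locus i a, z ≫ clι X (idl i a) = x :=
  (exists_factor_cl_iff X (idl i a) x).2 (pb_eq_zero_of_ext i a x h)

theorem isSeparated_hom : IsSeparated X.hom := inferInstance

theorem mono_clι : Mono (clι X (idl i a)) :=
  have := isClosedImmersion_clι X (idl i a)
  K951.Dense.mono_of_mono_left _

/-- The functor of equivariant maps is represented by the locus where the orbit map extends. -/
noncomputable def rep : (eqvHom ((regular M).restrict i) a).RepresentableBy (locus i a) where
  homEquiv {T} :=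
    Equiv.ofBijective (fun z => (⟨(M ◁ z) ≫ univ i a, ((ext_univ i a).comp z).isEquivariant⟩ :
        (eqvHom ((regular M).restrict i) a).obj (op T))) (by
      constructor
      · intro z z' h
        have h1 : (M ◁ z) ≫ univ i a = (M ◁ z') ≫ univ i a := congrArg Subtype.val h
        have := mono_clι i a
        rw [← cancel_mono (clι X (idl i a)), ← ((ext_univ i a).comp z).ev_eq, h1, ((ext_univ i a).comp z').ev_eq]
      · intro φ
        have h1 := ext_of_equivariant φ.2
        obtain ⟨z, hz⟩ := exists_factor_of_ext i a _ h1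
        refine ⟨z, Subtype.ext ?_⟩
        rw [← hz] at h1
        exact ((ext_univ i a).comp z).unique h1)
  homEquiv_comp {T T'} f g := by
    apply Subtype.ext
    change (M ◁ (f ≫ g)) ≫ univ i a = (M ◁ f) ≫ (M ◁ g) ≫ univ i a
    rw [MonoidalCategory.whiskerLeft_comp, Category.assoc]

theorem evalAt_rep {T : Over (Spec (CommRingCat.of k))} (z : T ⟶ locus i a) :
    (eqvHom.evalAt ((regular M).restrict i) a η[M]).app (op T) ((rep i a).homEquiv z) = z ≫ clι X (idl i a) :=
  ((ext_univ i a).comp z).ev_eq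

end Affine

end K951.BBAff
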