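import Groth.Agent.Magnet.K951.Stab
import Mathlib.AlgebraicGeometry.Morphisms.Immersion
import Mathlib.CategoryTheory.Monoidal.Cartesian.Grp
import Mathlib.AlgebraicGeometry.Morphisms.UniversallyOpen

/-!
# Stable subsets for the action of a group scheme over a field, and the closed locus where two equivariant maps agree
-/

set_option autoImplicit false
set_option linter.unusedSectionVars false

universe v₁ u₁ u

open CategoryTheory MonoidalCategory CartesianMonoidalCategory MonObj AlgebraicGeometry Opposite Limits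

namespace K951.StabGrp

open Magnet Magnet.MonAct K951.Dense K951.Stab

section Grp

variable {C : Type u₁} [Category.{v₁} C] [CartesianMonoidalCategory C] {G X : C} [GrpObj G] (a : MonAct G X)

/-- The automorphism `(g, x) ↦ (g⁻¹, g x)`. -/
noncomputable def sh : G ⊗ X ⟶ G ⊗ X := lift ((fst G X)⁻¹) a.act

theorem lift_sh {T : C} (g : T ⟶ G) (x : T ⟶ X) : lift g x ≫ sh a = lift g⁻¹ (lift g x ≫ a.act) := by
  rw [sh, comp_lift, GrpObj.comp_inv, lift_fst]

theorem sh_snd : sh a ≫ snd G X = a.act := by rw [sh, lift_snd]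

theorem sh_act : sh a ≫ a.act = snd G X := by
  apply hom_ext_lift₂
  intro T g x
  rw [← Category.assoc, lift_sh, ← a.lift_mul_act, inv_mul_cancel, a.lift_one_act, lift_snd]

theorem sh_sh : sh a ≫ sh a = 𝟙 _ := by
  apply hom_ext_lift₂
  intro T g x
  rw [← Category.assoc, lift_sh, lift_sh, ← a.lift_mul_act, inv_mul_cancel, a.lift_one_act, inv_inv,
    Category.comp_id]

theorem isIso_sh : IsIso (sh a) := ⟨sh a, sh_sh a, sh_sh a⟩

end Grp

section

variable {S : Scheme.{u}} {G X : Over S} [GrpObj G] (a : MonAct G X)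

/-- A subset stable under a group action has the same preimage under the action and under the projection. -/
theorem preimage_eq (E : Set X.left) (h : ∀ q : (G ⊗ X).left, (snd G X).left q ∈ E → a.act.left q ∈ E) :
    (snd G X).left ⁻¹' E = a.act.left ⁻¹' E := by
  ext q
  refine ⟨fun hq => h q hq, fun hq => ?_⟩
  have h1 := h ((sh a).left q)
  rw [← Scheme.Hom.comp_apply, ← Scheme.Hom.comp_apply, ← Over.comp_left, ← Over.comp_left, sh_act, sh_snd] at h1
  exact h1 hq

theorem _root_.K951.Stab.IsStable.mem_iff {a : MonAct G X} {W : X.left.Opens} (h : IsStable a W) (q : (G ⊗ X).left) :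
    (snd G X).left q ∈ W ↔ a.act.left q ∈ W := by
  have h1 := preimage_eq a (W : Set X.left) (fun q hq => h hq)
  exact Set.ext_iff.1 h1 q

end

section Field

variable {k : Type u} [Field k]

instance isIntegral_base : IsIntegral (Spec (CommRingCat.of k)) := inferInstance

theorem isOpenMap_snd (P Q : Over (Spec (CommRingCat.of k))) : IsOpenMap (snd P Q).left := by
  have : Subsingleton (Spec (CommRingCat.of k)) := inferInstanceAs (Subsingleton (PrimeSpectrum k))
  have : UniversallyOpen (snd P Q).left := inferInstanceAs (UniversallyOpen (pullback.snd P.hom Q.hom))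
  exact Scheme.Hom.isOpenMap _

variable {G X : Over (Spec (CommRingCat.of k))} [GrpObj G] (a : MonAct G X)

theorem isOpenMap_act : IsOpenMap a.act.left := by
  have h1 : a.act.left = (sh a).left ≫ (snd G X).left := by rw [← Over.comp_left, sh_snd]
  have : IsIso (sh a).left := ⟨(sh a).left, by rw [← Over.comp_left, sh_sh, Over.id_left],
    by rw [← Over.comp_left, sh_sh, Over.id_left]⟩
  rw [h1]
  have h2 : IsOpenMap (sh a).left := (sh a).left.homeomorph.isOpenMap
  exact (isOpenMap_snd G X).comp h2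

/-- The coborder of a stable subset is stable. -/
theorem coborder_stable (E : Set X.left) (h : ∀ q : (G ⊗ X).left, (snd G X).left q ∈ E → a.act.left q ∈ E)
    (q : (G ⊗ X).left) (hq : (snd G X).left q ∈ coborder E) : a.act.left q ∈ coborder E := by
  have h1 := coborder_preimage (isOpenMap_snd G X) (snd G X).left.continuous E
  have h2 := coborder_preimage (isOpenMap_act a) a.act.left.continuous E
  rw [preimage_eq a E h, h2] at h1
  have h3 : q ∈ (snd G X).left ⁻¹' coborder E := hq
  rw [← h1] at h3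
  exact h3

end Field

section Top

variable {k : Type u} [Field k] {M G Y : Over (Spec (CommRingCat.of k))} [MonObj M] [GrpObj G]
  (i : G ⟶ M) [IsMonHom i] [QuasiCompact i.left] [IsSchemeTheoreticallyDominant i.left]
  (o : 𝟙_ (Over (Spec (CommRingCat.of k))) ⟶ M)
  (ho : ∀ (T : Over (Spec (CommRingCat.of k))) (m : T ⟶ M), (toUnit T ≫ o) * m = toUnit T ≫ o)

include ho in
/-- A stable open subset of `M × Y` containing the zero section is everything. -/
theorem eq_top_of_stable (W : (M ⊗ Y).left.Opens)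
    (hW : IsStable (((regular M).restrict i).prod (MonAct.trivial G Y)) W)
    (h0 : (lift (toUnit Y ≫ o) (𝟙 Y)).left ⁻¹ᵁ W = ⊤) : W = ⊤ := by
  rw [eq_top_iff]
  intro p _
  let T := resOver (M ⊗ Y) p
  let w : T ⟶ M ⊗ Y := resMap (M ⊗ Y) p
  obtain ⟨pt, hpt⟩ : p ∈ Set.range w.left := by
    change _ ∈ Set.range ((M ⊗ Y).left.fromSpecResidueField _)
    rw [Scheme.range_fromSpecResidueField]
    rfl
  have hsub : Subsingleton T.left := inferInstanceAs (Subsingleton (PrimeSpectrum _))
  -- the orbit map of `w`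
  let h : M ⊗ T ⟶ M ⊗ Y := lift (fst M T * (snd M T ≫ w ≫ fst M Y)) (snd M T ≫ w ≫ snd M Y)
  -- it meets `W`
  have hne : (lift (toUnit T ≫ o) (𝟙 T)).left pt ∈ h.left ⁻¹ᵁ W := by
    have h1 : lift (toUnit T ≫ o) (𝟙 T) ≫ h = (w ≫ snd M Y) ≫ lift (toUnit Y ≫ o) (𝟙 Y) := by
      simp only [h]
      rw [comp_lift, comp_lift, MonObj.comp_mul, lift_fst, lift_snd_assoc, lift_snd_assoc, Category.id_comp, ho,
        Category.id_comp, Category.comp_id]
      congr 1
      rw [comp_toUnit_assoc]
    change h.left ((lift (toUnit T ≫ o) (𝟙 T)).left pt) ∈ W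
    rw [← Scheme.Hom.comp_apply, ← Over.comp_left, h1, Over.comp_left, Scheme.Hom.comp_apply]
    have h2 : (w ≫ snd M Y).left pt ∈ (lift (toUnit Y ≫ o) (𝟙 Y)).left ⁻¹ᵁ W := by rw [h0]; trivial
    exact h2
  have hdom : IsDominant (i ▷ T).left := inferInstance
  obtain ⟨_, hq1, ⟨q, rfl⟩⟩ := hdom.denseRange.inter_open_nonempty _ (h.left ⁻¹ᵁ W).isOpen ⟨_, hne⟩
  have h3 : (i ▷ T) ≫ h = (G ◁ w) ≫ (((regular M).restrict i).prod (MonAct.trivial G Y)).act := by
    apply hom_ext_lift₂
    intro T' g t
    simp only [h]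
    rw [lift_whiskerRight_assoc, lift_whiskerLeft_assoc, comp_lift, MonObj.comp_mul, lift_fst, lift_snd_assoc,
      lift_snd_assoc]
    conv_rhs => rw [← lift_comp_fst_snd (t ≫ w), lift_prod_act, lift_trivial_act, lift_restrict_act, lift_regular_act]
    simp only [Category.assoc]
  have h4 : (((regular M).restrict i).prod (MonAct.trivial G Y)).act.left ((G ◁ w).left q) ∈ W := by
    rw [← Scheme.Hom.comp_apply, ← Over.comp_left, ← h3, Over.comp_left, Scheme.Hom.comp_apply]
    exact hq1
  rw [← hW.mem_iff, ← Scheme.Hom.comp_apply, ← Over.comp_left, whiskerLeft_snd, Over.comp_left,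
    Scheme.Hom.comp_apply] at h4
  have h5 : (snd G T).left q = pt := Subsingleton.elim _ _
  rw [h5, hpt] at h4
  exact h4

variable {X : Over (Spec (CommRingCat.of k))}

/-- The locus where two morphisms agree. -/
noncomputable def eqz {P : Over (Spec (CommRingCat.of k))} (f g : P ⟶ X) : Over (Spec (CommRingCat.of k)) :=
  Over.mk (equalizer.ι f.left g.left ≫ P.hom)

/-- Its inclusion. -/
noncomputable def eqzι {P : Over (Spec (CommRingCat.of k))} (f g : P ⟶ X) : eqz f g ⟶ P :=
  Over.homMk (equalizer.ι f.left g.left) rfl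

theorem eqzι_condition {P : Over (Spec (CommRingCat.of k))} (f g : P ⟶ X) : eqzι f g ≫ f = eqzι f g ≫ g := by
  ext1
  exact equalizer.condition f.left g.left

theorem exists_eqz {P T : Over (Spec (CommRingCat.of k))} (f g : P ⟶ X) (t : T ⟶ P) (h : t ≫ f = t ≫ g) :
    ∃ s : T ⟶ eqz f g, s ≫ eqzι f g = t := by
  have h' : t.left ≫ f.left = t.left ≫ g.left := congr(($h).left)
  refine ⟨Over.homMk (equalizer.lift t.left h') ?_, ?_⟩
  · change equalizer.lift t.left h' ≫ equalizer.ι f.left g.left ≫ P.hom = T.hom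
    rw [equalizer.lift_ι_assoc, Over.w]
  · ext1
    exact equalizer.lift_ι _ _

instance {P : Over (Spec (CommRingCat.of k))} (f g : P ⟶ X) : IsImmersion (eqzι f g).left :=
  inferInstanceAs (IsImmersion (equalizer.ι f.left g.left))

include ho in
/-- Two equivariant maps on `M × Y` agreeing on the zero section agree on a closed subscheme. -/
theorem isClosedImmersion_eqz (a : MonAct G X) (f g : M ⊗ Y ⟶ X)
    (hf : IsEquivariant (((regular M).restrict i).prod (MonAct.trivial G Y)) a f)
    (hg : IsEquivariant (((regular M).restrict i).prod (MonAct.trivial G Y)) a g)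
    (h0 : lift (toUnit Y ≫ o) (𝟙 Y) ≫ f = lift (toUnit Y ≫ o) (𝟙 Y) ≫ g) : IsClosedImmersion (eqzι f g).left := by
  apply IsClosedImmersion.of_isPreimmersion
  set E : Set (M ⊗ Y).left := Set.range (eqzι f g).left with hE
  set ρ := ((regular M).restrict i).prod (MonAct.trivial G Y) with hρ
  have hst : ∀ q : (G ⊗ (M ⊗ Y)).left, (snd G (M ⊗ Y)).left q ∈ E → ρ.act.left q ∈ E := by
    rintro q ⟨u, hu⟩
    obtain ⟨r, -, hr⟩ := Scheme.exists_preimage_of_isPullback (isPullback_whiskerLeft_left G (eqzι f g)) u q hu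
    obtain ⟨s, hs⟩ := exists_eqz f g ((G ◁ eqzι f g) ≫ ρ.act) (by
      rw [Category.assoc, Category.assoc, hf, hg, ← Category.assoc, ← Category.assoc,
        ← MonoidalCategory.whiskerLeft_comp, ← MonoidalCategory.whiskerLeft_comp, eqzι_condition])
    refine ⟨s.left r, ?_⟩
    rw [← hr, ← Scheme.Hom.comp_apply, ← Over.comp_left, hs, Over.comp_left, Scheme.Hom.comp_apply]
  have hlc : IsLocallyClosed E := (eqzι f g).left.isLocallyClosed_range
  let W : (M ⊗ Y).left.Opens := ⟨coborder E, hlc.isOpen_coborder⟩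
  have hW : W = ⊤ := by
    refine eq_top_of_stable i o ho W (fun q hq => coborder_stable ρ E hst q hq) ?_
    rw [eq_top_iff]
    intro y _
    obtain ⟨s, hs⟩ := exists_eqz f g _ h0
    change (lift (toUnit Y ≫ o) (𝟙 Y)).left y ∈ coborder E
    apply subset_coborder
    rw [← hs]
    exact ⟨s.left y, (Scheme.Hom.comp_apply _ _ _).symm⟩
  rw [← coborder_eq_univ_iff]
  exact congrArg (fun U : (M ⊗ Y).left.Opens => (U : Set (M ⊗ Y).left)) hW

end Top

end K951.StabGrp
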