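import Groth.Agent.Magnet.K951.EtSh
import Groth.Agent.Magnet.K951.Shf
import Groth.Agent.Magnet.K951.BBAff
import Groth.Agent.Magnet.K951.StabGrp

/-!
# Representability of the Białynicki-Birula functor by gluing over stable affine opens
-/

set_option autoImplicit false
set_option linter.unusedSectionVars false

universe u

open CategoryTheory MonoidalCategory CartesianMonoidalCategory MonObj AlgebraicGeometry Opposite Limits

namespace K951.BBGlue

open Magnet Magnet.MonAct K951.Prd K951.Dense K951.ClSub K951.Stab K951.StabGrp K951.BBAff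

section OpenAct

variable {S : Scheme.{u}} {G X : Over S} [MonObj G] (a : MonAct G X) (U : X.left.Opens) (hU : IsStable a U)

theorem mono_opι : Mono (opι X U) := 
  have : Mono (opι X U).left := inferInstanceAs (Mono U.ι)
  K951.Dense.mono_of_mono_left (opι X U)

include hU in
theorem exists_openAct : ∃ f : G ⊗ opT X U ⟶ opT X U, f ≫ opι X U = (G ◁ opι X U) ≫ a.act := by
  have hop : IsOpenImmersion (opι X U).left := inferInstanceAs (IsOpenImmersion U.ι)
  refine exists_factor_open (opι X U) _ ?_
  have h1 : (opι X U).left.opensRange = U := U.opensRange_ι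
  rw [h1, eq_top_iff]
  intro q _
  change ((G ◁ opι X U) ≫ a.act).left q ∈ U
  rw [Over.comp_left, Scheme.Hom.comp_apply]
  apply hU
  change (snd G X).left ((G ◁ opι X U).left q) ∈ U
  rw [← Scheme.Hom.comp_apply, ← Over.comp_left, whiskerLeft_snd, Over.comp_left, Scheme.Hom.comp_apply]
  exact ((snd G (opT X U)).left q).2

/-- The action on a stable open. -/
noncomputable def openAct : MonAct G (opT X U) :=
  have := mono_opι (X := X) U
  MonAct.mk' (exists_openAct a U hU).choose
    (fun T x => by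
      rw [← cancel_mono (opι X U), Category.assoc, (exists_openAct a U hU).choose_spec, lift_whiskerLeft_assoc,
        a.lift_one_act])
    (fun T g h x => by
      rw [← cancel_mono (opι X U)]
      simp only [Category.assoc, (exists_openAct a U hU).choose_spec, lift_whiskerLeft_assoc, a.lift_mul_act])

theorem isEquivariant_opι : IsEquivariant (openAct a U hU) a (opι X U) :=
  (exists_openAct a U hU).choose_spec

end OpenAct

section Field

variable {k : Type u} [Field k] {M G X : Over (Spec (CommRingCat.of k))} [MonObj M] [GrpObj G]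
  [IsAffine M.left] [IsAffine G.left] (i : G ⟶ M) [IsMonHom i] [IsSchemeTheoreticallyDominant i.left]
  (o : 𝟙_ (Over (Spec (CommRingCat.of k))) ⟶ M)
  (ho : ∀ (T : Over (Spec (CommRingCat.of k))) (m : T ⟶ M),
    m * (toUnit T ≫ o) = toUnit T ≫ o ∧ (toUnit T ≫ o) * m = toUnit T ≫ o)
  (a : MonAct G X)

/-- The zero value of a family. -/
noncomputable def ev0 {T : Over (Spec (CommRingCat.of k))} (φ : M ⊗ T ⟶ X) : T ⟶ X := lift (toUnit T ≫ o) (𝟙 T) ≫ φ

include ho in
/-- A family whose zero value lies in a stable open lies in that open. -/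
theorem preimage_eq_top {T : Over (Spec (CommRingCat.of k))} {φ : M ⊗ T ⟶ X}
    (hφ : IsEquivariant (((regular M).restrict i).prod (MonAct.trivial G T)) a φ) (W : X.left.Opens)
    (hW : IsStable a W) (h : (ev0 o φ).left ⁻¹ᵁ W = ⊤) : φ.left ⁻¹ᵁ W = ⊤ :=
  eq_top_of_stable i o (fun T m => (ho T m).2) _ (hW.preimage hφ) (by
    rw [← h, ev0, Over.comp_left, Scheme.Hom.comp_preimage])

include ho in
/-- The zero value is a fixed point. -/
theorem ev0_fixed {T : Over (Spec (CommRingCat.of k))} {φ : M ⊗ T ⟶ X}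
    (hφ : IsEquivariant (((regular M).restrict i).prod (MonAct.trivial G T)) a φ)
    (T' : Over (Spec (CommRingCat.of k))) (t : T' ⟶ T) (g : T' ⟶ G) : lift g (t ≫ ev0 o φ) ≫ a.act = t ≫ ev0 o φ := by
  rw [mem_eqvHom_iff] at hφ
  have h1 := hφ T' g (toUnit T' ≫ o) t
  rw [lift_restrict_act, lift_regular_act, (ho T' _).1] at h1
  have h2 : t ≫ ev0 o φ = lift (toUnit T' ≫ o) t ≫ φ := by
    rw [ev0, ← Category.assoc, comp_lift, Category.comp_id, ← Category.assoc, comp_toUnit]
  rw [h2, ← h1]

theorem ev0_comp {T T' : Over (Spec (CommRingCat.of k))} (t : T' ⟶ T) (φ : M ⊗ T ⟶ X) :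
    ev0 o ((M ◁ t) ≫ φ) = t ≫ ev0 o φ := by
  rw [ev0, ev0, lift_whiskerLeft_assoc, ← Category.assoc t, comp_lift, Category.comp_id, Category.id_comp,
    ← Category.assoc t, comp_toUnit]

variable (hcov : ∀ (T : Over (Spec (CommRingCat.of k))) (x : (fixedPsh a).obj (op T)),
      ⨆ (U : X.left.Opens) (_ : IsAffineOpen U ∧ IsStable a U), x.1.left ⁻¹ᵁ U = ⊤)

/-- Stable affine opens. -/
abbrev Idx : Type u := {U : X.left.Opens // IsAffineOpen U ∧ IsStable a U}

instance isAffine_opT (U : Idx a) : IsAffine (opT X U.1).left := U.2.1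

/-- The chart. -/
noncomputable abbrev ch (U : Idx a) : Over (Spec (CommRingCat.of k)) := locus i (openAct a U.1 U.2.2)

/-- The universal family on the chart. -/
noncomputable def chw (U : Idx a) : (eqvHom ((regular M).restrict i) a).obj (op (ch i a U)) :=
  ⟨univ i (openAct a U.1 U.2.2) ≫ opι X U.1,
    ((ext_univ i (openAct a U.1 U.2.2)).isEquivariant).comp (isEquivariant_opι a U.1 U.2.2)⟩

theorem map_chw (U : Idx a) {R : Over (Spec (CommRingCat.of k))} (m : R ⟶ ch i a U) :
    ((eqvHom ((regular M).restrict i) a).map m.op (chw i a U)).1 =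
      ((rep i (openAct a U.1 U.2.2)).homEquiv m).1 ≫ opι X U.1 := by
  change (M ◁ m) ≫ univ i (openAct a U.1 U.2.2) ≫ opι X U.1 = ((M ◁ m) ≫ univ i (openAct a U.1 U.2.2)) ≫ opι X U.1
  rw [Category.assoc]

include ho in
theorem exists_iff_ch {T : Over (Spec (CommRingCat.of k))} (φ : (eqvHom ((regular M).restrict i) a).obj (op T))
    (U : Idx a) {R : Over (Spec (CommRingCat.of k))} (g : R ⟶ T) :
    (∃ m : R ⟶ ch i a U, (eqvHom ((regular M).restrict i) a).map m.op (chw i a U) =
      (eqvHom ((regular M).restrict i) a).map g.op φ) ↔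
      Set.range g.left ⊆ ((ev0 o φ.1).left ⁻¹ᵁ U.1 : Set T.left) := by
  have hop : IsOpenImmersion (opι X U.1).left := inferInstanceAs (IsOpenImmersion U.1.ι)
  have hor : (opι X U.1).left.opensRange = U.1 := U.1.opensRange_ι
  have hmono := mono_opι (X := X) U.1
  have hφg := ((eqvHom ((regular M).restrict i) a).map g.op φ).2
  constructor
  · rintro ⟨m, hm⟩
    have h1 := congrArg Subtype.val hm
    rw [map_chw] at h1
    have h2 : g ≫ ev0 o φ.1 = ev0 o (((rep i (openAct a U.1 U.2.2)).homEquiv m).1 ≫ opι X U.1) := by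
      rw [h1, ← ev0_comp]
      rfl
    rintro _ ⟨r, rfl⟩
    change (ev0 o φ.1).left (g.left r) ∈ U.1
    rw [← Scheme.Hom.comp_apply, ← Over.comp_left, h2, ev0, ← Category.assoc, Over.comp_left, Scheme.Hom.comp_apply]
    exact (_ : (U.1 : Scheme.{u})).2
  · intro h
    have h1 : (ev0 o ((M ◁ g) ≫ φ.1)).left ⁻¹ᵁ U.1 = ⊤ := by
      rw [ev0_comp, eq_top_iff]
      intro r _
      exact h ⟨r, rfl⟩
    have h2 := preimage_eq_top i o ho a hφg U.1 U.2.2 h1
    obtain ⟨ψ, hψ⟩ := exists_factor_open (opι X U.1) ((M ◁ g) ≫ φ.1) (by rw [hor]; exact h2)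
    have hψe : IsEquivariant (((regular M).restrict i).prod (MonAct.trivial G R)) (openAct a U.1 U.2.2) ψ := by
      have h3 := hφg
      change IsEquivariant _ _ ((M ◁ g) ≫ φ.1) at h3
      rw [← hψ] at h3
      unfold IsEquivariant at h3 ⊢
      rw [← cancel_mono (opι X U.1), Category.assoc, h3, MonoidalCategory.whiskerLeft_comp, Category.assoc,
        Category.assoc, isEquivariant_opι]
    let ψ' : (eqvHom ((regular M).restrict i) (openAct a U.1 U.2.2)).obj (op R) := ⟨ψ, hψe⟩
    obtain ⟨m, hm⟩ := (rep i (openAct a U.1 U.2.2)).homEquiv.surjective ψ'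
    refine ⟨m, ?_⟩
    apply Subtype.ext
    rw [map_chw, hm]
    exact hψ

/-- The atlas of the Białynicki-Birula functor. -/
noncomputable def atlas : Groth.Agent.Sga3B.RepDescent.Atlas (eqvHom ((regular M).restrict i) a) :=
  @Groth.Agent.Sga3B.RepDescent.Atlas.mk _ _ (Idx a) (ch i a) (chw i a)
    (by
      intro U R m₁ m₂ h
      have h1 := congrArg Subtype.val h
      dsimp only at h1
      rw [map_chw, map_chw] at h1
      have := mono_opι (X := X) U.1
      rw [cancel_mono] at h1
      exact (rep i (openAct a U.1 U.2.2)).homEquiv.injective (Subtype.ext h1))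
    (fun T φ U => (ev0 o φ.1).left ⁻¹ᵁ U.1)
    (fun T φ U R g => exists_iff_ch i o ho a φ U g)
    (by
      intro T φ τ
      have h := hcov T ⟨ev0 o φ.1, ev0_fixed i o ho a φ.2⟩
      have h1 : τ ∈ (⊤ : T.left.Opens) := trivial
      rw [← h] at h1
      simp only [TopologicalSpace.Opens.mem_iSup] at h1
      obtain ⟨U, hU, h2⟩ := h1
      exact ⟨⟨U, hU⟩, h2⟩)

include ho hcov in
/-- The Białynicki-Birula functor is representable when the stable affine opens cover the fixed points. -/
theorem exists_rep : ∃ Z, Nonempty ((eqvHom ((regular M).restrict i) a).RepresentableBy Z) :=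
  Groth.Agent.Sga3B.RepDescent.exists_representableBy_of_atlas (atlas i o ho a hcov)
    (K951.EtSh.isEtSheaf_of_isSheaf (K951.Shf.isSheaf_eqvHom _ _ _))

end Field

end K951.BBGlue
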