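import Groth.Agent.FlatB.PushGlue
import Groth.Agent.Magnet.K951.Stab

/-!
# Localisation on the base: morphisms over `S` can be compared, glued, and pushouts checked over the affine opens of `S`
-/

set_option autoImplicit false

universe u

open CategoryTheory MonoidalCategory CartesianMonoidalCategory AlgebraicGeometry Opposite Limits

namespace K951.LocS

variable {S : Scheme.{u}}

/-- An open subscheme of `S`, as an object over `S`. -/
abbrev opS (U : S.Opens) : Over S := Over.mk U.ι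

/-- The inclusion of opens. -/
noncomputable def inc {U V : S.Opens} (h : U ≤ V) : opS U ⟶ opS V := Over.homMk (S.homOfLE h) (by simp)

instance isOpenImmersion_fst (W : Over S) (U : S.Opens) : IsOpenImmersion (fst W (opS U)).left :=
  inferInstanceAs (IsOpenImmersion (pullback.fst W.hom U.ι))

theorem mem_range_fst (W : Over S) (U : S.Opens) (w : W.left) :
    w ∈ Set.range (fst W (opS U)).left ↔ W.hom w ∈ U := by
  have h : Set.range (pullback.fst W.hom U.ι) = W.hom ⁻¹' Set.range U.ι :=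
    Scheme.Pullback.range_fst W.hom U.ι
  have h2 : Set.range (fst W (opS U)).left = W.hom ⁻¹' Set.range U.ι := h
  rw [h2, Scheme.Opens.range_ι]
  rfl

/-- Morphisms over `S` agree as soon as they agree over all affine opens of `S`. -/
theorem hom_ext_local {W Z : Over S} {m₁ m₂ : W ⟶ Z}
    (h : ∀ U : S.affineOpens, fst W (opS U.1) ≫ m₁ = fst W (opS U.1) ≫ m₂) : m₁ = m₂ := by
  ext1
  apply Scheme.hom_ext_of_forall
  intro w
  obtain ⟨U, hU, hwU, -⟩ := exists_isAffineOpen_mem_and_subset (x := W.hom w) (U := ⊤) trivial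
  refine ⟨(fst W (opS U)).left.opensRange, (mem_range_fst W U w).2 hwU, ?_⟩
  rw [← cancel_epi (fst W (opS U)).left.isoOpensRange.hom, Scheme.Hom.isoOpensRange_hom_ι_assoc,
    Scheme.Hom.isoOpensRange_hom_ι_assoc]
  exact congrArg (fun m => m.left) (h ⟨U, hU⟩)

/-- Gluing morphisms over `S` given over all affine opens of `S`. -/
theorem exists_glue_local {W Z : Over S} (m : ∀ U : S.affineOpens, W ⊗ opS U.1 ⟶ Z)
    (hm : ∀ (U V : S.affineOpens) (h : U.1 ≤ V.1), (W ◁ inc h) ≫ m V = m U) :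
    ∃ m' : W ⟶ Z, ∀ U : S.affineOpens, fst W (opS U.1) ≫ m' = m U := by
  obtain ⟨h, hh⟩ := Groth.Agent.FlatB.PushGlue.exists_glue (fun U : S.affineOpens => (W ⊗ opS U.1).left)
    (fun U => (fst W (opS U.1)).left) (fun U => (m U).left) (fun w => by
      obtain ⟨U, hU, hwU, -⟩ := exists_isAffineOpen_mem_and_subset (x := W.hom w) (U := ⊤) trivial
      exact ⟨⟨U, hU⟩, (mem_range_fst W U w).2 hwU⟩) (fun U V w hU hV => by
      rw [mem_range_fst] at hU hV
      obtain ⟨V', hV', hwV', hle⟩ := exists_isAffineOpen_mem_and_subset (x := W.hom w) (U := U.1 ⊓ V.1) ⟨hU, hV⟩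
      have h1 : V' ≤ U.1 := fun x hx => (hle hx).1
      have h2 : V' ≤ V.1 := fun x hx => (hle hx).2
      refine ⟨⟨V', hV'⟩, (W ◁ inc h1).left, (W ◁ inc h2).left, ?_, ?_, (mem_range_fst W V' w).2 hwV', ?_⟩
      · rw [← Over.comp_left, whiskerLeft_fst]
      · rw [← Over.comp_left, whiskerLeft_fst]
      · rw [← Over.comp_left, ← Over.comp_left, hm ⟨V', hV'⟩ U h1, hm ⟨V', hV'⟩ V h2])
  have hw : h ≫ Z.hom = W.hom := by
    apply Scheme.hom_ext_of_forall
    intro w
    obtain ⟨U, hU, hwU, -⟩ := exists_isAffineOpen_mem_and_subset (x := W.hom w) (U := ⊤) trivial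
    refine ⟨(fst W (opS U)).left.opensRange, (mem_range_fst W U w).2 hwU, ?_⟩
    rw [← cancel_epi (fst W (opS U)).left.isoOpensRange.hom, Scheme.Hom.isoOpensRange_hom_ι_assoc,
      Scheme.Hom.isoOpensRange_hom_ι_assoc]
    have h1 := hh ⟨U, hU⟩
    have h2 : (fst W (opS U)).left ≫ h = (m ⟨U, hU⟩).left := h1
    rw [reassoc_of% h2, Over.w, Over.w]
  refine ⟨Over.homMk h hw, fun U => ?_⟩
  ext1
  exact hh U

/-- A square over `S` is a pushout as soon as its restrictions to all affine opens of `S` are. -/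
theorem isPushout_of_local {X X' Y Y' : Over S} {f : X ⟶ X'} {g : X ⟶ Y} {g' : X' ⟶ Y'} {f' : Y ⟶ Y'}
    (h : ∀ U : S.affineOpens, IsPushout (f ▷ opS U.1) (g ▷ opS U.1) (g' ▷ opS U.1) (f' ▷ opS U.1)) :
    IsPushout f g g' f' := by
  have hw : f ≫ g' = g ≫ f' := by
    apply hom_ext_local
    intro U
    have h1 := congrArg (fun m => m ≫ fst Y' (opS U.1)) (h U).w
    simp only [Category.assoc, whiskerRight_fst] at h1
    rw [whiskerRight_fst_assoc, whiskerRight_fst_assoc] at h1
    rw [h1]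
  have ex : ∀ (Z : Over S) (u : X' ⟶ Z) (v : Y ⟶ Z), f ≫ u = g ≫ v → ∃ m : Y' ⟶ Z, g' ≫ m = u ∧ f' ≫ m = v := by
    intro Z u v huv
    have hc : ∀ U : S.affineOpens, (f ▷ opS U.1) ≫ fst _ _ ≫ u = (g ▷ opS U.1) ≫ fst _ _ ≫ v := by
      intro U
      rw [whiskerRight_fst_assoc, whiskerRight_fst_assoc, huv]
    obtain ⟨m, hm⟩ := exists_glue_local (fun U => (h U).desc (fst _ _ ≫ u) (fst _ _ ≫ v) (hc U)) (fun U V hUV => by
      apply (h U).hom_ext
      · rw [IsPushout.inl_desc, ← whisker_exchange_assoc, IsPushout.inl_desc, whiskerLeft_fst_assoc]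
      · rw [IsPushout.inr_desc, ← whisker_exchange_assoc, IsPushout.inr_desc, whiskerLeft_fst_assoc])
    refine ⟨m, ?_, ?_⟩
    · apply hom_ext_local
      intro U
      rw [← whiskerRight_fst_assoc, hm U, IsPushout.inl_desc]
    · apply hom_ext_local
      intro U
      rw [← whiskerRight_fst_assoc, hm U, IsPushout.inr_desc]
  refine ⟨⟨hw⟩, ⟨PushoutCocone.IsColimit.mk _
    (fun s => Classical.choose (ex s.pt s.inl s.inr s.condition))
    (fun s => (Classical.choose_spec (ex s.pt s.inl s.inr s.condition)).1)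
    (fun s => (Classical.choose_spec (ex s.pt s.inl s.inr s.condition)).2) (fun s m h1 h2 => ?_)⟩⟩
  have h3 := Classical.choose_spec (ex s.pt s.inl s.inr s.condition)
  apply hom_ext_local
  intro U
  apply (h U).hom_ext
  · rw [whiskerRight_fst_assoc, whiskerRight_fst_assoc, h1, h3.1]
  · rw [whiskerRight_fst_assoc, whiskerRight_fst_assoc, h2, h3.2]

end K951.LocS
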