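import Groth.Agent.Magnet.K951.Prod

/-!
# The coaction of an action of `A(M)_S` on an affine scheme over an arbitrary base
-/

set_option autoImplicit false

universe u

open CategoryTheory MonoidalCategory CartesianMonoidalCategory MonObj AlgebraicGeometry Opposite Limits

namespace K951.Coact

open Magnet Magnet.MonAct K951.Pts K951.Prd

variable {S : Scheme.{u}} {M : Type} [AddCommMonoid M]

/-- The ring isomorphism `Γ(Y)[M] ≅ Γ(A(M)_S ×_S Y)`. -/
noncomputable def gamE (Y : Over S) [IsAffine Y.left] (M : Type) [AddCommMonoid M] :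
    MonoidAlgebra (Fn Y) (Multiplicative M) ≃+* Fn (AMonS S M ⊗ Y) :=
  RingEquiv.ofBijective (gam Y M) (gam_bijective M Y)

theorem gamE_apply (Y : Over S) [IsAffine Y.left] (p : MonoidAlgebra (Fn Y) (Multiplicative M)) :
    gamE Y M p = gam Y M p := rfl

section

variable {Y : Over S} [IsAffine Y.left] (a : MonAct (AMonS S M) Y)

/-- THE COACTION of an action of `A(M)_S` on an affine scheme. -/
noncomputable def coact : Fn Y →+* MonoidAlgebra (Fn Y) (Multiplicative M) :=
  (gamE Y M).symm.toRingHom.comp (pb a.act)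

theorem gam_coact (f : Fn Y) : gam Y M (coact a f) = pb a.act f :=
  (gamE Y M).apply_symm_apply _

/-- THE POINTS FORMULA for the action on functions. -/
theorem pb_lift_act {W : Over S} (g : W ⟶ AMonS S M) (y : W ⟶ Y) (f : Fn Y) :
    pb (lift g y ≫ a.act) f = evl g y (coact a f) := by
  rw [pb_comp_apply, ← gam_coact, pb_lift_gam_apply]

theorem coact_eq_iff (f : Fn Y) (p : MonoidAlgebra (Fn Y) (Multiplicative M)) :
    coact a f = p ↔ pb a.act f = gam Y M p := by
  rw [← gam_coact]
  exact ⟨fun h => by rw [h], fun h => (gam_bijective M Y).1 h⟩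

/-- The homogeneous component of degree `m`. -/
noncomputable def cmp (m : M) (f : Fn Y) : Fn Y := (coact a f).coeff (Multiplicative.ofAdd m)

/-- Homogeneous functions of degree `m`. -/
def IsHomog (m : M) (f : Fn Y) : Prop := coact a f = MonoidAlgebra.single (Multiplicative.ofAdd m) f

theorem IsHomog.pb_lift_act {m : M} {f : Fn Y} (hf : IsHomog a m f) {W : Over S} (g : W ⟶ AMonS S M) (y : W ⟶ Y) :
    pb (lift g y ≫ a.act) f = pb y f * chi g (Multiplicative.ofAdd m) := by
  rw [K951.Coact.pb_lift_act, hf, evl_single]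

/-- A function is homogeneous as soon as the universal point formula holds. -/
theorem isHomog_of_pb {m : M} {f : Fn Y}
    (h : pb a.act f = pb (snd (AMonS S M) Y) f * chi (fst (AMonS S M) Y) (Multiplicative.ofAdd m)) :
    IsHomog a m f := by
  rw [IsHomog, coact_eq_iff, gam_single, h]

theorem isHomog_iff {m : M} {f : Fn Y} : IsHomog a m f ↔
    ∀ (W : Over S) (g : W ⟶ AMonS S M) (y : W ⟶ Y), pb (lift g y ≫ a.act) f = pb y f * chi g (Multiplicative.ofAdd m) :=
  ⟨fun h W g y => h.pb_lift_act a g y, fun h => isHomog_of_pb a (by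
    have := h _ (fst _ _) (snd _ _)
    rwa [lift_fst_snd, Category.id_comp] at this)⟩

theorem IsHomog.mul {m n : M} {f g : Fn Y} (hf : IsHomog a m f) (hg : IsHomog a n g) : IsHomog a (m + n) (f * g) := by
  rw [IsHomog, map_mul, hf, hg, MonoidAlgebra.single_mul_single]
  rfl

theorem IsHomog.add {m : M} {f g : Fn Y} (hf : IsHomog a m f) (hg : IsHomog a m g) : IsHomog a m (f + g) := by
  rw [IsHomog, map_add, hf, hg, MonoidAlgebra.single_add]

theorem isHomog_zero (m : M) : IsHomog a m 0 := by
  rw [IsHomog, map_zero, MonoidAlgebra.single_zero]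

theorem isHomog_one : IsHomog a 0 1 := by
  rw [IsHomog, map_one]; rfl

/-- Counit law: a function is the sum of its components. -/
theorem sum_cmp (f : Fn Y) : (coact a f).coeff.sum (fun _ (b : Fn Y) => b) = f := by
  have h := pb_lift_act a (1 : Y ⟶ AMonS S M) (𝟙 Y) f
  rw [lift_one_act, pb_id, RingHom.id_apply, evl_apply] at h
  conv_rhs => rw [h]
  refine Finsupp.sum_congr fun n _ => ?_
  rw [pb_id, RingHom.id_apply, chi_one, MonoidHom.one_apply, _root_.mul_one]

/-- The components are homogeneous (coassociativity). -/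
theorem isHomog_cmp (m : M) (f : Fn Y) : IsHomog a m (cmp a m f) := by
  have hA := isAffine_prod M Y
  -- the universal triple of points
  let g : AMonS S M ⊗ (AMonS S M ⊗ Y) ⟶ AMonS S M := fst _ _
  let h : AMonS S M ⊗ (AMonS S M ⊗ Y) ⟶ AMonS S M := snd _ _ ≫ fst _ _
  let y : AMonS S M ⊗ (AMonS S M ⊗ Y) ⟶ Y := snd _ _ ≫ snd _ _
  have hy : lift h y = snd _ _ := by
    rw [← comp_lift, lift_fst_snd, Category.comp_id]
  have h1 := congrArg (fun w => pb w f) (lift_mul_act a g h y)
  rw [pb_lift_act, pb_lift_act, evl_apply, evl_apply] at h1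
  -- both sides as elements of the monoid algebra
  have h2 : gam (AMonS S M ⊗ Y) M ((coact a f).coeff.sum fun n b =>
        MonoidAlgebra.single n (gam Y M (MonoidAlgebra.single n b))) =
      gam (AMonS S M ⊗ Y) M ((coact a f).coeff.sum fun n b =>
        MonoidAlgebra.single n (gam Y M (coact a b))) := by
    rw [Finsupp.sum, Finsupp.sum, map_sum, map_sum]
    refine Eq.trans (Eq.trans (Finset.sum_congr rfl fun n _ => ?_) h1) (Finset.sum_congr rfl fun n _ => ?_)
    · rw [gam_single, gam_single, map_mul, pb_chi, ← pb_comp_apply, chi_mul]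
      change _ = Prd.pb y ((coact a f).coeff n) * (chi g n * chi h n)
      ring
    · rw [gam_single, gam_coact, ← pb_comp_apply, hy]
  have h3 := (gam_bijective M (AMonS S M ⊗ Y)).1 h2
  have h4 := congrArg (fun p => p.coeff (Multiplicative.ofAdd m)) h3
  rw [Finsupp.sum, Finsupp.sum, MonoidAlgebra.coeff_sum, MonoidAlgebra.coeff_sum, Finsupp.finsetSum_apply,
    Finsupp.finsetSum_apply] at h4
  simp only [MonoidAlgebra.coeff_single] at h4
  by_cases hm : Multiplicative.ofAdd m ∈ (coact a f).coeff.support
  · rw [Finset.sum_eq_single_of_mem _ hm, Finset.sum_eq_single_of_mem _ hm, Finsupp.single_eq_same,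
      Finsupp.single_eq_same] at h4
    · exact ((gam_bijective M Y).1 h4).symm
    · intro b _ hb
      exact Finsupp.single_eq_of_ne hb.symm
    · intro b _ hb
      exact Finsupp.single_eq_of_ne hb.symm
  · have : cmp a m f = 0 := Finsupp.notMem_support_iff.1 hm
    rw [this]
    exact isHomog_zero a m

theorem cmp_of_isHomog {m : M} {f : Fn Y} (hf : IsHomog a m f) : cmp a m f = f := by
  rw [cmp, hf, MonoidAlgebra.coeff_single, Finsupp.single_eq_same]

theorem cmp_of_isHomog_ne {m n : M} {f : Fn Y} (hf : IsHomog a m f) (h : n ≠ m) : cmp a n f = 0 := by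
  rw [cmp, hf, MonoidAlgebra.coeff_single, Finsupp.single_eq_of_ne]
  exact fun h' => h (Multiplicative.ofAdd.injective h')

theorem cmp_add (m : M) (f g : Fn Y) : cmp a m (f + g) = cmp a m f + cmp a m g := by
  rw [cmp, map_add]; rfl

/-- Every function is a finite sum of homogeneous ones: induction principle. -/
theorem homog_induction {P : Fn Y → Prop} (h0 : P 0) (hadd : ∀ f g, P f → P g → P (f + g))
    (hh : ∀ m f, IsHomog a m f → P f) (f : Fn Y) : P f := by
  rw [← sum_cmp a f, Finsupp.sum]
  refine Finset.sum_induction _ _ hadd h0 fun n _ => ?_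
  exact hh (Multiplicative.toAdd n) _ (isHomog_cmp a (Multiplicative.toAdd n) f)

/-- Two additive maps agreeing on homogeneous functions agree. -/
theorem ringHom_ext_homog {B : Type*} [CommRing B] {φ ψ : Fn Y →+* B}
    (h : ∀ m f, IsHomog a m f → φ f = ψ f) : φ = ψ := by
  apply RingHom.ext
  intro f
  refine homog_induction a (P := fun f => φ f = ψ f) (by rw [map_zero, map_zero]) ?_ h f
  intro f g hf hg
  rw [map_add, map_add, hf, hg]

end

/-- Pull-back of functions along an equivariant morphism is graded. -/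
theorem IsHomog.pb {Y Y' : Over S} [IsAffine Y.left] [IsAffine Y'.left] {a : MonAct (AMonS S M) Y}
    {b : MonAct (AMonS S M) Y'} {φ : Y ⟶ Y'} (hφ : IsEquivariant a b φ) {m : M} {f : Fn Y'} (hf : IsHomog b m f) :
    IsHomog a m (pb φ f) := by
  apply isHomog_of_pb
  rw [← pb_comp_apply, hφ]
  have h := hf.pb_lift_act b (fst (AMonS S M) Y) (snd (AMonS S M) Y ≫ φ)
  rw [pb_comp_apply (snd _ _)] at h
  rw [← h]
  congr 2

/-- A morphism of affine objects whose pull-back is graded is equivariant. -/
theorem isEquivariant_of_homog {Y Y' : Over S} [IsAffine Y.left] [IsAffine Y'.left] {a : MonAct (AMonS S M) Y}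
    {b : MonAct (AMonS S M) Y'} {φ : Y ⟶ Y'} (h : ∀ (m : M) (f : Fn Y'), IsHomog b m f → IsHomog a m (Prd.pb φ f)) :
    IsEquivariant a b φ := by
  rw [isEquivariant_iff]
  intro T g x
  apply hom_ext_pb
  apply ringHom_ext_homog b
  intro m f hf
  rw [hf.pb_lift_act, ← Category.assoc, pb_comp_apply, (h m f hf).pb_lift_act, pb_comp_apply]

/-- For the trivial action every function has degree `0`. -/
theorem isHomog_trivial {Y : Over S} [IsAffine Y.left] (f : Fn Y) :
    IsHomog (MonAct.trivial (AMonS S M) Y) 0 f := by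
  apply isHomog_of_pb
  rw [trivial_act]
  have : chi (fst (AMonS S M) Y) (Multiplicative.ofAdd (0 : M)) = 1 := map_one _
  rw [this, _root_.mul_one]

end K951.Coact
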