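import Groth.Agent.AlgSp.K606.FppfRep
import Groth.Prelude.Def_CGrpSh

/-!
# The fppf sheaf condition for families, from the sheaf condition for the fppf topology
-/

set_option autoImplicit false

universe u

open CategoryTheory CategoryTheory.Limits AlgebraicGeometry Opposite

namespace K951.EtSh

theorem isFppfSheaf_of_isSheaf {S : Scheme.{u}} {F : (Over S)ᵒᵖ ⥤ Type u}
    (hF : Presieve.IsSheaf (QuotSh.J Scheme.fppfPrecoverage S) F) : K606.FppfRep.IsFppfSheaf F := by
  intro T I T' f hf hlfp hT x hx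
  have hR : Sieve.generate (Presieve.ofArrows T' f) ∈ (QuotSh.J Scheme.fppfPrecoverage S) T := by
    have h1 : Sieve.generate (Presieve.ofArrows (fun i => (T' i).left) (fun i => (f i).left)) ∈
        Scheme.fppfPrecoverage.toGrothendieck T.left := by
      apply Precoverage.generate_mem_toGrothendieck
      exact (Scheme.ofArrows_mem_precoverage_iff _).2 ⟨fun x => hT x, fun i => ⟨hf i, hlfp i⟩⟩
    have h2 := GrothendieckTopology.overEquiv_symm_mem_over _ _ _ h1
    refine GrothendieckTopology.superset_covering _ ?_ h2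
    intro W w hw
    rw [Sieve.overEquiv_symm_iff] at hw
    obtain ⟨Y, a, b, ⟨i⟩, hab⟩ := hw
    refine ⟨T' i, Over.homMk a ?_, f i, ⟨i⟩, ?_⟩
    · rw [← Over.w (f i), ← Category.assoc, hab, Over.w]
    · ext1
      exact hab
  have h3 := (Presieve.isSheafFor_iff_generate _).2 (hF _ hR)
  rw [Presieve.isSheafFor_arrows_iff] at h3
  exact h3 x hx

theorem isEtSheaf_of_isSheaf {S : Scheme.{u}} {F : (Over S)ᵒᵖ ⥤ Type u}
    (hF : Presieve.IsSheaf (QuotSh.J Scheme.fppfPrecoverage S) F) : Groth.Agent.Sga3B.RepDescent.IsEtSheaf F :=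
  K606.FppfRep.IsFppfSheaf.isEtSheaf (isFppfSheaf_of_isSheaf hF)

end K951.EtSh
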