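import Groth.Prelude.Def_Magnet4
import Mathlib.Algebra.Category.Ring.Constructions

/-!
# The square of monoid algebras of a face: `R[N'] = R[L'] ×_{R[L]} R[N]` for `N' = L' \ (L \ N)`
-/

set_option autoImplicit false

universe u

open CategoryTheory Limits

namespace K951.FaceRing

open Magnet

section

variable (R : Type u) [CommRing R] {M : Type} [AddCommMonoid M] {N F : AddSubmonoid M}

theorem coeff_faceAlgHom (hF : IsFace N F) (x : MonoidAlgebra R (Multiplicative N)) (l : F) :
    (faceAlgHom R hF x).coeff (Multiplicative.ofAdd l) =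
      x.coeff (Multiplicative.ofAdd (AddSubmonoid.inclusion hF.le l)) := by
  classical
  conv_lhs => rw [← MonoidAlgebra.sum_coeff_single x]
  rw [Finsupp.sum, map_sum, MonoidAlgebra.coeff_sum, Finsupp.finsetSum_apply]
  have h : ∀ n ∈ x.coeff.support, (faceAlgHom R hF (MonoidAlgebra.single n (x.coeff n))).coeff (Multiplicative.ofAdd l) =
      if n = Multiplicative.ofAdd (AddSubmonoid.inclusion hF.le l) then x.coeff n else 0 := by
    intro n _
    by_cases hn : ((Multiplicative.toAdd n : N) : M) ∈ F
    · rw [show n = Multiplicative.ofAdd (Multiplicative.toAdd n) from rfl, faceAlgHom_single_of_mem R hF _ hn,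
        MonoidAlgebra.coeff_single, Finsupp.single_apply]
      refine if_congr ?_ rfl rfl
      constructor
      · intro h
        apply Multiplicative.toAdd.injective
        apply Subtype.ext
        exact congrArg (fun (z : Multiplicative F) => ((Multiplicative.toAdd z : F) : M)) h
      · intro h
        apply Multiplicative.toAdd.injective
        apply Subtype.ext
        exact congrArg (fun (z : Multiplicative N) => ((Multiplicative.toAdd z : N) : M)) h
    · rw [show n = Multiplicative.ofAdd (Multiplicative.toAdd n) from rfl, faceAlgHom_single_of_not_mem R hF _ hn,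
        MonoidAlgebra.coeff_zero, Finsupp.zero_apply, if_neg]
      intro h
      apply hn
      have := congrArg (fun (z : Multiplicative N) => ((Multiplicative.toAdd z : N) : M)) h
      change ((Multiplicative.toAdd n : N) : M) = (l : M) at this
      change ((Multiplicative.toAdd n : N) : M) ∈ F
      rw [this]
      exact l.2
  rw [Finset.sum_congr rfl h, Finset.sum_ite_eq']
  split_ifs with h1
  · rfl
  · exact (Finsupp.notMem_support_iff.1 h1).symm

theorem faceAlgHom_surjective (hF : IsFace N F) : Function.Surjective (faceAlgHom R hF) := by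
  intro y
  refine ⟨(MonoidAlgebra.mapDomainBialgHom R
        (AddMonoidHom.toMultiplicative (AddSubmonoid.inclusion hF.le))) y, ?_⟩
  exact congr($(faceAlgHom_comp_mapDomain R hF) y)

end

/-- Lifting a ring map through an injective one. -/
theorem exists_lift {A B C : Type*} [CommRing A] [CommRing B] [CommRing C] (io : B →+* C)
    (hio : Function.Injective io) (θ : A →+* C) (h : ∀ x, ∃ y, io y = θ x) : ∃ ψ : A →+* B, ∀ x, io (ψ x) = θ x := by
  choose ψ hψ using h
  exact ⟨{ toFun := ψ
           map_one' := hio (by rw [hψ, map_one, map_one])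
           map_mul' := fun x y => hio (by rw [hψ, map_mul, map_mul, hψ, hψ])
           map_zero' := hio (by rw [hψ, map_zero, map_zero])
           map_add' := fun x y => hio (by rw [hψ, map_add, map_add, hψ, hψ]) }, hψ⟩

/-- A criterion for a square of rings to be cartesian. -/
theorem isPullback_of {A A' B C : Type u} [CommRing A] [CommRing A'] [CommRing B] [CommRing C]
    (α : B →+* A') (β : B →+* C) (p : A' →+* A) (q : C →+* A) (hw : p.comp α = q.comp β)
    (hα : Function.Injective α) (h : ∀ a c, p a = q c → ∃ b, α b = a ∧ β b = c) :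
    IsPullback (CommRingCat.ofHom β) (CommRingCat.ofHom α) (CommRingCat.ofHom q) (CommRingCat.ofHom p) := by
  have hs : ∀ s : PullbackCone (CommRingCat.ofHom q) (CommRingCat.ofHom p), ∀ x : s.pt,
      p (s.snd.hom x) = q (s.fst.hom x) := fun s x => congr($(s.condition).hom x).symm
  have h1 : ∀ s : PullbackCone (CommRingCat.ofHom q) (CommRingCat.ofHom p), ∃ ψ : s.pt →+* B,
      ∀ x, α (ψ x) = s.snd.hom x := fun s =>
    exists_lift α hα s.snd.hom fun x => by
      obtain ⟨b, hb, -⟩ := h _ _ (hs s x)
      exact ⟨b, hb⟩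
  choose ψ hψ using h1
  refine ⟨⟨?_⟩, ⟨PullbackCone.IsLimit.mk _ (fun s => CommRingCat.ofHom (ψ s)) ?_ ?_ ?_⟩⟩
  · ext x
    exact congr($hw.symm x)
  · intro s
    ext x
    obtain ⟨b, hb, hb'⟩ := h _ _ (hs s x)
    have : ψ s x = b := hα ((hψ s x).trans hb.symm)
    change β (ψ s x) = s.fst.hom x
    rw [this, hb']
  · intro s
    ext x
    exact hψ s x
  · intro s m h1 h2
    ext x
    apply hα
    refine (congr($(h2).hom x) : α (m.hom x) = s.snd.hom x).trans ?_
    exact (hψ s x).symm

section

variable (R : Type u) [CommRing R] {M : Type} [AddCommMonoid M] {N N' L L' : AddSubmonoid M} (hNL : N ≤ L)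
  (hN'L' : N' ≤ L') (hL : IsFace L' L) (hN : IsFace N' N)

/-- The inclusion of monoid algebras. -/
noncomputable abbrev incl {N L : AddSubmonoid M} (h : N ≤ L) :
    MonoidAlgebra R (Multiplicative N) →+* MonoidAlgebra R (Multiplicative L) :=
  MonoidAlgebra.mapDomainRingHom R (AddMonoidHom.toMultiplicative (AddSubmonoid.inclusion h))

theorem inj_toMul {N L : AddSubmonoid M} (h : N ≤ L) :
    Function.Injective (AddMonoidHom.toMultiplicative (AddSubmonoid.inclusion h)) := by
  intro x y hxy
  apply Multiplicative.toAdd.injective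
  apply Subtype.ext
  exact congrArg (fun (z : Multiplicative L) => ((Multiplicative.toAdd z : L) : M)) hxy

theorem incl_injective {N L : AddSubmonoid M} (h : N ≤ L) : Function.Injective (incl R h) :=
  MonoidAlgebra.mapDomain_injective (inj_toMul h)

theorem coeff_incl {N L : AddSubmonoid M} (h : N ≤ L) (x : MonoidAlgebra R (Multiplicative N)) (n : N) :
    (incl R h x).coeff (Multiplicative.ofAdd (AddSubmonoid.inclusion h n)) = x.coeff (Multiplicative.ofAdd n) :=
  Finsupp.mapDomain_apply (inj_toMul h) x.coeff (Multiplicative.ofAdd n)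

theorem coeff_incl_of_notMem {N L : AddSubmonoid M} (h : N ≤ L) (x : MonoidAlgebra R (Multiplicative N)) (l : L)
    (hl : (l : M) ∉ N) : (incl R h x).coeff (Multiplicative.ofAdd l) = 0 := by
  refine Finsupp.mapDomain_of_notMem_range x.coeff _ ?_
  rintro ⟨n, hn⟩
  apply hl
  have := congrArg (fun (z : Multiplicative L) => ((Multiplicative.toAdd z : L) : M)) hn
  change ((Multiplicative.toAdd n : N) : M) = (l : M) at this
  rw [← this]
  exact (Multiplicative.toAdd n).2

/-- The square of monoid algebras of a face is cartesian. -/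
theorem isPullback_face (hdiff : (N' : Set M) = (L' : Set M) \ ((L : Set M) \ (N : Set M))) :
    IsPullback (CommRingCat.ofHom (faceAlgHom R hN).toRingHom) (CommRingCat.ofHom (incl R hN'L'))
      (CommRingCat.ofHom (incl R hNL)) (CommRingCat.ofHom (faceAlgHom R hL).toRingHom) := by
  apply isPullback_of
  · apply RingHom.ext
    intro x
    apply MonoidAlgebra.coeff_injective
    ext l
    obtain ⟨l, rfl⟩ := Multiplicative.ofAdd.surjective l
    change (faceAlgHom R hL (incl R hN'L' x)).coeff _ = (incl R hNL (faceAlgHom R hN x)).coeff _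
    rw [coeff_faceAlgHom]
    by_cases hl : (l : M) ∈ N
    · have e1 := coeff_incl R hNL (faceAlgHom R hN x) ⟨l, hl⟩
      have e2 := coeff_incl R hN'L' x ⟨l, hN.le hl⟩
      have e3 := coeff_faceAlgHom R hN x ⟨l, hl⟩
      exact e2.trans (e3.symm.trans e1.symm)
    · rw [coeff_incl_of_notMem R hNL _ _ hl]
      apply coeff_incl_of_notMem
      intro h
      have h2 : (l : M) ∈ (N' : Set M) := h
      rw [hdiff] at h2
      exact h2.2 ⟨l.2, hl⟩
  · exact incl_injective R hN'L'
  · intro a c hac
    have hsupp : ↑a.coeff.support ⊆ Set.range (AddMonoidHom.toMultiplicative (AddSubmonoid.inclusion hN'L')) := by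
      intro l hl
      obtain ⟨l, rfl⟩ := Multiplicative.ofAdd.surjective l
      have hl' : (l : M) ∈ N' := by
        change (l : M) ∈ (N' : Set M)
        rw [hdiff]
        refine ⟨l.2, fun h => ?_⟩
        have e1 := coeff_faceAlgHom R hL a ⟨l, h.1⟩
        have e2 := coeff_incl_of_notMem R hNL c ⟨l, h.1⟩ h.2
        have e3 : (faceAlgHom R hL a) = incl R hNL c := hac
        rw [e3, e2] at e1
        exact (Finsupp.mem_support_iff.1 hl) e1.symm
      exact ⟨Multiplicative.ofAdd ⟨l, hl'⟩, rfl⟩
    refine ⟨MonoidAlgebra.comapDomain _ (inj_toMul hN'L') a,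
      MonoidAlgebra.mapDomain_comapDomain hsupp _, ?_⟩
    apply incl_injective R hNL
    have hb : incl R hN'L' (MonoidAlgebra.comapDomain _ (inj_toMul hN'L') a) = a :=
      MonoidAlgebra.mapDomain_comapDomain hsupp _
    apply MonoidAlgebra.coeff_injective
    ext l
    obtain ⟨l, rfl⟩ := Multiplicative.ofAdd.surjective l
    by_cases hl : (l : M) ∈ N
    · have e1 := coeff_incl R hNL (faceAlgHom R hN (MonoidAlgebra.comapDomain _ (inj_toMul hN'L') a)) ⟨l, hl⟩
      have e3 := coeff_faceAlgHom R hN (MonoidAlgebra.comapDomain _ (inj_toMul hN'L') a) ⟨l, hl⟩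
      have e2 := coeff_incl R hN'L' (MonoidAlgebra.comapDomain _ (inj_toMul hN'L') a) ⟨l, hN.le hl⟩
      rw [hb] at e2
      have e4 := coeff_faceAlgHom R hL a l
      have e5 : (faceAlgHom R hL a) = incl R hNL c := hac
      rw [e5] at e4
      exact e1.trans (e3.trans (e2.symm.trans e4.symm))
    · rw [coeff_incl_of_notMem R hNL _ _ hl, coeff_incl_of_notMem R hNL _ _ hl]

end

end K951.FaceRing
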