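import Groth.Agent.S0433
import Groth.Agent.Magnet.K951.FaceRing
import Groth.Agent.Magnet.K951.LocS
import Groth.Agent.Magnet.K951.Prod

/-!
# The pushout square of diagonalizable monoid schemes attached to a face
-/

set_option autoImplicit false

universe u

open CategoryTheory MonoidalCategory CartesianMonoidalCategory MonObj AlgebraicGeometry Opposite Limits

namespace K951.FacePush

open Magnet K951.Pts K951.Prd K951.LocS K951.FaceRing

/-- The pushout of affine schemes along a closed immersion, from a cartesian square of rings. -/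
theorem isPushout_Spec_of_isPullback {A A' B C : Type u} [CommRing A] [CommRing A'] [CommRing B] [CommRing C]
    {α : B →+* A'} {β : B →+* C} {p : A' →+* A} {q : C →+* A} (hp : Function.Surjective p)
    (h : IsPullback (CommRingCat.ofHom β) (CommRingCat.ofHom α) (CommRingCat.ofHom q) (CommRingCat.ofHom p)) :
    IsPushout (Spec.map (CommRingCat.ofHom p)) (Spec.map (CommRingCat.ofHom q))
      (Spec.map (CommRingCat.ofHom α)) (Spec.map (CommRingCat.ofHom β)) := by
  refine IsPushout.of_iso (Groth.Agent.S0433.result p hp q) (Iso.refl _) (Iso.refl _)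
    (Iso.refl _) (Scheme.Spec.mapIso h.isoPullback.op) (by simp) (by simp) ?_ ?_
  · simp only [Iso.refl_hom, Category.id_comp]
    change Spec.map _ ≫ Spec.map _ = _
    rw [← Spec.map_comp]
    congr 1
    simp
  · simp only [Iso.refl_hom, Category.id_comp]
    change Spec.map _ ≫ Spec.map _ = _
    rw [← Spec.map_comp]
    congr 1
    simp

variable {S : Scheme.{u}} {M : Type} [AddCommMonoid M]

section

variable (Y : Over S) [IsAffine Y.left] {N L : Type} [AddCommMonoid N] [AddCommMonoid L]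

/-- `Spec` of a map of monoid algebras over `Γ(Y)`. -/
noncomputable def PNmap (φ : MonoidAlgebra (Fn Y) (Multiplicative N) →+* MonoidAlgebra (Fn Y) (Multiplicative L))
    (h : φ.comp (algebraMap (Fn Y) _) = algebraMap (Fn Y) _) : PN L Y ⟶ PN N Y :=
  Over.homMk (Spec.map (CommRingCat.ofHom φ)) (by
    change Spec.map (CommRingCat.ofHom φ) ≫
      Spec.map (CommRingCat.ofHom (algebraMap (Fn Y) (MonoidAlgebra (Fn Y) (Multiplicative N)))) ≫ _ =
      Spec.map (CommRingCat.ofHom (algebraMap (Fn Y) (MonoidAlgebra (Fn Y) (Multiplicative L)))) ≫ _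
    rw [← Category.assoc, ← Spec.map_comp, ← CommRingCat.ofHom_comp, h])

theorem pb_PNmap (φ : MonoidAlgebra (Fn Y) (Multiplicative N) →+* MonoidAlgebra (Fn Y) (Multiplicative L))
    (h : φ.comp (algebraMap (Fn Y) _) = algebraMap (Fn Y) _) (x : MonoidAlgebra (Fn Y) (Multiplicative N)) :
    pb (PNmap Y φ h) (PNE N Y x) = PNE L Y (φ x) := by
  have h1 := Scheme.ΓSpecIso_inv_naturality (CommRingCat.ofHom φ)
  exact congr($(h1).hom x).symm

theorem PNmap_comp_PNsnd (φ : MonoidAlgebra (Fn Y) (Multiplicative N) →+* MonoidAlgebra (Fn Y) (Multiplicative L))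
    (h : φ.comp (algebraMap (Fn Y) _) = algebraMap (Fn Y) _) : PNmap Y φ h ≫ PNsnd N Y = PNsnd L Y := by
  apply hom_ext_pb
  apply RingHom.ext
  intro b
  rw [pb_comp_apply, pb_PNsnd, pb_PNmap, pb_PNsnd]
  congr 1
  exact congr($h b)

theorem isPushout_PNmap {N₁ N₂ N₃ N₄ : Type} [AddCommMonoid N₁] [AddCommMonoid N₂] [AddCommMonoid N₃]
    [AddCommMonoid N₄]
    (φ₁ : MonoidAlgebra (Fn Y) (Multiplicative N₂) →+* MonoidAlgebra (Fn Y) (Multiplicative N₁))
    (h₁ : φ₁.comp (algebraMap (Fn Y) _) = algebraMap (Fn Y) _)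
    (φ₂ : MonoidAlgebra (Fn Y) (Multiplicative N₃) →+* MonoidAlgebra (Fn Y) (Multiplicative N₁))
    (h₂ : φ₂.comp (algebraMap (Fn Y) _) = algebraMap (Fn Y) _)
    (φ₃ : MonoidAlgebra (Fn Y) (Multiplicative N₄) →+* MonoidAlgebra (Fn Y) (Multiplicative N₂))
    (h₃ : φ₃.comp (algebraMap (Fn Y) _) = algebraMap (Fn Y) _)
    (φ₄ : MonoidAlgebra (Fn Y) (Multiplicative N₄) →+* MonoidAlgebra (Fn Y) (Multiplicative N₃))
    (h₄ : φ₄.comp (algebraMap (Fn Y) _) = algebraMap (Fn Y) _)
    (h : IsPushout (Spec.map (CommRingCat.ofHom φ₁)) (Spec.map (CommRingCat.ofHom φ₂))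
      (Spec.map (CommRingCat.ofHom φ₃)) (Spec.map (CommRingCat.ofHom φ₄))) :
    IsPushout (PNmap Y φ₁ h₁) (PNmap Y φ₂ h₂) (PNmap Y φ₃ h₃) (PNmap Y φ₄ h₄) := by
  have h' : IsPushout ((Over.forget S).map (PNmap Y φ₁ h₁)) ((Over.forget S).map (PNmap Y φ₂ h₂))
    ((Over.forget S).map (PNmap Y φ₃ h₃)) ((Over.forget S).map (PNmap Y φ₄ h₄)) := h
  refine IsPushout.of_map (Over.forget S) ?_ h'
  ext1
  exact h.w

theorem chi_PNmap_comp (φ : MonoidAlgebra (Fn Y) (Multiplicative N) →+* MonoidAlgebra (Fn Y) (Multiplicative L))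
    (h : φ.comp (algebraMap (Fn Y) _) = algebraMap (Fn Y) _) (n : Multiplicative N) :
    chi (PNmap Y φ h ≫ PNfst N Y) n = PNE L Y (φ (MonoidAlgebra.single n 1)) := by
  rw [chi_comp, chi_PNfst]
  exact pb_PNmap Y φ h _

end

section

variable (Y : Over S) [IsAffine Y.left] {N N' L L' : AddSubmonoid M} (hNL : N ≤ L) (hN'L' : N' ≤ L')
  (hL : IsFace L' L) (hN : IsFace N' N)

theorem PNiso_hom (N : Type) [AddCommMonoid N] : (PNiso N Y).hom = lift (PNfst N Y) (PNsnd N Y) := rfl

omit [IsAffine Y.left] in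
theorem incl_algebraMap {N L : AddSubmonoid M} (h : N ≤ L) :
    (incl (Fn Y) h).comp (algebraMap (Fn Y) _) = algebraMap (Fn Y) _ := by
  apply RingHom.ext
  intro b
  change incl (Fn Y) h (MonoidAlgebra.single 1 b) = MonoidAlgebra.single 1 b
  simp [incl]

omit [IsAffine Y.left] in
theorem face_algebraMap {N F : AddSubmonoid M} (hF : IsFace N F) :
    (faceAlgHom (Fn Y) hF).toRingHom.comp (algebraMap (Fn Y) _) = algebraMap (Fn Y) _ :=
  (faceAlgHom (Fn Y) hF).comp_algebraMap

/-- The map attached to an inclusion of submonoids. -/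
noncomputable def PNincl {N L : AddSubmonoid M} (h : N ≤ L) : PN L Y ⟶ PN N Y :=
  PNmap (N := N) (L := L) Y (incl (Fn Y) h) (incl_algebraMap Y h)

/-- The map attached to a face. -/
noncomputable def PNface {N F : AddSubmonoid M} (hF : IsFace N F) : PN F Y ⟶ PN N Y :=
  PNmap (N := N) (L := F) Y (faceAlgHom (Fn Y) hF).toRingHom (face_algebraMap Y hF)

theorem PNincl_comp {N L : AddSubmonoid M} (h : N ≤ L) :
    PNincl Y h ≫ (PNiso N Y).hom =
      (PNiso L Y).hom ≫ (AMonS.map S (AddSubmonoid.inclusion h) ▷ Y) := by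
  rw [PNiso_hom, PNiso_hom, comp_lift, lift_whiskerRight]
  have h0 := PNmap_comp_PNsnd (N := N) (L := L) Y (incl (Fn Y) h) (incl_algebraMap Y h)
  have h1 : PNincl Y h ≫ PNsnd N Y = PNsnd L Y := h0
  rw [h1]
  congr 1
  apply chi_injective
  apply MonoidHom.ext
  intro n
  have h2 := chi_PNmap_comp (N := N) (L := L) Y (incl (Fn Y) h) (incl_algebraMap Y h) n
  have h3 : chi (PNincl Y h ≫ PNfst N Y) n = _ := h2
  rw [h3]
  obtain ⟨n, rfl⟩ := Multiplicative.ofAdd.surjective n
  rw [chi_map_apply, chi_PNfst]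
  congr 1
  simp [incl]

theorem PNface_comp {N F : AddSubmonoid M} (hF : IsFace N F) :
    PNface Y hF ≫ (PNiso N Y).hom =
      (PNiso F Y).hom ≫ (AMonS.faceMap S hF ▷ Y) := by
  classical
  rw [PNiso_hom, PNiso_hom, comp_lift, lift_whiskerRight]
  have h0 := PNmap_comp_PNsnd (N := N) (L := F) Y (faceAlgHom (Fn Y) hF).toRingHom (face_algebraMap Y hF)
  have h1 : PNface Y hF ≫ PNsnd N Y = PNsnd F Y := h0
  rw [h1]
  congr 1
  apply chi_injective
  apply MonoidHom.ext
  intro n
  have h2 := chi_PNmap_comp (N := N) (L := F) Y (faceAlgHom (Fn Y) hF).toRingHom (face_algebraMap Y hF) n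
  have h3 : chi (PNface Y hF ≫ PNfst N Y) n = _ := h2
  rw [h3]
  obtain ⟨n, rfl⟩ := Multiplicative.ofAdd.surjective n
  rw [chi_faceMap]
  split_ifs with hn
  · rw [chi_PNfst]
    congr 1
    exact faceAlgHom_single_of_mem _ hF n hn 1
  · have : (faceAlgHom (Fn Y) hF).toRingHom (MonoidAlgebra.single (Multiplicative.ofAdd n) 1) = 0 :=
      faceAlgHom_single_of_not_mem _ hF n hn 1
    rw [this, map_zero]

include hL hN in
theorem isPushout_PN (hdiff : (N' : Set M) = (L' : Set M) \ ((L : Set M) \ (N : Set M))) :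
    IsPushout (PNface Y hL) (PNincl Y hNL) (PNincl Y hN'L') (PNface Y hN) :=
  isPushout_PNmap (N₁ := L) (N₂ := L') (N₃ := N) (N₄ := N') Y _ _ _ _ _ _ _ _
    (isPushout_Spec_of_isPullback (faceAlgHom_surjective (Fn Y) hL)
      (isPullback_face (Fn Y) hNL hN'L' hL hN hdiff))

theorem isPushout_whisker (hdiff : (N' : Set M) = (L' : Set M) \ ((L : Set M) \ (N : Set M))) :
    IsPushout (AMonS.faceMap S hL ▷ Y) (AMonS.map S (AddSubmonoid.inclusion hNL) ▷ Y)
      (AMonS.map S (AddSubmonoid.inclusion hN'L') ▷ Y) (AMonS.faceMap S hN ▷ Y) :=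
  IsPushout.of_iso (isPushout_PN Y hNL hN'L' hL hN hdiff) (PNiso _ Y) (PNiso _ Y) (PNiso _ Y) (PNiso _ Y)
    (PNface_comp Y hL) (PNincl_comp Y hNL) (PNincl_comp Y hN'L') (PNface_comp Y hN)

end

/-- THE PUSHOUT SQUARE of diagonalizable monoid schemes attached to a face. -/
theorem isPushout_face (S : Scheme.{u}) {N N' L L' : AddSubmonoid M} (hNL : N ≤ L) (hN'L' : N' ≤ L')
    (hL : IsFace L' L) (hN : IsFace N' N) (hdiff : (N' : Set M) = (L' : Set M) \ ((L : Set M) \ (N : Set M))) :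
    IsPushout (AMonS.faceMap S hL) (AMonS.map S (AddSubmonoid.inclusion hNL))
      (AMonS.map S (AddSubmonoid.inclusion hN'L')) (AMonS.faceMap S hN) :=
  isPushout_of_local fun U =>
    have : IsAffine (opS U.1).left := U.2
    isPushout_whisker (opS U.1) hNL hN'L' hL hN hdiff

end K951.FacePush
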