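import Groth.Agent.Magnet.K951.MemLoc
import Groth.Agent.Magnet.K951.LocS
import Mathlib.AlgebraicGeometry.Morphisms.FinitePresentation

/-!
# Pure magnets of an affine scheme of finite type over a quasi-compact base: they are generated by degrees of generators
-/

set_option autoImplicit false
set_option linter.unusedSectionVars false

universe u

open CategoryTheory MonoidalCategory CartesianMonoidalCategory MonObj AlgebraicGeometry Opposite Limits
open scoped TensorProduct

namespace K951.PureAff

open Magnet Magnet.MonAct K951.Pts K951.Prd K951.Coact K951.AttrAff K951.ClSub K951.MemLoc K951.LocS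

variable {S : Scheme.{u}} {M : Type} [AddCommMonoid M] {X : Over S} (a : MonAct (AMonS S M) X) [IsAffineHom X.hom]

attribute [local instance] isAffine_tensor

section Kill

variable {T : Over S} [IsAffine T.left]

/-- A point killing the generators of degree outside `N` kills all homogeneous functions of degree outside `N`. -/
theorem pb_eq_zero_of_gens (N : AddSubmonoid M) (x : T ⟶ X) (gens : Set (Fn (X ⊗ T)))
    (hgen : Subring.closure (Set.range (pb (snd X T)) ∪ gens) = ⊤)
    (hk : ∀ g ∈ gens, ∃ m, IsHomog (aT a T) m g ∧ (m ∉ N → pb (lift x (𝟙 T)) g = 0)) :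
    ∀ m ∉ N, ∀ f : Fn (X ⊗ T), IsHomog (aT a T) m f → pb (lift x (𝟙 T)) f = 0 := by
  let θ : Fn (X ⊗ T) →+* MonoidAlgebra (Fn T) (Multiplicative M) :=
    (MonoidAlgebra.mapRingHom (Multiplicative M) (pb (lift x (𝟙 T)))).comp (coact (aT a T))
  have hθ : ∀ m f, IsHomog (aT a T) m f →
      θ f = MonoidAlgebra.single (Multiplicative.ofAdd m) (pb (lift x (𝟙 T)) f) := by
    intro m f hf
    simp only [θ, RingHom.comp_apply]
    rw [hf, MonoidAlgebra.mapRingHom_single]
  let io : MonoidAlgebra (Fn T) (Multiplicative N) →+* MonoidAlgebra (Fn T) (Multiplicative M) :=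
    MonoidAlgebra.mapDomainRingHom (Fn T) (AddMonoidHom.toMultiplicative N.subtype)
  have hio : ∀ m ∉ N, ∀ b : Fn T, MonoidAlgebra.single (Multiplicative.ofAdd m) b ∈ io.range → b = 0 := by
    rintro m hm b ⟨p, hp⟩
    have h1 := congrArg (fun q => q.coeff (Multiplicative.ofAdd m)) hp
    rw [MonoidAlgebra.coeff_single, Finsupp.single_eq_same] at h1
    rw [← h1]
    refine Finsupp.mapDomain_of_notMem_range _ _ ?_
    rintro ⟨n, hn⟩
    exact hm (Multiplicative.ofAdd.injective hn ▸ (Multiplicative.toAdd n).2)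
  have hle : (⊤ : Subring (Fn (X ⊗ T))) ≤ io.range.comap θ := by
    rw [← hgen, Subring.closure_le]
    rintro f (⟨c, rfl⟩ | hf)
    · have h1 := hθ 0 _ (isHomog_pb_snd a T c)
      change θ _ ∈ io.range
      rw [h1]
      refine ⟨MonoidAlgebra.single (Multiplicative.ofAdd 0) (pb (lift x (𝟙 T)) (pb (snd X T) c)), ?_⟩
      simp [io]
    · obtain ⟨m, hm, hm'⟩ := hk f hf
      change θ _ ∈ io.range
      rw [hθ m f hm]
      by_cases hmN : m ∈ N
      · refine ⟨MonoidAlgebra.single (Multiplicative.ofAdd ⟨m, hmN⟩) (pb (lift x (𝟙 T)) f), ?_⟩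
        simp [io]
      · rw [hm' hmN, MonoidAlgebra.single_zero]
        exact io.range.zero_mem
  intro m hm f hf
  apply hio m hm
  rw [← hθ m f hf]
  exact hle (Subring.mem_top f)

end Kill

section BaseChange

/-- In a pushout of commutative rings the two legs generate. -/
theorem closure_eq_top {A B C D : CommRingCat.{u}} {f : A ⟶ B} {g : A ⟶ C} {i : B ⟶ D} {j : C ⟶ D}
    (h : IsPushout f g i j) : Subring.closure (Set.range i.hom ∪ Set.range j.hom) = ⊤ := by
  algebraize [f.hom, g.hom]
  have h' := CommRingCat.isPushout_tensorProduct A B C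
  let e := h'.isoIsPushout _ _ h
  rw [eq_top_iff]
  intro d _
  obtain ⟨x, rfl⟩ := (ConcreteCategory.bijective_of_isIso e.hom).2 d
  induction x using TensorProduct.induction_on with
  | zero => rw [map_zero]; exact Subring.zero_mem _
  | add x y hx hy => rw [map_add]; exact Subring.add_mem _ (hx trivial) (hy trivial)
  | tmul b c =>
    have e1 : e.hom (b ⊗ₜ[A] (1 : C)) = i.hom b := congr(($(h'.inl_isoIsPushout_hom _ _ h)).hom b)
    have e2 : e.hom ((1 : B) ⊗ₜ[A] c) = j.hom c := congr(($(h'.inr_isoIsPushout_hom _ _ h)).hom c)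
    have e3 : (b ⊗ₜ[A] c : TensorProduct A B C) = (b ⊗ₜ[A] (1 : C)) * ((1 : B) ⊗ₜ[A] c) := by
      rw [Algebra.TensorProduct.tmul_mul_tmul, _root_.mul_one, _root_.one_mul]
    rw [e3, map_mul, e1, e2]
    exact Subring.mul_mem _ (Subring.subset_closure (Or.inl ⟨b, rfl⟩)) (Subring.subset_closure (Or.inr ⟨c, rfl⟩))

variable {T T' : Over S} [IsAffine T.left] [IsAffine T'.left] (t : T' ⟶ T)

theorem closure_base_change (gens : Set (Fn (X ⊗ T)))
    (hgen : Subring.closure (Set.range (pb (snd X T)) ∪ gens) = ⊤) :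
    Subring.closure (Set.range (pb (snd X T')) ∪ (pb (X ◁ t)) '' gens) = ⊤ := by
  have sq := isPushout_appTop_of_isPullback (K951.Stab.isPullback_whiskerLeft_left X t).flip
  have h1 := closure_eq_top sq
  rw [eq_top_iff, ← h1, Subring.closure_le]
  rintro y (⟨f, rfl⟩ | ⟨c, rfl⟩)
  · have h2 : f ∈ Subring.closure (Set.range (pb (snd X T)) ∪ gens) := by rw [hgen]; trivial
    have h3 : pb (X ◁ t) f ∈ (Subring.closure (Set.range (pb (snd X T)) ∪ gens)).map (pb (X ◁ t)) := ⟨f, h2, rfl⟩
    rw [RingHom.map_closure, Set.image_union] at h3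
    refine Subring.closure_mono ?_ h3
    refine Set.union_subset_union ?_ le_rfl
    rintro _ ⟨_, ⟨c, rfl⟩, rfl⟩
    refine ⟨pb t c, ?_⟩
    rw [← pb_comp_apply, ← pb_comp_apply, whiskerLeft_snd]
  · exact Subring.subset_closure (Or.inl ⟨c, rfl⟩)

end BaseChange

section Gens

variable {T : Over S} [IsAffine T.left]

/-- Finitely many homogeneous generators. -/
theorem exists_gens [LocallyOfFiniteType X.hom] :
    ∃ (gens : Set (Fn (X ⊗ T))) (E : Finset M), Subring.closure (Set.range (pb (snd X T)) ∪ gens) = ⊤ ∧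
      ∀ g ∈ gens, ∃ m ∈ E, IsHomog (aT a T) m g := by
  classical
  have hft : LocallyOfFiniteType (snd X T).left := inferInstanceAs (LocallyOfFiniteType (pullback.snd X.hom T.hom))
  have hft' : (pb (snd X T)).FiniteType :=
    (HasRingHomProperty.iff_of_isAffine (P := @LocallyOfFiniteType) (f := (snd X T).left)).1 hft
  algebraize [pb (snd X T)]
  obtain ⟨s, hs⟩ := (inferInstance : Algebra.FiniteType (Fn T) (Fn (X ⊗ T)))
  refine ⟨{f | ∃ g ∈ s, ∃ m ∈ (coact (aT a T) g).coeff.support, f = Coact.cmp (aT a T) (Multiplicative.toAdd m) g},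
    s.biUnion fun g => (coact (aT a T) g).coeff.support.image Multiplicative.toAdd, ?_, ?_⟩
  · rw [eq_top_iff]
    intro f _
    have hf : f ∈ Algebra.adjoin (Fn T) (s : Set (Fn (X ⊗ T))) := by rw [hs]; trivial
    induction hf using Algebra.adjoin_induction with
    | mem g hg =>
      rw [← sum_cmp (aT a T) g, Finsupp.sum]
      refine Subring.sum_mem _ fun m hm => Subring.subset_closure (Or.inr ⟨g, hg, m, hm, rfl⟩)
    | algebraMap c => exact Subring.subset_closure (Or.inl ⟨c, rfl⟩)
    | add x y _ _ hx hy => exact Subring.add_mem _ (hx trivial) (hy trivial)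
    | mul x y _ _ hx hy => exact Subring.mul_mem _ (hx trivial) (hy trivial)
  · rintro _ ⟨g, hg, m, hm, rfl⟩
    exact ⟨Multiplicative.toAdd m, Finset.mem_biUnion.2 ⟨g, hg, Finset.mem_image_of_mem _ hm⟩, isHomog_cmp _ _ _⟩

end Gens

section Main

/-- The finite set of degrees of generators over an affine open of the base. -/
theorem exists_degrees_affine [LocallyOfFiniteType X.hom] (V : S.affineOpens) :
    ∃ E : Finset M, ∀ (T : Over S) [IsAffine T.left] (_ : T ⟶ opS V.1) (N N' : AddSubmonoid M)
      (_ : ∀ m ∈ E, m ∈ N → m ∈ N') (x : T ⟶ X),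
      K950.RepClosed.Mem (attrToX a N) x → K950.RepClosed.Mem (attrToX a N') x := by
  have : IsAffine (opS V.1).left := V.2
  obtain ⟨gens, E, h1, h2⟩ := exists_gens a (T := opS V.1)
  refine ⟨E, fun T _ t N N' hN x hx => ?_⟩
  have hx' := (mem_range_attrToX_iff (a := a) N x).1 hx
  refine (mem_range_attrToX_iff (a := a) N' x).2 ?_
  refine pb_eq_zero_of_gens a N' x _ (closure_base_change t gens h1) ?_
  rintro _ ⟨g, hg, rfl⟩
  obtain ⟨m, hmE, hm⟩ := h2 g hg
  have hm' : IsHomog (aT a T) m (pb (X ◁ t) g) := by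
    refine IsHomog.pb ?_ hm
    unfold Magnet.MonAct.IsEquivariant
    exact Magnet.MonAct.prod_trivial_act_whiskerLeft _ _
  exact ⟨m, hm', fun hmN => hx' m (fun h => hmN (hN m hmE h)) _ hm'⟩

/-- A finite set `E` of degrees such that the image of the attractor of `N` only depends on `N ∩ E`. -/
theorem exists_degrees [CompactSpace S] [LocallyOfFiniteType X.hom] :
    ∃ E : Finset M, ∀ (T : Over S) (N N' : AddSubmonoid M) (_ : ∀ m ∈ E, m ∈ N → m ∈ N') (x : T ⟶ X),
      K950.RepClosed.Mem (attrToX a N) x → K950.RepClosed.Mem (attrToX a N') x := by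
  classical
  choose E hE using exists_degrees_affine a
  obtain ⟨s, hs⟩ := CompactSpace.elim_nhds_subcover (X := S)
    (fun p => ((exists_isAffineOpen_mem_and_subset (X := S) (x := p) (U := ⊤) trivial).choose : Set S)) (fun p => by
      have := (exists_isAffineOpen_mem_and_subset (X := S) (x := p) (U := ⊤) trivial).choose_spec
      exact (TopologicalSpace.Opens.isOpen _).mem_nhds this.2.1)
  refine ⟨s.biUnion fun p => E ⟨_, (exists_isAffineOpen_mem_and_subset (X := S) (x := p) (U := ⊤) trivial).choose_spec.1⟩,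
    fun T N N' hN x hx => ?_⟩
  refine mem_of_iSup _ (attrToX_injective a N') (K951.Shf.isSheaf_eqvHom _ _ _) x
    (fun U => IsAffineOpen U ∧ ∃ p ∈ s, U ≤ T.hom ⁻¹ᵁ
      (exists_isAffineOpen_mem_and_subset (X := S) (x := p) (U := ⊤) trivial).choose) ?_ ?_
  · intro t
    have ht : T.hom t ∈ (⊤ : Set S) := trivial
    rw [← hs] at ht
    simp only [Set.mem_iUnion] at ht
    obtain ⟨p, hp, hpt⟩ := ht
    obtain ⟨U, hU, htU, hle⟩ := exists_isAffineOpen_mem_and_subset (X := T.left) (x := t)
      (U := T.hom ⁻¹ᵁ (exists_isAffineOpen_mem_and_subset (X := S) (x := p) (U := ⊤) trivial).choose) hpt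
    exact ⟨U, ⟨hU, p, hp, hle⟩, htU⟩
  · rintro U ⟨hU, p, hp, hle⟩
    have : IsAffine (opT T U).left := hU
    refine hE ⟨_, (exists_isAffineOpen_mem_and_subset (X := S) (x := p) (U := ⊤) trivial).choose_spec.1⟩ (opT T U)
      ?_ N N' (fun m hm => hN m (Finset.mem_biUnion.2 ⟨p, hp, hm⟩)) _ (hx.precomp _ _)
    refine Over.homMk (IsOpenImmersion.lift (Scheme.Opens.ι _) (U.ι ≫ T.hom) ?_) ?_
    · rw [Scheme.Opens.range_ι]
      rintro _ ⟨y, rfl⟩
      exact hle y.2
    · exact IsOpenImmersion.lift_fac _ _ _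

/-- For a scheme affine and of finite type over a quasi-compact base, the image of the attractor of `N` is that of the
attractor of the submonoid generated by `N ∩ E`, for a fixed finite set `E`. -/
theorem exists_range_eq [CompactSpace S] [LocallyOfFiniteType X.hom] :
    ∃ E : Finset M, ∀ (N : AddSubmonoid M) (T : Over S),
      Set.range (fun φ => (attrToX a N).app (op T) φ) =
        Set.range (fun φ => (attrToX a (AddSubmonoid.closure ((N : Set M) ∩ E))).app (op T) φ) := by
  obtain ⟨E, hE⟩ := exists_degrees a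
  refine ⟨E, fun N T => Set.ext fun x => ⟨?_, ?_⟩⟩
  · intro hx
    exact hE T N (AddSubmonoid.closure ((N : Set M) ∩ E))
      (fun m hmE hmN => AddSubmonoid.subset_closure ⟨hmN, hmE⟩) x hx
  · intro hx
    exact hE T _ N (fun m _ hm => AddSubmonoid.closure_le.2 (fun m hm => hm.1) hm) x hx

end Main

/-- Pure magnets are finite in number as soon as attractors are controlled by a finite set of degrees. -/
theorem finite_pure {X : Over S} (a : MonAct (AMonS S M) X) (E : Finset M)
    (hE : ∀ (N : AddSubmonoid M) (T : Over S), Set.range (fun φ => (attrToX a N).app (op T) φ) =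
        Set.range (fun φ => (attrToX a (AddSubmonoid.closure ((N : Set M) ∩ E))).app (op T) φ)) :
    Set.Finite {N : AddSubmonoid M | ∀ L : AddSubmonoid M,
      (∀ T : Over S, Set.range (fun φ => (attrToX a N).app (op T) φ) =
        Set.range (fun φ => (attrToX a L).app (op T) φ)) → N ≤ L} := by
  classical
  refine ((E.powerset.finite_toSet).image fun F : Finset M => AddSubmonoid.closure (F : Set M)).subset ?_
  intro N hN
  refine ⟨E.filter (· ∈ N), ?_, ?_⟩
  · simp only [Finset.coe_powerset, Set.mem_preimage, Set.mem_powerset_iff, Finset.coe_filter]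
    exact fun x hx => hx.1
  · have h1 : ((E.filter (· ∈ N) : Finset M) : Set M) = (N : Set M) ∩ E := by
      ext m
      simp [and_comm]
    dsimp only
    rw [h1]
    refine le_antisymm (AddSubmonoid.closure_le.2 fun m hm => hm.1) (hN _ fun T => hE N T)

end K951.PureAff
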