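import Groth.Agent.S18289
import Groth.Agent.S18294
import Groth.Prelude.Def_Magnet4
import Groth.Agent.Magnet.K951.EtSh
import Groth.Agent.Magnet.K951.PureAff
import Groth.Agent.Magnet.K951.Psh
import Groth.Agent.Magnet.K949.Eval

/-!
# Images of attractors along a strongly FPR atlas
-/

set_option autoImplicit false

universe u

open CategoryTheory CategoryTheory.Limits MonoidalCategory CartesianMonoidalCategory MonObj AlgebraicGeometry Opposite
open Magnet

namespace K951.FprRange

variable {S : Scheme.{u}} {M : Type} {X : Over S}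

section Sep

variable [AddCommMonoid M] [IsSeparated X.hom] (a : MonAct (AMonS S M) X) (N : AddSubmonoid M)

/-- The attractor of a scheme separated over the base is a subfunctor. -/
theorem attrToX_injective (T : Over S) : Function.Injective ((attrToX a N).app (op T)) := by
  intro φ φ' h
  apply Subtype.ext
  refine K949.Eval.eq_of_map N.subtype Subtype.val_injective T _ _ ?_
  rw [K949.Eval.whiskerRight_comp _ a φ.1 φ.2, K949.Eval.whiskerRight_comp _ a φ'.1 φ'.2]
  exact congrArg (fun x : T ⟶ X => (AMonS S M ◁ x) ≫ a.act) h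

/-- Membership in the attractor can be checked on a flat surjective covering of finite presentation. -/
theorem mem_of_cover {T T' : Over S} (t : T' ⟶ T) [Flat t.left] [LocallyOfFinitePresentation t.left] [Surjective t.left]
    (x : T ⟶ X) (h : K950.RepClosed.Mem (attrToX a N) (t ≫ x)) : K950.RepClosed.Mem (attrToX a N) x := by
  obtain ⟨l', hl'⟩ := h
  have hF : K606.FppfRep.IsFppfSheaf (attr a N) := K951.EtSh.isFppfSheaf_of_isSheaf
    ((isSheaf_iff_isSheaf_of_type _ _).1 (Groth.Agent.S18294.result S _ _ X _ a))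
  obtain ⟨l, hl, -⟩ := hF.existsUnique t l' (by
    intro R b c hbc
    apply attrToX_injective
    rw [K951.MemLoc.attrToX_map, K951.MemLoc.attrToX_map, hl', ← Category.assoc, hbc, Category.assoc])
  refine ⟨l, ?_⟩
  have hY : K606.FppfRep.IsFppfSheaf (yoneda.obj X) := K951.EtSh.isFppfSheaf_of_isSheaf
    (GrothendieckTopology.Subcanonical.isSheaf_of_isRepresentable (J := QuotSh.J Scheme.fppfPrecoverage S) _)
  apply hY.injective t
  change t ≫ (attrToX a N).app (op T) l = t ≫ x
  rw [← K951.MemLoc.attrToX_map, hl, hl']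

end Sep

section Grp

variable [AddCommGroup M] [AddGroup.FG M] [IsSeparated X.hom] (a : MonAct (AMonS S M) X) {U : Over S}
  (aU : MonAct (AMonS S M) U) (g : U ⟶ X) (hg : MonAct.IsEquivariant aU a g) [Etale g.left] [Surjective g.left]

theorem mem_of_mem (Z : AddSubgroup M) (hgZ : MonAct.IsEquivariant (aU.restrict (AMonS.map S (QuotientAddGroup.mk' Z)))
      (a.restrict (AMonS.map S (QuotientAddGroup.mk' Z))) g)
    (hfpr : IsPullback (MonAct.fixedPsh.map g hgZ)
      (MonAct.fixedPshι (aU.restrict (AMonS.map S (QuotientAddGroup.mk' Z))))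
      (MonAct.fixedPshι (a.restrict (AMonS.map S (QuotientAddGroup.mk' Z)))) (yoneda.map g))
    (N L Q : AddSubmonoid M) (hZ : Z.toAddSubmonoid = Q) (hQ : IsFace N Q)
    (hcart : IsPullback (MonAct.eqvHom.postcomp (subAct S M N) g hg) (attrFace aU hQ) (attrFace a hQ)
      (MonAct.eqvHom.postcomp (subAct S M Q) g hg))
    (hU : ∀ (T : Over S) (x : T ⟶ U), K950.RepClosed.Mem (attrToX aU N) x → K950.RepClosed.Mem (attrToX aU L) x)
    (T : Over S) (x : T ⟶ X) (hx : K950.RepClosed.Mem (attrToX a N) x) : K950.RepClosed.Mem (attrToX a L) x := by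
  subst hZ
  obtain ⟨φ, rfl⟩ := hx
  obtain ⟨isoU, hisoU⟩ := Groth.Agent.S18289.result S M Z U aU.toAction
  obtain ⟨isoX, hisoX⟩ := Groth.Agent.S18289.result S M Z X a.toAction
  -- the limit
  let ψ := (attrFace a hQ).app (op T) φ
  let x₀ : T ⟶ X := (attrToX a Z.toAddSubmonoid).app (op T) ψ
  have hpb : IsPullback (pullback.fst x₀ g) (pullback.snd x₀ g) x₀ g := IsPullback.of_hasPullback _ _
  have hpb' : IsPullback (pullback.fst x₀ g).left (pullback.snd x₀ g).left x₀.left g.left := hpb.map (Over.forget S)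
  have h1 : Etale (pullback.fst x₀ g).left := MorphismProperty.of_isPullback (P := @Etale) hpb'.flip inferInstance
  have h2 : Surjective (pullback.fst x₀ g).left :=
    MorphismProperty.of_isPullback (P := @Surjective) hpb'.flip inferInstance
  have h3 : LocallyOfFinitePresentation (pullback.fst x₀ g).left := inferInstance
  have h4 : Flat (pullback.fst x₀ g).left := inferInstance
  refine mem_of_cover a L (pullback.fst x₀ g) _ ?_
  generalize pullback.fst x₀ g = t at hpb h1 h2 h3 h4 ⊢
  generalize pullback.snd x₀ g = u at hpb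
  generalize pullback x₀ g = T' at t u hpb h1 h2 h3 h4
  -- the lifted limit
  have hfixX : ∀ (W : Over S) (ξ : (attr a Z.toAddSubmonoid).obj (op W)),
      (isoX.hom.app (op W) ξ).1 = (attrToX a Z.toAddSubmonoid).app (op W) ξ := by
    intro W ξ
    have := congrArg (fun nt : attr a Z.toAddSubmonoid ⟶ yoneda.obj X => nt.app (op W) ξ) hisoX
    exact this
  have hfixU : ∀ (W : Over S) (ξ : (attr aU Z.toAddSubmonoid).obj (op W)),
      (isoU.hom.app (op W) ξ).1 = (attrToX aU Z.toAddSubmonoid).app (op W) ξ := by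
    intro W ξ
    have := congrArg (fun nt : attr aU Z.toAddSubmonoid ⟶ yoneda.obj U => nt.app (op W) ξ) hisoU
    exact this
  let ψ' := (attr a Z.toAddSubmonoid).map t.op ψ
  have hψ' : (isoX.hom.app (op T') ψ').1 = u ≫ g := by
    rw [hfixX, K951.MemLoc.attrToX_map]
    exact hpb.w
  obtain ⟨v, hv1, hv2⟩ := (K951.Psh.exists_of_isPullback hfpr (op T')).2 (isoX.hom.app (op T') ψ') u hψ'
  let ψU : (attr aU Z.toAddSubmonoid).obj (op T') := isoU.inv.app (op T') v
  have hψU : isoU.hom.app (op T') ψU = v := by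
    change isoU.hom.app (op T') (isoU.inv.app (op T') v) = v
    rw [← ConcreteCategory.comp_apply, ← NatTrans.comp_app, isoU.inv_hom_id]
    rfl
  have hψU' : (attrToX aU Z.toAddSubmonoid).app (op T') ψU = u := by
    rw [← hfixU, hψU]
    exact hv2
  have hinj : ∀ (ξ ξ' : (attr a Z.toAddSubmonoid).obj (op T')),
      (attrToX a Z.toAddSubmonoid).app (op T') ξ = (attrToX a Z.toAddSubmonoid).app (op T') ξ' → ξ = ξ' :=
    fun ξ ξ' h => attrToX_injective a _ T' h
  have hg' : ∀ (P : AddSubmonoid M) (ξ : (attr aU P).obj (op T')),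
      (attrToX a P).app (op T') ((MonAct.eqvHom.postcomp (subAct S M P) g hg).app (op T') ξ) =
        (attrToX aU P).app (op T') ξ ≫ g := by
    intro P ξ
    change lift _ _ ≫ ξ.1 ≫ g = (lift _ _ ≫ ξ.1) ≫ g
    rw [Category.assoc]
  have hcomp : (MonAct.eqvHom.postcomp (subAct S M Z.toAddSubmonoid) g hg).app (op T') ψU = ψ' := by
    apply hinj
    rw [hg', hψU', K951.MemLoc.attrToX_map]
    exact hpb.w.symm
  obtain ⟨φU, hφ1, hφ2⟩ := (K951.Psh.exists_of_isPullback hcart (op T')).2 ((attr a N).map t.op φ) ψU (by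
    rw [hcomp]
    exact NatTrans.naturality_apply (attrFace a hQ) t.op φ)
  obtain ⟨l, hl⟩ := hU T' ((attrToX aU N).app (op T') φU) ⟨φU, rfl⟩
  refine ⟨(MonAct.eqvHom.postcomp (subAct S M L) g hg).app (op T') l, ?_⟩
  rw [hg', hl, ← hg', hφ1, K951.MemLoc.attrToX_map]

end Grp

end K951.FprRange
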