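import Groth.Agent.AlgSp.K606.FppfRep
import Groth.Agent.Magnet.K951.EtSh
import Mathlib.AlgebraicGeometry.Morphisms.FlatDescent
import Mathlib.CategoryTheory.Sites.SubcanonicalOver
import Groth.Agent.S0082

/-!
# Relative descent of representability by schemes affine over a base

`F` an fppf sheaf on `Over S` with a map `π` to (the functor of points of) a scheme `W`; `q : U ⟶ W` flat surjective lfp,
`F ×_W U` represented by a scheme `A` affine over `U`.  Then `F` is represented by a scheme affine over `W`.
-/

set_option autoImplicit false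

universe u

open CategoryTheory CategoryTheory.Limits AlgebraicGeometry Opposite

namespace K951.RelRep

open K606.FppfRep

variable {S : Scheme.{u}} {F : (Over S)ᵒᵖ ⥤ Type u} {W : Over S} (π : F ⟶ yoneda.obj W)

/-- structure morphism of an object over `W`, as a morphism of `S`-schemes -/
def ovh {W : Over S} (X : Over W.left) : (Over.map W.hom).obj X ⟶ W := Over.homMk X.hom rfl

theorem map_ovh {X Y : Over W.left} (g : Y ⟶ X) : (Over.map W.hom).map g ≫ ovh X = ovh Y := by
  ext1
  exact Over.w g

theorem nat {T T' : Over S} (g : T' ⟶ T) (φ : F.obj (op T)) : π.app _ (F.map g.op φ) = g ≫ π.app _ φ :=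
  NatTrans.naturality_apply π g.op φ

theorem map_comp {T T' T'' : Over S} (g : T'' ⟶ T') (h : T' ⟶ T) (φ : F.obj (op T)) :
    F.map g.op (F.map h.op φ) = F.map (g ≫ h).op φ := by
  rw [op_comp, Functor.map_comp_apply]

/-- The sections of `F` over `X ⟶ W` lying over the structure morphism. -/
def Fb : (Over W.left)ᵒᵖ ⥤ Type u where
  obj X := {φ : F.obj (op ((Over.map W.hom).obj X.unop)) // π.app _ φ = ovh X.unop}
  map {X Y} g := TypeCat.ofHom fun φ => ⟨F.map ((Over.map W.hom).map g.unop).op φ.1, by
    rw [nat, φ.2, map_ovh]⟩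
  map_id X := by
    ext φ
    simp
  map_comp f g := by
    ext φ
    simp

/-- underlying section -/
def val {X : Over W.left} (x : (Fb π).obj (op X)) : F.obj (op ((Over.map W.hom).obj X)) := Subtype.val x

variable {π}

theorem val_injective {X : Over W.left} {x y : (Fb π).obj (op X)} (h : val π x = val π y) : x = y := Subtype.ext h

variable (π)

theorem app_val {X : Over W.left} (x : (Fb π).obj (op X)) : π.app _ (val π x) = ovh X := Subtype.property x

/-- constructor -/
def mkFb {X : Over W.left} (x : F.obj (op ((Over.map W.hom).obj X))) (h : π.app _ x = ovh X) :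
    (Fb π).obj (op X) := ⟨x, h⟩

@[simp] theorem val_mkFb {X : Over W.left} (x : F.obj (op ((Over.map W.hom).obj X))) (h : π.app _ x = ovh X) :
    val π (mkFb π x h) = x := rfl

theorem val_map {X Y : Over W.left} (g : Y ⟶ X) (x : (Fb π).obj (op X)) :
    val π ((Fb π).map g.op x) = F.map ((Over.map W.hom).map g).op (val π x) := rfl

theorem isFppfSheaf_Fb (hF : IsFppfSheaf F) : IsFppfSheaf (Fb π) := by
  intro X I X' g h1 h2 h3 x hx
  obtain ⟨y, hy, hy'⟩ := hF (T := (Over.map W.hom).obj X) (fun i => (Over.map W.hom).obj (X' i))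
    (fun i => (Over.map W.hom).map (g i)) h1 h2 h3 (fun i => val π (x i)) (by
    intro i j Z a b hab
    have e1 : a.left ≫ (g i).left = b.left ≫ (g j).left := congrArg (·.left) hab
    have hb : b.left ≫ (X' j).hom = a.left ≫ (X' i).hom := by
      rw [← Over.w (g i), ← Over.w (g j), ← Category.assoc, ← Category.assoc, e1]
    let R : Over W.left := Over.mk (a.left ≫ (X' i).hom)
    let a' : R ⟶ X' i := Over.homMk a.left rfl
    let b' : R ⟶ X' j := Over.homMk b.left hb
    have e2 : a' ≫ g i = b' ≫ g j := by ext; exact e1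
    have e3 := congrArg (val π) (hx i j R a' b' e2)
    rw [val_map, val_map] at e3
    let c : Z ⟶ (Over.map W.hom).obj R := Over.homMk (𝟙 _) (by
      change 𝟙 _ ≫ (a.left ≫ (X' i).hom) ≫ W.hom = Z.hom
      rw [Category.id_comp, Category.assoc]
      exact Over.w a)
    have e4 := congrArg (F.map c.op) e3
    rw [map_comp, map_comp] at e4
    have ea : c ≫ (Over.map W.hom).map a' = a := by ext; exact Category.id_comp _
    have eb : c ≫ (Over.map W.hom).map b' = b := by ext; exact Category.id_comp _
    rwa [ea, eb] at e4)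
  have hfy : π.app _ y = ovh X := by
    have hW : IsFppfSheaf (yoneda.obj W) := K951.EtSh.isFppfSheaf_of_isSheaf
      (GrothendieckTopology.Subcanonical.isSheaf_of_isRepresentable (J := QuotSh.J Scheme.fppfPrecoverage S) _)
    obtain ⟨w, -, hw⟩ := hW (T := (Over.map W.hom).obj X) (fun i => (Over.map W.hom).obj (X' i))
      (fun i => (Over.map W.hom).map (g i)) h1 h2 h3 (fun i => ovh (X' i)) (by
      intro i j R a b hab
      change a ≫ ovh (X' i) = b ≫ ovh (X' j)
      rw [← map_ovh (g i), ← map_ovh (g j), ← Category.assoc, ← Category.assoc, hab])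
    refine (hw _ fun i => ?_).trans (hw (ovh X) fun i => map_ovh (g i)).symm
    refine (nat π _ _).symm.trans ?_
    change π.app _ (F.map ((Over.map W.hom).map (g i)).op y) = _
    rw [hy i, app_val]
  refine ⟨mkFb π y hfy, fun i => val_injective ?_, fun z hz => val_injective ?_⟩
  · rw [val_map, val_mkFb]
    exact hy i
  · rw [val_mkFb]
    refine hy' _ fun i => ?_
    change F.map ((Over.map W.hom).map (g i)).op (val π z) = _
    rw [← val_map, hz i]

/-- Base change: representability of the restriction of `Fb π` along `g : T' ⟶ W`. -/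
theorem nonempty_rep_of_sq {T' V' : Over S} {g : T' ⟶ W} {v' : V' ⟶ T'} {α : yoneda.obj V' ⟶ F}
    (hα : ∀ (T : Over S) (a : T ⟶ V'), π.app _ (α.app (op T) a) = a ≫ v' ≫ g)
    (hsq : ∀ (T : Over S) (φ : F.obj (op T)) (t : T ⟶ T'), π.app _ φ = t ≫ g →
      ∃! a : T ⟶ V', α.app (op T) a = φ ∧ a ≫ v' = t) :
    Nonempty (((Over.map g.left).op ⋙ Fb π).RepresentableBy (Over.mk v'.left)) := by
  have hnat : ∀ {T T₁ : Over S} (c : T₁ ⟶ T) (a : T ⟶ V'),
      α.app (op T₁) (c ≫ a) = F.map c.op (α.app (op T) a) := fun c a => NatTrans.naturality_apply α c.op a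
  -- the object of `Over S` below `X`
  have hX : ∀ (X : Over T'.left), X.hom ≫ T'.hom = ((Over.map W.hom).obj ((Over.map g.left).obj X)).hom := by
    intro X
    change X.hom ≫ T'.hom = (X.hom ≫ g.left) ≫ W.hom
    rw [Category.assoc, Over.w g]
  let m' : ∀ {X : Over T'.left} (m : X ⟶ Over.mk v'.left), (Over.map W.hom).obj ((Over.map g.left).obj X) ⟶ V' :=
    fun {X} m => Over.homMk m.left (by
      have : m.left ≫ v'.left = X.hom := Over.w m
      rw [← hX X, ← this, Category.assoc, Over.w v'])
  have hm' : ∀ {X : Over T'.left} (m : X ⟶ Over.mk v'.left), m' m ≫ v' ≫ g = ovh ((Over.map g.left).obj X) := by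
    intro X m
    have : m.left ≫ v'.left = X.hom := Over.w m
    ext
    change m.left ≫ v'.left ≫ g.left = X.hom ≫ g.left
    rw [← Category.assoc, this]
  have hkey : ∀ {X : Over T'.left} (m : X ⟶ Over.mk v'.left),
      π.app _ (α.app _ (m' m)) = ovh ((Over.map g.left).obj X) := by
    intro X m
    rw [hα, hm']
  refine ⟨⟨fun {X} => Equiv.ofBijective
    (fun m => mkFb π (X := (Over.map g.left).obj X) (α.app _ (m' m)) (hkey m)) ⟨?_, ?_⟩, ?_⟩⟩
  · intro m₁ m₂ h
    have e1 : α.app _ (m' m₁) = α.app _ (m' m₂) := congrArg (val π) h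
    have e3 : m' m₁ ≫ v' = m' m₂ ≫ v' := by
      ext
      change m₁.left ≫ v'.left = m₂.left ≫ v'.left
      exact (Over.w m₁).trans (Over.w m₂).symm
    have e4 := (hsq _ (α.app _ (m' m₂)) (m' m₂ ≫ v') (by rw [hα, Category.assoc])).unique
      (y₁ := m' m₁) (y₂ := m' m₂) ⟨e1, e3⟩ ⟨rfl, rfl⟩
    ext
    exact congrArg (·.left) e4
  · intro y
    let Z := (Over.map W.hom).obj ((Over.map g.left).obj X)
    let t' : Z ⟶ T' := Over.homMk X.hom (hX X)
    have e1 : π.app _ (val π y) = t' ≫ g := by
      rw [app_val]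
      exact Over.OverMorphism.ext rfl
    obtain ⟨z, ⟨hz1, e2⟩, -⟩ := hsq _ (val π y) t' e1
    let m : X ⟶ Over.mk v'.left := Over.homMk z.left (congrArg (·.left) e2)
    refine ⟨m, val_injective ?_⟩
    rw [← hz1]
    change α.app _ (m' m) = α.app _ z
    congr 1
  · intro X X' a b
    apply val_injective
    change α.app _ (m' (a ≫ b)) = F.map ((Over.map W.hom).map ((Over.map g.left).map a)).op (α.app _ (m' b))
    rw [← hnat]
    congr 1

variable {π} in
/-- If the sections over `W` are representable over `W` then `F` is representable. -/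
theorem exists_rep_of_rep {A : Over W.left} (r : (Fb π).RepresentableBy A) :
    ∃ e : F.RepresentableBy ((Over.map W.hom).obj A), ∀ (T : Over S) (z : T ⟶ (Over.map W.hom).obj A),
      π.app _ (e.homEquiv z) = z ≫ ovh A := by
  let w := r.homEquiv (𝟙 A)
  have hw : ∀ {X : Over W.left} (m : X ⟶ A), r.homEquiv m = (Fb π).map m.op w := fun m => r.homEquiv_eq m
  -- bijectivity on sections
  have hbij : ∀ X : Over S, Function.Bijective (fun m : X ⟶ (Over.map W.hom).obj A => F.map m.op (val π w)) := by
    intro X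
    constructor
    · intro m₁ m₂ h
      dsimp only at h
      have e1 : m₁ ≫ ovh A = m₂ ≫ ovh A := by
        rw [← app_val π w]
        refine (nat π _ _).symm.trans (Eq.trans ?_ (nat π _ _))
        rw [h]
      have e1' : m₁.left ≫ A.hom = m₂.left ≫ A.hom := congrArg (·.left) e1
      let X' : Over W.left := Over.mk (m₁.left ≫ A.hom)
      let m₁' : X' ⟶ A := Over.homMk m₁.left rfl
      let m₂' : X' ⟶ A := Over.homMk m₂.left e1'.symm
      let c : (Over.map W.hom).obj X' ⟶ X := Over.homMk (𝟙 _) (by
        change 𝟙 _ ≫ X.hom = (m₁.left ≫ A.hom) ≫ W.hom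
        rw [Category.id_comp, Category.assoc]
        exact (Over.w m₁).symm)
      have e2 : m₁' = m₂' := by
        apply r.homEquiv.injective
        rw [hw, hw]
        apply val_injective
        rw [val_map, val_map]
        have e3 := congrArg (F.map c.op) h
        rw [map_comp, map_comp] at e3
        have ea : c ≫ m₁ = (Over.map W.hom).map m₁' := by ext; exact Category.id_comp _
        have eb : c ≫ m₂ = (Over.map W.hom).map m₂' := by ext; exact Category.id_comp _
        rwa [ea, eb] at e3
      ext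
      exact congrArg (·.left) e2
    · intro y
      let t : X ⟶ W := π.app _ y
      let X' : Over W.left := Over.mk t.left
      let c : (Over.map W.hom).obj X' ⟶ X := Over.homMk (𝟙 _) (by
        change 𝟙 _ ≫ X.hom = t.left ≫ W.hom
        rw [Category.id_comp]
        exact (Over.w t).symm)
      let c' : X ⟶ (Over.map W.hom).obj X' := Over.homMk (𝟙 _) (by
        change 𝟙 _ ≫ t.left ≫ W.hom = X.hom
        rw [Category.id_comp]
        exact Over.w t)
      have hcc : c' ≫ c = 𝟙 _ := by ext; exact Category.id_comp _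
      have hc1 : c ≫ t = ovh X' := by ext; exact Category.id_comp _
      let y' : (Fb π).obj (op X') := mkFb π (F.map c.op y) (by
        rw [nat]
        exact hc1)
      obtain ⟨m, hm⟩ := r.homEquiv.surjective y'
      refine ⟨c' ≫ (Over.map W.hom).map m, ?_⟩
      dsimp only
      rw [← map_comp, ← val_map, ← hw, hm, val_mkFb, map_comp, hcc, op_id, Functor.map_id_apply]
  refine ⟨⟨fun {X} => Equiv.ofBijective _ (hbij X), fun {X X'} a b => by
      change F.map (a ≫ b).op (val π w) = F.map a.op (F.map b.op (val π w))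
      rw [map_comp]⟩, fun T z => ?_⟩
  change π.app _ (F.map z.op (val π w)) = _
  rw [nat, app_val]

/-- **Relative fppf descent of affine representability.** -/
theorem exists_rep (hF : IsFppfSheaf F) {U A : Over S} (q : U ⟶ W) (p : A ⟶ U) [Flat q.left]
    [LocallyOfFinitePresentation q.left] [Surjective q.left] [IsAffineHom p.left] (α : yoneda.obj A ⟶ F)
    (hα : ∀ (T : Over S) (a : T ⟶ A), π.app _ (α.app (op T) a) = a ≫ p ≫ q)
    (hsq : ∀ (T : Over S) (φ : F.obj (op T)) (t : T ⟶ U), π.app _ φ = t ≫ q →
      ∃! a : T ⟶ A, α.app (op T) a = φ ∧ a ≫ p = t) :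
    ∃ (P : Over S) (e : F.RepresentableBy P) (j : P ⟶ W), IsAffineHom j.left ∧
      ∀ (T : Over S) (z : T ⟶ P), π.app _ (e.homEquiv z) = z ≫ j := by
  have hnat : ∀ {T T₁ : Over S} (c : T₁ ⟶ T) (a : T ⟶ A),
      α.app (op T₁) (c ≫ a) = F.map c.op (α.app (op T) a) := fun c a => NatTrans.naturality_apply α c.op a
  obtain ⟨A₀, ⟨r⟩⟩ := exists_representableBy_of_fppf (isFppfSheaf_Fb π hF) fun s => by
    obtain ⟨b, hb⟩ := q.left.surjective s
    obtain ⟨B, hB, hbB, -⟩ := exists_isAffineOpen_mem_and_subset (x := b) (U := ⊤) trivial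
    let UB : Over S := Over.mk (B.ι ≫ U.hom)
    let io : UB ⟶ U := Over.homMk B.ι rfl
    let AB : Over S := Over.mk (pullback.snd p.left B.ι ≫ UB.hom)
    let pB : AB ⟶ UB := Over.homMk (pullback.snd p.left B.ι) rfl
    let ja : AB ⟶ A := Over.homMk (pullback.fst p.left B.ι) (by
      change pullback.fst p.left B.ι ≫ A.hom = pullback.snd p.left B.ι ≫ B.ι ≫ U.hom
      rw [← Over.w p, ← Category.assoc, pullback.condition, Category.assoc])
    have hcomm : ja ≫ p = pB ≫ io := by
      ext1
      exact pullback.condition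
    refine ⟨UB.left, (io ≫ q).left, ?_, ?_, ⟨⟨b, hbB⟩, hb⟩, Over.mk pB.left,
      nonempty_rep_of_sq π (α := yoneda.map ja ≫ α) (v' := pB) ?_ ?_, ?_⟩
    · change Flat (B.ι ≫ q.left)
      infer_instance
    · change LocallyOfFinitePresentation (B.ι ≫ q.left)
      infer_instance
    · intro T a
      change π.app _ (α.app (op T) (a ≫ ja)) = a ≫ pB ≫ io ≫ q
      rw [hα, Category.assoc, ← Category.assoc ja, hcomm, Category.assoc]
    · intro T φ t ht
      obtain ⟨a, ⟨h1, h2⟩, h3⟩ := hsq T φ (t ≫ io) (by rw [ht, Category.assoc])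
      let c : T ⟶ AB := Over.homMk (pullback.lift a.left t.left (congrArg (·.left) h2)) (by
        change pullback.lift a.left t.left _ ≫ pullback.snd p.left B.ι ≫ UB.hom = T.hom
        rw [pullback.lift_snd_assoc]
        exact Over.w t)
      have hc1 : c ≫ ja = a := by
        ext1
        exact pullback.lift_fst _ _ _
      have hc2 : c ≫ pB = t := by
        ext1
        exact pullback.lift_snd _ _ _
      refine ⟨c, ⟨?_, hc2⟩, ?_⟩
      · change α.app (op T) (c ≫ ja) = φ
        rw [hc1, h1]
      · rintro d ⟨hd1, hd2⟩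
        change α.app (op T) (d ≫ ja) = φ at hd1
        have e1 : d ≫ ja = a := h3 _ ⟨hd1, by rw [Category.assoc, hcomm, ← Category.assoc, hd2]⟩
        ext1
        apply pullback.hom_ext
        · have := congrArg (·.left) (e1.trans hc1.symm)
          exact this
        · have := congrArg (·.left) (hd2.trans hc2.symm)
          exact this
    · intro O hO
      have h1 : IsAffine (B : Scheme.{u}) := hB
      have h2 : IsAffine (pullback p.left B.ι) := isAffine_of_isAffineHom (pullback.snd p.left B.ι)
      have h3 : CompactSpace O := isCompact_iff_compactSpace.mp hO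
      have h4 : IsAffine (Over.mk pB.left).left := h2
      exact Scheme.IsQuasiAffine.of_isImmersion O.ι
  obtain ⟨e, he⟩ := exists_rep_of_rep r
  refine ⟨_, e, ovh A₀, ?_, he⟩
  let k : A ⟶ (Over.map W.hom).obj A₀ := e.homEquiv.symm (α.app _ (𝟙 A))
  have hk : ∀ (T : Over S) (a : T ⟶ A), e.homEquiv (a ≫ k) = α.app _ a := by
    intro T a
    rw [e.homEquiv_comp, Equiv.apply_symm_apply, ← hnat, Category.comp_id]
  have hkj : k ≫ ovh A₀ = p ≫ q := by
    rw [← he, Equiv.apply_symm_apply, hα, Category.id_comp]
  have hpb : IsPullback k p (ovh A₀) q := by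
    refine ⟨⟨hkj⟩, ⟨PullbackCone.IsLimit.mk _ (fun s => (hsq _ (e.homEquiv s.fst) s.snd
      (by rw [he, s.condition])).choose) ?_ ?_ ?_⟩⟩
    · intro s
      have h := (hsq _ (e.homEquiv s.fst) s.snd (by rw [he, s.condition])).choose_spec.1
      apply e.homEquiv.injective
      rw [hk, h.1]
    · intro s
      exact (hsq _ (e.homEquiv s.fst) s.snd (by rw [he, s.condition])).choose_spec.1.2
    · intro s m h1 h2
      refine (hsq _ (e.homEquiv s.fst) s.snd (by rw [he, s.condition])).choose_spec.2 m ⟨?_, h2⟩
      rw [← hk, h1]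
  have hpb' : IsPullback k.left p.left (ovh A₀).left q.left := hpb.map (Over.forget S)
  have : MorphismProperty.DescendsAlong @IsAffineHom
    (@Surjective ⊓ @Flat ⊓ @QuasiCompact : MorphismProperty Scheme.{u}) := Groth.Agent.S0082.result
  exact MorphismProperty.of_isPullback_of_descendsAlong (P := @IsAffineHom)
    (Q := @Surjective ⊓ @Flat ⊓ @LocallyOfFinitePresentation) hpb'.flip
    ⟨⟨inferInstance, inferInstance⟩, inferInstance⟩ inferInstance

end K951.RelRep
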