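import Groth.Agent.S18289
import Groth.Agent.S18295
import Groth.Agent.S18299
import Groth.Agent.S18294
import Groth.Prelude.Def_Magnet4
import Groth.Agent.Magnet.K951.RelRep
import Groth.Agent.Magnet.K951.Psh

/-!
# Representability of attractors along an FPR atlas (modulo the cartesian square of `U^N → X^N` over `U^{N*} → X^{N*}`)
-/

set_option autoImplicit false

universe u v₁ u₁

open CategoryTheory CategoryTheory.Limits MonoidalCategory CartesianMonoidalCategory MonObj AlgebraicGeometry Opposite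
open Magnet

namespace K951.FprRep

/-- a morphism of representing objects -/
theorem exists_map_of_rep {C : Type u₁} [Category.{v₁} C] {F' F : Cᵒᵖ ⥤ Type v₁} {Z' Z : C} (t : F' ⟶ F)
    (e' : F'.RepresentableBy Z') (e : F.RepresentableBy Z) :
    ∃ k : Z' ⟶ Z, ∀ (T : C) (z : T ⟶ Z'), e.homEquiv (z ≫ k) = t.app (op T) (e'.homEquiv z) := by
  refine ⟨e.homEquiv.symm (t.app _ (e'.homEquiv (𝟙 Z'))), fun T z => ?_⟩
  rw [e.homEquiv_comp, Equiv.apply_symm_apply, e'.homEquiv_eq z]
  exact (NatTrans.naturality_apply t z.op _).symm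

/-- A cartesian square of presheaves whose four vertices are represented. -/
theorem isPullback_of_rep {C : Type u₁} [Category.{v₁} C] {F' F : Cᵒᵖ ⥤ Type v₁} {U X Z' Z : C} {f : U ⟶ X}
    {t : F' ⟶ F} {l : F' ⟶ yoneda.obj U} {r : F ⟶ yoneda.obj X} (h : IsPullback t l r (yoneda.map f))
    (e' : F'.RepresentableBy Z') (e : F.RepresentableBy Z) {i' : Z' ⟶ U} {i : Z ⟶ X}
    (hi' : ∀ (T : C) (z : T ⟶ Z'), l.app (op T) (e'.homEquiv z) = z ≫ i')
    (hi : ∀ (T : C) (z : T ⟶ Z), r.app (op T) (e.homEquiv z) = z ≫ i) {k : Z' ⟶ Z}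
    (hk : ∀ (T : C) (z : T ⟶ Z'), e.homEquiv (z ≫ k) = t.app (op T) (e'.homEquiv z)) : IsPullback k i' i f := by
  have hpt : ∀ (T : C) (x : F'.obj (op T)), r.app _ (t.app _ x) = l.app _ x ≫ f := by
    intro T x
    have := congrArg (fun nt : F' ⟶ yoneda.obj X => nt.app (op T) x) h.w
    exact this
  have hw : k ≫ i = i' ≫ f := by
    rw [← hi, ← Category.id_comp k, hk, hpt, hi', Category.id_comp]
  have key : ∀ (T : C) (a : T ⟶ Z) (b : T ⟶ U), a ≫ i = b ≫ f → ∃ c : T ⟶ Z', c ≫ k = a ∧ c ≫ i' = b := by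
    intro T a b hab
    obtain ⟨z, hz1, hz2⟩ := (K951.Psh.exists_of_isPullback h (op T)).2 (e.homEquiv a) b (by
      rw [hi, hab]; rfl)
    refine ⟨e'.homEquiv.symm z, ?_, ?_⟩
    · apply e.homEquiv.injective
      rw [hk, Equiv.apply_symm_apply, hz1]
    · rw [← hi', Equiv.apply_symm_apply, hz2]
  have uniq : ∀ (T : C) (c d : T ⟶ Z'), c ≫ k = d ≫ k → c ≫ i' = d ≫ i' → c = d := by
    intro T c d h1 h2
    apply e'.homEquiv.injective
    refine (K951.Psh.exists_of_isPullback h (op T)).1 _ _ ?_ ?_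
    · rw [← hk, ← hk, h1]
    · rw [hi', hi', h2]
  refine ⟨⟨hw⟩, ⟨PullbackCone.IsLimit.mk _ (fun s => (key _ s.fst s.snd s.condition).choose) ?_ ?_ ?_⟩⟩
  · exact fun s => (key _ s.fst s.snd s.condition).choose_spec.1
  · exact fun s => (key _ s.fst s.snd s.condition).choose_spec.2
  · intro s m h1 h2
    have h3 := (key _ s.fst s.snd s.condition).choose_spec
    exact uniq _ _ _ (h1.trans h3.1.symm) (h2.trans h3.2.symm)

/-- transport of a representation along an isomorphism of functors -/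
def repTransport {C : Type u₁} [Category.{v₁} C] {F F' : Cᵒᵖ ⥤ Type v₁} {Z : C} (e : F.RepresentableBy Z) (i : F ≅ F') :
    F'.RepresentableBy Z := e.ofIso i

theorem repTransport_homEquiv {C : Type u₁} [Category.{v₁} C] {F F' : Cᵒᵖ ⥤ Type v₁} {Z : C} (e : F.RepresentableBy Z)
    (i : F ≅ F') {T : C} (z : T ⟶ Z) : (repTransport e i).homEquiv z = i.hom.app (op T) (e.homEquiv z) := rfl

theorem exists_rep (S : Scheme.{u}) (M : Type) [AddCommGroup M]
    [AddGroup.FG M] (X U : Over S) (aX : AlgGrp.Action (Red.DS S M) X) (aU : AlgGrp.Action (Red.DS S M) U)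
    [IsAffineHom U.hom] (f : U ⟶ X) [Etale f.left] [Surjective f.left]
    (hf : Magnet.MonAct.IsEquivariant (Magnet.MonAct.ofAction aU) (Magnet.MonAct.ofAction aX) f)
    (N : AddSubmonoid M) (Z : AddSubgroup M) (Q : AddSubmonoid M) (hZ : Z.toAddSubmonoid = Q) (hQ : Magnet.IsFace N Q)
    (hfZ : Magnet.MonAct.IsEquivariant
      ((Magnet.MonAct.ofAction aU).restrict (Magnet.AMonS.map S (QuotientAddGroup.mk' Z)))
      ((Magnet.MonAct.ofAction aX).restrict (Magnet.AMonS.map S (QuotientAddGroup.mk' Z))) f)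
    (hfpr : IsPullback (Magnet.MonAct.fixedPsh.map f hfZ)
      (Magnet.MonAct.fixedPshι ((Magnet.MonAct.ofAction aU).restrict (Magnet.AMonS.map S (QuotientAddGroup.mk' Z))))
      (Magnet.MonAct.fixedPshι ((Magnet.MonAct.ofAction aX).restrict (Magnet.AMonS.map S (QuotientAddGroup.mk' Z))))
      (yoneda.map f))
    (hcart : IsPullback (Magnet.MonAct.eqvHom.postcomp (Magnet.subAct S M N) f hf)
      (Magnet.attrFace (Magnet.MonAct.ofAction aU) hQ) (Magnet.attrFace (Magnet.MonAct.ofAction aX) hQ)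
      (Magnet.MonAct.eqvHom.postcomp (Magnet.subAct S M Q) f hf)) :
    ∃ (ZN Zs : Over S) (eN : (Magnet.attr (Magnet.MonAct.ofAction aX) N).RepresentableBy ZN)
      (es : (Magnet.attr (Magnet.MonAct.ofAction aX) Q).RepresentableBy Zs) (j : ZN ⟶ Zs),
      IsAffineHom j.left ∧ ∀ (T : Over S) (z : T ⟶ ZN),
        es.homEquiv (z ≫ j) = (Magnet.attrFace (Magnet.MonAct.ofAction aX) hQ).app (op T)
          (eN.homEquiv z) := by
  subst hZ
  let bX := (Magnet.MonAct.ofAction aX)
  let bU := (Magnet.MonAct.ofAction aU)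
  let cX := bX.restrict (Magnet.AMonS.map S (QuotientAddGroup.mk' Z))
  let cU := bU.restrict (Magnet.AMonS.map S (QuotientAddGroup.mk' Z))
  obtain ⟨isoU, hisoU⟩ := Groth.Agent.S18289.result S M Z U aU
  obtain ⟨isoX, hisoX⟩ := Groth.Agent.S18289.result S M Z X aX
  -- the attractor of the subgroup for `U`
  obtain ⟨ZU, iU, eU, hiU, hiU'⟩ := Groth.Agent.S18295.result S M Z.toAddSubmonoid U bU
  have hU1 : ∀ (T : Over S) (z : T ⟶ ZU),
      (MonAct.fixedPshι cU).app (op T) ((repTransport eU isoU).homEquiv z) = z ≫ iU := by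
    intro T z
    rw [repTransport_homEquiv, ← hiU' T z, ← hisoU]
    rfl
  obtain ⟨Zs, iX, eX, hiX, hiX'⟩ := Groth.Agent.S18299.result S (M ⧸ Z) X U (MonAct.toAction cX) (MonAct.toAction cU) f
    hfZ hfpr ⟨ZU, iU, repTransport eU isoU, hiU, hU1⟩
  let es : (Magnet.attr bX Z.toAddSubmonoid).RepresentableBy Zs := repTransport eX isoX.symm
  -- the cartesian square of representing objects
  let tZ := MonAct.eqvHom.postcomp (Magnet.subAct S M Z.toAddSubmonoid) f hf
  obtain ⟨w, hw⟩ := exists_map_of_rep tZ eU es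
  have hisoc : ∀ (T : Over S) (x : (Magnet.attr bU Z.toAddSubmonoid).obj (op T)),
      isoX.hom.app (op T) (tZ.app (op T) x) = (MonAct.fixedPsh.map f hfZ).app (op T) (isoU.hom.app (op T) x) := by
    intro T x
    apply Subtype.ext
    have h1 : (isoX.hom.app (op T) (tZ.app (op T) x)).1 = (attrToX bX Z.toAddSubmonoid).app (op T) (tZ.app (op T) x) := by
      rw [← hisoX]; rfl
    have h2 : (isoU.hom.app (op T) x).1 = (attrToX bU Z.toAddSubmonoid).app (op T) x := by
      rw [← hisoU]; rfl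
    rw [h1, MonAct.fixedPsh.map_app_coe, h2]
    change lift _ _ ≫ x.1 ≫ f = (lift _ _ ≫ x.1) ≫ f
    rw [Category.assoc]
  have hsq : IsPullback w iU iX f := by
    refine isPullback_of_rep hfpr (repTransport eU isoU) eX hU1 hiX' fun T z => ?_
    have h1 := congrArg (isoX.hom.app (op T)) (hw T z)
    have h2 : isoX.hom.app (op T) (es.homEquiv (z ≫ w)) = eX.homEquiv (z ≫ w) := by
      change isoX.hom.app (op T) (isoX.inv.app (op T) (eX.homEquiv (z ≫ w))) = _
      rw [← ConcreteCategory.comp_apply, ← NatTrans.comp_app, isoX.inv_hom_id]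
      rfl
    exact h2.symm.trans (h1.trans (hisoc _ _))
  have hsq' : IsPullback w.left iU.left iX.left f.left := hsq.map (Over.forget S)
  have hwe : Etale w.left := MorphismProperty.of_isPullback (P := @Etale) hsq'.flip inferInstance
  have hws : Surjective w.left := MorphismProperty.of_isPullback (P := @Surjective) hsq'.flip inferInstance
  -- the attractor of `N` for `U`
  obtain ⟨A, iA, eA, hiA, -⟩ := Groth.Agent.S18295.result S M N U bU
  obtain ⟨p, hp⟩ := exists_map_of_rep (attrFace bU hQ) eA eU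
  have hA : IsAffineHom A.hom := by
    rw [← Over.w iA]
    infer_instance
  have hZU : IsAffineHom ZU.hom := by
    rw [← Over.w iU]
    infer_instance
  have hpa : IsAffineHom p.left := by
    have h1 : IsAffineHom (p.left ≫ ZU.hom) := by
      rw [Over.w p]
      exact hA
    exact IsAffineHom.of_comp p.left ZU.hom
  let π : Magnet.attr bX N ⟶ yoneda.obj Zs := Magnet.attrFace bX hQ ≫ es.toIso.inv
  have hπ : ∀ (T : Over S) (φ : (Magnet.attr bX N).obj (op T)) (z : T ⟶ Zs),
      π.app (op T) φ = z ↔ (Magnet.attrFace bX hQ).app (op T) φ = es.homEquiv z := by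
    intro T φ z
    change es.homEquiv.symm ((Magnet.attrFace bX hQ).app (op T) φ) = z ↔ _
    rw [Equiv.symm_apply_eq]
  let tN := MonAct.eqvHom.postcomp (Magnet.subAct S M N) f hf
  let α : yoneda.obj A ⟶ Magnet.attr bX N := eA.toIso.hom ≫ tN
  have hα' : ∀ (T : Over S) (a : T ⟶ A), α.app (op T) a = tN.app (op T) (eA.homEquiv a) := fun T a => rfl
  have hwc : ∀ (T : Over S) (x : (Magnet.attr bU N).obj (op T)),
      (attrFace bX hQ).app (op T) (tN.app (op T) x) = tZ.app (op T) ((attrFace bU hQ).app (op T) x) := by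
    intro T x
    have := congrArg (fun nt : Magnet.attr bU N ⟶ Magnet.attr bX Z.toAddSubmonoid => nt.app (op T) x) hcart.w
    exact this
  obtain ⟨P, e, j, hj, hj'⟩ := K951.RelRep.exists_rep (F := Magnet.attr bX N) (W := Zs) π
    (K951.EtSh.isFppfSheaf_of_isSheaf ((isSheaf_iff_isSheaf_of_type _ _).1 (Groth.Agent.S18294.result S _ _ X _ bX)))
    (U := ZU) (A := A) w p α
    (by
      intro T a
      rw [hπ, hα', hwc, ← hp, ← hw, Category.assoc])
    (by
      intro T φ t ht
      rw [hπ, hw] at ht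
      obtain ⟨h1, h2⟩ := K951.Psh.exists_of_isPullback hcart (op T)
      obtain ⟨z, hz1, hz2⟩ := h2 φ (eU.homEquiv t) ht
      refine ⟨eA.homEquiv.symm z, ⟨?_, ?_⟩, ?_⟩
      · rw [hα', Equiv.apply_symm_apply]
        exact hz1
      · apply eU.homEquiv.injective
        rw [hp, Equiv.apply_symm_apply]
        exact hz2
      · rintro a ⟨ha1, ha2⟩
        rw [Equiv.eq_symm_apply]
        refine h1 _ _ ?_ ?_
        · rw [hz1]
          exact ha1
        · rw [hz2, ← ha2]
          exact (hp T a).symm)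
  refine ⟨P, Zs, e, es, j, hj, fun T z => ?_⟩
  exact ((hπ T _ _).1 (hj' T z)).symm

end K951.FprRep
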