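import Groth.Agent.Magnet.K951.Zero
import Mathlib.AlgebraicGeometry.Morphisms.IsIso

/-!
# Graded Nakayama: an equivariant morphism of affine `A¹`-schemes which is an isomorphism near the fixed points
-/

set_option autoImplicit false
set_option linter.unusedSectionVars false

universe u

open CategoryTheory MonoidalCategory CartesianMonoidalCategory MonObj AlgebraicGeometry Opposite Limits

namespace K951.GrNak

open Magnet Magnet.MonAct K951.Pts K951.Prd K951.Coact K951.Stab K951.ClSub K951.Zero

variable {S : Scheme.{u}} {X Y : Over S} [IsAffine X.left] [IsAffine Y.left]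
  {a : MonAct (AMonS S ℕ) X} {b : MonAct (AMonS S ℕ) Y} {f : X ⟶ Y} (hf : IsEquivariant a b f)
  {s : Y ⟶ X} (hsf : s ≫ f = ct b) (hfs : f ≫ s = ct a)
  (h2 : ∀ (T : Over S) (x : T ⟶ X), (x ≫ f) ≫ ct b = x ≫ f → x ≫ ct a = x)
  (h3 : ∀ y : Y.left, Function.Injective (f.left.stalkMap (s.left y)))

variable (b) in
/-- The homogeneous functions of positive degree. -/
def pos : Set (Fn Y) := {β | ∃ n : ℕ, n ≠ 0 ∧ IsHomog b n β}

theorem cmp_zero (n : ℕ) : Coact.cmp b n 0 = 0 := cmp_of_isHomog b (isHomog_zero b n)

section Surj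

include hfs in
theorem range_zero {α : Fn X} (hα : IsHomog a 0 α) : α ∈ Set.range (pb f) :=
  ⟨pb s α, by rw [← pb_comp_apply, hfs, pb_ct_zero a hα]⟩

include h2 in
theorem mem_span {n : ℕ} (hn : n ≠ 0) {α : Fn X} (hα : IsHomog a n α) : α ∈ Ideal.span (pb f '' pos b) := by
  have h := h2 (cl X (Ideal.span (pb f '' pos b))) (clι X _) (by
    rw [comp_ct_eq_iff]
    intro m hm β hβ
    have hmem : pb f β ∈ Ideal.span (pb f '' pos b) := Ideal.subset_span ⟨β, ⟨m, hm, hβ⟩, rfl⟩
    rw [pb_comp_apply, pb_spι, Ideal.Quotient.eq_zero_iff_mem.2 hmem, map_zero])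
  rw [comp_ct_eq_iff] at h
  have h1 := h n hn α hα
  rw [pb_spι, map_eq_zero_iff _ (spE_bijective _ _).1, Ideal.Quotient.eq_zero_iff_mem] at h1
  exact h1

include hf hfs h2 in
theorem range_homog (n : ℕ) : ∀ α : Fn X, IsHomog a n α → α ∈ Set.range (pb f) := by
  induction n using Nat.strong_induction_on with
  | _ n ih =>
    intro α hα
    by_cases hn : n = 0
    · subst hn
      exact range_zero hfs hα
    · have key : ∀ x ∈ Ideal.span (pb f '' pos b), ∀ c : Fn X, Coact.cmp a n (c * x) ∈ (pb f).range := by
        intro x hx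
        induction hx using Submodule.span_induction with
        | mem x hx =>
          obtain ⟨β, ⟨m, hm, hβ⟩, rfl⟩ := hx
          intro c
          refine homog_induction a (P := fun c => Coact.cmp a n (c * pb f β) ∈ (pb f).range) ?_ ?_ ?_ c
          · rw [zero_mul, cmp_zero]
            exact Subring.zero_mem _
          · intro x y hx hy
            rw [add_mul, cmp_add]
            exact Subring.add_mem _ hx hy
          · intro e c hc
            have h1 : IsHomog a (e + m) (c * pb f β) := hc.mul a (hβ.pb hf)
            by_cases hen : n = e + m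
            · subst hen
              rw [cmp_of_isHomog a h1]
              exact Subring.mul_mem _ (ih e (by omega) c hc) ⟨β, rfl⟩
            · rw [cmp_of_isHomog_ne a h1 hen]
              exact Subring.zero_mem _
        | zero =>
          intro c
          rw [mul_zero, cmp_zero]
          exact Subring.zero_mem _
        | add x y _ _ hx hy =>
          intro c
          rw [mul_add, cmp_add]
          exact Subring.add_mem _ (hx c) (hy c)
        | smul r x _ hx =>
          intro c
          rw [smul_eq_mul, ← _root_.mul_assoc]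
          exact hx _
      have h1 := key α (mem_span h2 hn hα) 1
      rw [_root_.one_mul, cmp_of_isHomog a hα] at h1
      exact h1

include hf hfs h2 in
theorem pb_surjective : Function.Surjective (pb f) := by
  intro α
  have : α ∈ (pb f).range := by
    refine homog_induction a (P := fun α => α ∈ (pb f).range) (Subring.zero_mem _)
      (fun x y hx hy => Subring.add_mem _ hx hy) (fun n α hα => range_homog hf hfs h2 n α hα) α
  exact this

end Surj

section Inj

include hsf in
theorem eq_zero_of_degree_zero {κ : Fn Y} (hκ : IsHomog b 0 κ) (h : pb f κ = 0) : κ = 0 := by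
  rw [← pb_ct_zero b hκ, ← hsf, pb_comp_apply, h, map_zero]

/-- A point where all functions of positive degree vanish is fixed by the contraction. -/
theorem ct_eq_of_forall (y : Y.left) (hy : ∀ β ∈ pos b, y ∉ Y.left.basicOpen β) : (ct b).left y = y := by
  let T := resOver Y y
  let t : T ⟶ Y := resMap Y y
  obtain ⟨pt, hpt⟩ : y ∈ Set.range t.left := by
    change _ ∈ Set.range (Y.left.fromSpecResidueField _)
    rw [Scheme.range_fromSpecResidueField]
    rfl
  have hsub : Subsingleton T.left := inferInstanceAs (Subsingleton (PrimeSpectrum _))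
  have hred : IsReduced T.left := inferInstanceAs (IsReduced (Spec (Y.left.residueField y)))
  have h1 : t ≫ ct b = t := by
    rw [comp_ct_eq_iff]
    intro n hn β hβ
    have h2 : T.left.basicOpen (pb t β) = ⊥ := by
      rw [eq_bot_iff]
      intro q hq
      have h3 : q ∈ t.left ⁻¹ᵁ Y.left.basicOpen β := by
        rw [Scheme.preimage_basicOpen_top]
        exact hq
      have h4 : t.left q = y := by rw [Subsingleton.elim q pt, hpt]
      change t.left q ∈ Y.left.basicOpen β at h3
      rw [h4] at h3
      exact hy β ⟨n, hn, hβ⟩ h3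
    exact (basicOpen_eq_bot_iff _).1 h2
  rw [← hpt, ← Scheme.Hom.comp_apply, ← Over.comp_left, h1]

include hsf h3 in
theorem eq_zero_of_pos {n : ℕ} {κ : Fn Y} (hκ : IsHomog b n κ) (h : pb f κ = 0) : κ = 0 := by
  let J : Ideal (Fn Y) := Ideal.span ({c | c * κ = 0} ∪ pos b)
  have hJ : J = ⊤ := by
    rw [← (isAffineOpen_top Y.left).self_le_iSup_basicOpen_iff]
    intro y _
    rw [TopologicalSpace.Opens.mem_iSup]
    by_cases hy : ∀ β ∈ pos b, y ∉ Y.left.basicOpen β
    · have hfix : f.left (s.left y) = y := by
        rw [← Scheme.Hom.comp_apply, ← Over.comp_left, hsf]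
        exact ct_eq_of_forall y hy
      -- the germ of `κ` vanishes
      have hg : Y.left.presheaf.germ ⊤ (f.left (s.left y)) (TopologicalSpace.Opens.mem_top _) κ = 0 := by
        apply h3 y
        rw [map_zero]
        refine (Scheme.Hom.germ_stalkMap_apply f.left ⊤ (s.left y) (TopologicalSpace.Opens.mem_top _) κ).trans ?_
        exact (congrArg _ h).trans (map_zero _)
      obtain ⟨W, hWle, hyW, hW⟩ := Y.left.toRingedSpace.exists_res_eq_zero_of_germ_eq_zero ⊤ κ
        ⟨f.left (s.left y), TopologicalSpace.Opens.mem_top _⟩ hg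
      obtain ⟨c, hcW, hyc⟩ := (isAffineOpen_top Y.left).exists_basicOpen_le (V := W) ⟨_, hyW⟩ trivial
      have hres : κ |_ (Y.left.basicOpen c) = 0 := by
        have h1 : κ |_ (Y.left.basicOpen c) = Y.left.presheaf.map (homOfLE hcW).op (Y.left.presheaf.map hWle.op κ) := by
          rw [← ConcreteCategory.comp_apply, ← Functor.map_comp]
          rfl
        rw [h1, hW, map_zero]
      obtain ⟨n, hn⟩ := exists_pow_mul_eq_zero_of_res_basicOpen_eq_zero_of_isAffineOpen Y.left
        (isAffineOpen_top Y.left) κ c hres
      have hn' : c ^ (n + 1) * κ = 0 := by rw [pow_succ', _root_.mul_assoc, hn, mul_zero]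
      refine ⟨⟨c ^ (n + 1), Or.inl hn'⟩, ?_⟩
      have hyc' : f.left (s.left y) ∈ Y.left.basicOpen c := hyc
      rw [hfix] at hyc'
      change y ∈ Y.left.basicOpen (c ^ (n + 1))
      rw [Scheme.basicOpen_pow Y.left c (Nat.succ_pos n)]
      exact hyc'
    · push Not at hy
      obtain ⟨β, hβ, hyβ⟩ := hy
      exact ⟨⟨β, Or.inr hβ⟩, hyβ⟩
  have key : ∀ x ∈ J, ∀ c : Fn Y, Coact.cmp b n (c * x * κ) = 0 := by
    intro x hx
    induction hx using Submodule.span_induction with
    | mem x hx =>
      obtain hx | ⟨m, hm, hβ⟩ := hx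
      · intro c
        have hx' : x * κ = 0 := hx
        rw [_root_.mul_assoc, hx', mul_zero, cmp_zero]
      · intro c
        refine homog_induction b (P := fun c => Coact.cmp b n (c * x * κ) = 0) ?_ ?_ ?_ c
        · rw [zero_mul, zero_mul, cmp_zero]
        · intro x y hx hy
          rw [add_mul, add_mul, cmp_add, hx, hy, add_zero]
        · intro e c hc
          refine cmp_of_isHomog_ne b ((hc.mul b hβ).mul b hκ) ?_
          omega
    | zero =>
      intro c
      rw [mul_zero, zero_mul, cmp_zero]
    | add x y _ _ hx hy =>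
      intro c
      rw [mul_add, add_mul, cmp_add, hx c, hy c, add_zero]
    | smul r x _ hx =>
      intro c
      rw [smul_eq_mul, ← _root_.mul_assoc]
      exact hx _
  have h1 := key 1 (by rw [hJ]; trivial) 1
  rw [_root_.one_mul, _root_.one_mul, cmp_of_isHomog b hκ] at h1
  exact h1

include hf hsf h3 in
theorem pb_injective : Function.Injective (pb f) := by
  rw [injective_iff_map_eq_zero]
  intro κ h
  rw [← sum_cmp b κ, Finsupp.sum]
  refine Finset.sum_eq_zero fun n _ => ?_
  have h1 : pb f (Coact.cmp b (Multiplicative.toAdd n) κ) = Coact.cmp a (Multiplicative.toAdd n) (pb f κ) := by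
    refine homog_induction b (P := fun κ => pb f (Coact.cmp b (Multiplicative.toAdd n) κ) =
      Coact.cmp a (Multiplicative.toAdd n) (pb f κ)) ?_ ?_ ?_ κ
    · rw [cmp_zero, map_zero, cmp_zero]
    · intro x y hx hy
      rw [cmp_add, map_add, map_add, cmp_add, hx, hy]
    · intro m x hx
      by_cases hmn : Multiplicative.toAdd n = m
      · subst hmn
        rw [cmp_of_isHomog b hx, cmp_of_isHomog a (hx.pb hf)]
      · rw [cmp_of_isHomog_ne b hx hmn, cmp_of_isHomog_ne a (hx.pb hf) hmn, map_zero]
  rw [h, cmp_zero] at h1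
  exact eq_zero_of_pos hsf h3 (isHomog_cmp b (Multiplicative.toAdd n) κ) h1

end Inj

include hf hsf hfs h2 h3 in
/-- THE AFFINE CASE. -/
theorem isIso_left : IsIso f.left := by
  have h : IsIso f.left.appTop :=
    (ConcreteCategory.isIso_iff_bijective _).2 ⟨pb_injective hf hsf h3, pb_surjective hf hfs h2⟩
  have h' : IsIso (Spec.map f.left.appTop) := inferInstance
  exact ((MorphismProperty.isomorphisms _).arrow_mk_iso_iff (arrowIsoSpecΓOfIsAffine f.left)).2 h'

end K951.GrNak
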