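import Groth.Agent.Magnet.K951.GrNak
import Groth.Agent.Magnet.K951.BBGlue

/-!
# Equivariant morphisms of locally linear `A¹`-schemes which are isomorphisms near the fixed points
-/

set_option autoImplicit false
set_option linter.unusedSectionVars false

universe u

open CategoryTheory MonoidalCategory CartesianMonoidalCategory MonObj AlgebraicGeometry Opposite Limits

namespace K951.LocLin

open Magnet Magnet.MonAct K951.Pts K951.Prd K951.Coact K951.Stab K951.ClSub K951.Zero K951.BBGlue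

section Inf

variable {S : Scheme.{u}} {G X : Over S} [MonObj G] {a : MonAct G X}

theorem IsStable.inf {U V : X.left.Opens} (hU : IsStable a U) (hV : IsStable a V) : IsStable a (U ⊓ V) :=
  fun _ hq => ⟨hU hq.1, hV hq.2⟩

end Inf

variable {k : Type u} [Field k] {X Y : Over (Spec (CommRingCat.of k))}
  {a : MonAct (AMonS (Spec (CommRingCat.of k)) ℕ) X} {b : MonAct (AMonS (Spec (CommRingCat.of k)) ℕ) Y}

variable (a) in
/-- Preimages of opens under the contraction are stable. -/
theorem isStable_preimage_ct (O : X.left.Opens) : IsStable a ((ct a).left ⁻¹ᵁ O) := by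
  have h : a.act ≫ ct a = snd _ X ≫ ct a := by
    have h1 := pz_act (zN _) zN_mul a (fst _ X) (snd _ X)
    rwa [lift_fst_snd, Category.id_comp] at h1
  unfold IsStable
  rw [← Scheme.Hom.comp_preimage, ← Scheme.Hom.comp_preimage, ← Over.comp_left, ← Over.comp_left, h]

variable (a) in
/-- Shrinking a stable affine open around a fixed point. -/
theorem exists_shrink {U O : X.left.Opens} (hU : IsAffineOpen U) (hUs : IsStable a U) (x : X.left) (hx : x ∈ U)
    (hxO : x ∈ O) (hfix : (ct a).left x = x) :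
    ∃ g : Γ(X.left, U), x ∈ X.left.basicOpen g ∧ IsStable a (X.left.basicOpen g) ∧
      X.left.basicOpen g ≤ (ct a).left ⁻¹ᵁ O := by
  obtain ⟨g₀, hg₀, hx₀⟩ := hU.exists_basicOpen_le (V := O) ⟨x, hxO⟩ hx
  have hle : U ≤ (ct a).left ⁻¹ᵁ U := by rw [preimage_ct a hUs]
  have hb : X.left.basicOpen ((ct a).left.appLE U U hle g₀) = U ⊓ (ct a).left ⁻¹ᵁ X.left.basicOpen g₀ :=
    Scheme.basicOpen_appLE _ _ _ _ _
  refine ⟨(ct a).left.appLE U U hle g₀, ?_, ?_, ?_⟩
  · rw [hb]
    refine ⟨hx, ?_⟩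
    change (ct a).left x ∈ X.left.basicOpen g₀
    rw [hfix]
    exact hx₀
  · rw [hb]
    exact IsStable.inf hUs (isStable_preimage_ct a _)
  · rw [hb]
    exact fun y hy => hg₀ hy.2

variable {f : X ⟶ Y} (hf : IsEquivariant a b f)
  {s : Y ⟶ X} (hs : s ≫ ct a = s) (hsf : s ≫ f = ct b) (hfs : f ≫ s = ct a)
  (hX : ∀ x : X.left, ∃ U : X.left.Opens, x ∈ U ∧ IsAffineOpen U ∧ IsStable a U)
  (hY : ∀ y : Y.left, ∃ U : Y.left.Opens, y ∈ U ∧ IsAffineOpen U ∧ IsStable b U)

include hf hs hsf hfs hX hY in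
/-- Stable affine opens of `Y` with affine preimage in `X`. -/
theorem exists_good (y : Y.left) :
    ∃ W : Y.left.Opens, y ∈ W ∧ IsAffineOpen W ∧ IsStable b W ∧ IsAffineOpen (f.left ⁻¹ᵁ W) := by
  have hbs : ct b ≫ s = s := by rw [← hsf, Category.assoc, hfs, hs]
  have e1 : f.left (s.left y) = (ct b).left y := by rw [← hsf, Over.comp_left, Scheme.Hom.comp_apply]
  have e2 : (ct a).left (s.left y) = s.left y := by rw [← Scheme.Hom.comp_apply, ← Over.comp_left, hs]
  have e3 : (ct b).left ((ct b).left y) = (ct b).left y := by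
    rw [← Scheme.Hom.comp_apply, ← Over.comp_left, pz_pz (zN _) zN_mul b]
  have e4 : s.left ((ct b).left y) = s.left y := by rw [← Scheme.Hom.comp_apply, ← Over.comp_left, hbs]
  obtain ⟨W₀, hyW₀, hW₀, hW₀s⟩ := hY ((ct b).left y)
  obtain ⟨U₀, hxU₀, hU₀, hU₀s⟩ := hX (s.left y)
  have hst : IsStable a (f.left ⁻¹ᵁ W₀) := hW₀s.preimage hf
  obtain ⟨g, hxg, hgs, hg⟩ := exists_shrink a (O := f.left ⁻¹ᵁ W₀) hU₀ hU₀s (s.left y) hxU₀ (by
    change f.left (s.left y) ∈ W₀
    rw [e1]; exact hyW₀) e2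
  rw [preimage_ct a hst] at hg
  obtain ⟨h, hyh, hhs, hh⟩ := exists_shrink b (O := s.left ⁻¹ᵁ X.left.basicOpen g) hW₀ hW₀s ((ct b).left y) hyW₀ (by
    change s.left ((ct b).left y) ∈ X.left.basicOpen g
    rw [e4]; exact hxg) e3
  have hle : f.left ⁻¹ᵁ Y.left.basicOpen h ≤ X.left.basicOpen g := by
    intro u hu
    have h1 : (ct b).left (f.left u) ∈ s.left ⁻¹ᵁ X.left.basicOpen g := hh hu
    change s.left ((ct b).left (f.left u)) ∈ X.left.basicOpen g at h1
    rw [← Scheme.Hom.comp_apply, ← Over.comp_left, hbs, ← Scheme.Hom.comp_apply, ← Over.comp_left, hfs] at h1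
    rw [← preimage_ct a hgs]
    exact h1
  refine ⟨Y.left.basicOpen h, ?_, hW₀.basicOpen h, hhs, ?_⟩
  · rw [← preimage_ct b hhs]
    exact hyh
  · have hb : X.left.basicOpen (f.left.appLE W₀ (X.left.basicOpen g) hg h) =
        X.left.basicOpen g ⊓ f.left ⁻¹ᵁ Y.left.basicOpen h := Scheme.basicOpen_appLE _ _ _ _ _
    rw [inf_eq_right.2 hle] at hb
    rw [← hb]
    exact (hU₀.basicOpen g).basicOpen _

/-- Injectivity of a map in `CommRingCat` transfers along isomorphisms of arrows. -/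
theorem injective_of_arrow_iso {A B A' B' : CommRingCat.{u}} {φ : A ⟶ B} {ψ : A' ⟶ B'}
    (e : Arrow.mk φ ≅ Arrow.mk ψ) (h : Function.Injective ψ) : Function.Injective φ := by
  have hw : φ ≫ e.hom.right = e.hom.left ≫ ψ := (Arrow.w e.hom).symm
  have h1 : IsIso e.hom.left := inferInstance
  have h2 : Function.Injective e.hom.left := (ConcreteCategory.bijective_of_isIso e.hom.left).1
  have h3 : Function.Injective (φ ≫ e.hom.right) := by
    rw [hw]
    exact h.comp h2
  exact Function.Injective.of_comp (f := e.hom.right) h3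

variable (h2 : ∀ (T : Over (Spec (CommRingCat.of k))) (x : T ⟶ X), (x ≫ f) ≫ ct b = x ≫ f → x ≫ ct a = x)
  (h3 : ∀ x : X.left, (∃ y, s.left y = x) → Function.Injective (f.left.stalkMap x))

include hf hsf hfs h2 h3 in
/-- The restriction of `f` over a good open is an isomorphism. -/
theorem isIso_restrict (W : Y.left.Opens) (hW : IsAffineOpen W) (hWs : IsStable b W)
    (hfW : IsAffineOpen (f.left ⁻¹ᵁ W)) : IsIso (f.left ∣_ W) := by
  have hst : IsStable a (f.left ⁻¹ᵁ W) := hWs.preimage hf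
  have hA : IsAffine (opT Y W).left := hW
  have hB : IsAffine (opT X (f.left ⁻¹ᵁ W)).left := hfW
  have hm1 := mono_opι (X := Y) W
  have hm2 := mono_opι (X := X) (f.left ⁻¹ᵁ W)
  have hoX : IsOpenImmersion (opι X (f.left ⁻¹ᵁ W)).left := inferInstanceAs (IsOpenImmersion (Scheme.Opens.ι _))
  have hrX : (opι X (f.left ⁻¹ᵁ W)).left.opensRange = f.left ⁻¹ᵁ W := (f.left ⁻¹ᵁ W).opensRange_ι
  -- the restricted morphism
  let f' : opT X (f.left ⁻¹ᵁ W) ⟶ opT Y W := Over.homMk (f.left ∣_ W) (by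
    change (f.left ∣_ W) ≫ W.ι ≫ Y.hom = (f.left ⁻¹ᵁ W).ι ≫ X.hom
    rw [morphismRestrict_ι_assoc, Over.w])
  have hf' : f' ≫ opι Y W = opι X _ ≫ f := by
    ext1
    exact morphismRestrict_ι f.left W
  -- the restricted section
  obtain ⟨s', hs'⟩ := exists_factor_open (opι X (f.left ⁻¹ᵁ W)) (opι Y W ≫ s) (by
    rw [hrX, ← Scheme.Hom.comp_preimage, ← Over.comp_left, Category.assoc, hsf, Over.comp_left,
      Scheme.Hom.comp_preimage, preimage_ct b hWs, eq_top_iff]
    intro y _
    exact y.2)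
  have ea := isEquivariant_opι a (f.left ⁻¹ᵁ W) hst
  have eb := isEquivariant_opι b W hWs
  have eca : ct (openAct a (f.left ⁻¹ᵁ W) hst) ≫ opι X _ = opι X _ ≫ ct a := pz_comp (zN _) ea
  have ecb : ct (openAct b W hWs) ≫ opι Y W = opι Y W ≫ ct b := pz_comp (zN _) eb
  have heq : IsEquivariant (openAct a (f.left ⁻¹ᵁ W) hst) (openAct b W hWs) f' := by
    unfold IsEquivariant at ea eb ⊢
    rw [← cancel_mono (opι Y W), Category.assoc, hf', reassoc_of% ea, hf, Category.assoc, eb,
      ← MonoidalCategory.whiskerLeft_comp_assoc, ← MonoidalCategory.whiskerLeft_comp_assoc, hf']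
  refine K951.GrNak.isIso_left (a := openAct a (f.left ⁻¹ᵁ W) hst) (b := openAct b W hWs) (f := f') (s := s') heq
    ?_ ?_ ?_ ?_
  · rw [← cancel_mono (opι Y W), Category.assoc, hf', reassoc_of% hs', hsf, ecb]
  · rw [← cancel_mono (opι X (f.left ⁻¹ᵁ W)), Category.assoc, hs', reassoc_of% hf', hfs, eca]
  · intro T x hx
    rw [← cancel_mono (opι X (f.left ⁻¹ᵁ W)), Category.assoc, eca, ← Category.assoc]
    apply h2
    have h4 := congrArg (· ≫ opι Y W) hx
    simp only [Category.assoc, ecb, hf'] at h4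
    simp only [Category.assoc]
    rw [reassoc_of% hf'] at h4
    exact h4
  · intro y
    refine injective_of_arrow_iso (morphismRestrictStalkMap f.left W (s'.left y)) (h3 _ ⟨(opι Y W).left y, ?_⟩)
    rw [← Scheme.Hom.comp_apply, ← Over.comp_left, ← hs']
    rfl

include hf hs hsf hfs hX hY h2 h3 in
theorem isIso_of_locLin : IsIso f := by
  have h : IsIso f.left := by
    change (MorphismProperty.isomorphisms Scheme.{u}) f.left
    refine IsZariskiLocalAtTarget.of_forall_exists_morphismRestrict fun y => ?_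
    obtain ⟨W, hyW, hW, hWs, hfW⟩ := exists_good hf hs hsf hfs hX hY y
    exact ⟨W, hyW, isIso_restrict hf hsf hfs h2 h3 W hW hWs hfW⟩
  have : IsIso ((Over.forget _).map f) := h
  exact isIso_of_reflects_iso _ (Over.forget _)

end K951.LocLin
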