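import Groth.Agent.Magnet.K951.LocLin
import Groth.Agent.Magnet.K951.Psh
import Mathlib.AlgebraicGeometry.Morphisms.Etale
import Mathlib.RingTheory.Flat.FaithfullyFlat.Algebra

/-!
# The isomorphism criterion for equivariant morphisms of locally linear `A¹`-schemes
-/

set_option autoImplicit false
set_option linter.unusedSectionVars false

universe u

open CategoryTheory MonoidalCategory CartesianMonoidalCategory MonObj AlgebraicGeometry Opposite Limits

namespace K951.LocLinIso

open Magnet Magnet.MonAct K951.Zero K951.Stab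

/-- The stalk maps of a flat morphism are injective. -/
theorem stalkMap_injective {X Y : Scheme.{u}} (f : X ⟶ Y) [Flat f] (x : X) : Function.Injective (f.stalkMap x) := by
  algebraize [(f.stalkMap x).hom]
  have : Module.FaithfullyFlat (Y.presheaf.stalk (f x)) (X.presheaf.stalk x) :=
    @Module.FaithfullyFlat.of_flat_of_isLocalHom _ _ _ _ _ _ _
      (Flat.stalkMap f x) (f.toLRSHom.prop x)
  exact ‹RingHom.FaithfullyFlat _›.injective

/-- A morphism flat on an open subset has injective stalk maps there. -/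
theorem stalkMap_injective_of_mem {X Y : Scheme.{u}} (f : X ⟶ Y) (V : X.Opens) [Flat (V.ι ≫ f)] (x : X) (hx : x ∈ V) :
    Function.Injective (f.stalkMap x) := by
  have h1 := stalkMap_injective (V.ι ≫ f) ⟨x, hx⟩
  have h2 : (V.ι ≫ f).stalkMap ⟨x, hx⟩ = f.stalkMap (V.ι ⟨x, hx⟩) ≫ V.ι.stalkMap ⟨x, hx⟩ :=
    Scheme.Hom.stalkMap_comp V.ι f ⟨x, hx⟩
  rw [h2] at h1
  exact Function.Injective.of_comp (f := V.ι.stalkMap ⟨x, hx⟩) h1

variable {k : Type u} [Field k] {X Y : Over (Spec (CommRingCat.of k))}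
  {a : MonAct (AMonS (Spec (CommRingCat.of k)) ℕ) X} {b : MonAct (AMonS (Spec (CommRingCat.of k)) ℕ) Y}

theorem main (hX : ∀ x : X.left, ∃ U : X.left.Opens, x ∈ U ∧ IsAffineOpen U ∧ IsStable a U)
    (hY : ∀ y : Y.left, ∃ U : Y.left.Opens, y ∈ U ∧ IsAffineOpen U ∧ IsStable b U)
    (f : X ⟶ Y) (hf : IsEquivariant a b f) (h1 : IsIso (fixedPsh.map f hf))
    (h2 : IsPullback (fixedPsh.map f hf) (fixedPshι a) (fixedPshι b) (yoneda.map f))
    (V : X.left.Opens) [Flat (V.ι ≫ f.left)]
    (h3 : ∀ (T : Over (Spec (CommRingCat.of k))) (x : (fixedPsh a).obj (op T)), x.1.left ⁻¹ᵁ V = ⊤) : IsIso f := by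
  have hbij : ∀ T : (Over (Spec (CommRingCat.of k)))ᵒᵖ, Function.Bijective ((fixedPsh.map f hf).app T) := fun T =>
    ConcreteCategory.bijective_of_isIso ((fixedPsh.map f hf).app T)
  obtain ⟨s, hs⟩ := (hbij (op Y)).2 (mkFixed (zN _) zN_mul b (ct b) (pz_pz (zN _) zN_mul b))
  have hsf : s.1 ≫ f = ct b := congrArg Subtype.val hs
  have hsa : s.1 ≫ ct a = s.1 := eq_of_fixed (zN _) a s
  have hfs : f ≫ s.1 = ct a := by
    have h4 : (fixedPsh a).map f.op s = mkFixed (zN _) zN_mul a (ct a) (pz_pz (zN _) zN_mul a) := by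
      apply (hbij (op X)).1
      apply Subtype.ext
      change (f ≫ s.1) ≫ f = ct a ≫ f
      rw [Category.assoc, hsf]
      exact (pz_comp (zN _) hf).symm
    exact congrArg Subtype.val h4
  refine K951.LocLin.isIso_of_locLin hf hsa hsf hfs hX hY ?_ ?_
  · intro T x hx
    obtain ⟨z, -, hz⟩ := (K951.Psh.exists_of_isPullback h2 (op T)).2 (mkFixed (zN _) zN_mul b (x ≫ f) hx) x rfl
    have hz' : z.1 = x := hz
    rw [← hz']
    exact eq_of_fixed (zN _) a z
  · rintro x ⟨y, rfl⟩
    have hy : y ∈ s.1.left ⁻¹ᵁ V := by rw [h3]; trivial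
    exact stalkMap_injective_of_mem f.left V _ hy

end K951.LocLinIso
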