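import Groth.Agent.Magnet.K951.Prod
import Groth.Agent.Magnet.K951.Dense
import Groth.Agent.Sga3C.Affinization
import Mathlib.LinearAlgebra.TensorProduct.Basis
import Mathlib.LinearAlgebra.TensorProduct.RightExactness

/-!
# Slices of functions on a product of affine schemes over a field

For affine schemes `G`, `Y` over a field `k` and a linear form `l` on the functions of `G`, `sl l` is the induced map from the
functions on `G × Y` to the functions on `Y`.
-/

set_option autoImplicit false

universe u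

open CategoryTheory MonoidalCategory CartesianMonoidalCategory MonObj AlgebraicGeometry Opposite Limits
open scoped TensorProduct

namespace K951.Slice

open Magnet K951.Pts K951.Prd

variable {k : Type u} [Field k]

attribute [local instance] K951.Pts.algΓ

/-- Pull-back of functions as an algebra map. -/
noncomputable def pbA {Y Y' : Over (Spec (CommRingCat.of k))} (f : Y ⟶ Y') : Fn Y' →ₐ[k] Fn Y where
  __ := pb f
  commutes' r := by
    rw [algebraMap_algΓ, algebraMap_algΓ]
    have h : fnS Y.hom = (pb f).comp (fnS Y'.hom) := by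
      rw [← fnS_comp, Over.w]
    exact congr($h r).symm

theorem pbA_apply {Y Y' : Over (Spec (CommRingCat.of k))} (f : Y ⟶ Y') (x : Fn Y') : pbA f x = pb f x := rfl

section

variable (G Y : Over (Spec (CommRingCat.of k))) [IsAffine G.left] [IsAffine Y.left]

theorem isPushout_fn : IsPushout (CommRingCat.ofHom (algebraMap k (Fn G))) (CommRingCat.ofHom (algebraMap k (Fn Y)))
    (CommRingCat.ofHom (pb (fst G Y))) (CommRingCat.ofHom (pb (snd G Y))) := by
  have h := Groth.Agent.Sga3C.Affinization.isPushout_appTop k G Y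
  have key : ∀ W : Over (Spec (CommRingCat.of k)), W.hom.appTop ≫ 𝟙 _ =
      (Scheme.ΓSpecIso (CommRingCat.of k)).hom ≫ CommRingCat.ofHom (algebraMap k (Fn W)) := by
    intro W
    rw [← Iso.inv_comp_eq, Category.comp_id]
    rfl
  refine h.of_iso (Scheme.ΓSpecIso (CommRingCat.of k)) (Iso.refl _) (Iso.refl _) (Iso.refl _) (key G) (key Y) ?_ ?_
  · rw [Iso.refl_hom, Iso.refl_hom, Category.comp_id, Category.id_comp]; rfl
  · rw [Iso.refl_hom, Iso.refl_hom, Category.comp_id, Category.id_comp]; rfl

/-- The functions on a product of affine schemes. -/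
noncomputable def tens : Fn G ⊗[k] Fn Y →+* Fn (G ⊗ Y) :=
  ((CommRingCat.isPushout_tensorProduct k (Fn G) (Fn Y)).isoIsPushout _ _ (isPushout_fn G Y)).hom.hom

theorem tens_bijective : Function.Bijective (tens G Y) :=
  ConcreteCategory.bijective_of_isIso
    ((CommRingCat.isPushout_tensorProduct k (Fn G) (Fn Y)).isoIsPushout _ _ (isPushout_fn G Y)).hom

theorem tens_tmul (a : Fn G) (b : Fn Y) : tens G Y (a ⊗ₜ b) = pb (fst G Y) a * pb (snd G Y) b := by
  have h1 : tens G Y (a ⊗ₜ 1) = pb (fst G Y) a := by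
    have := (CommRingCat.isPushout_tensorProduct k (Fn G) (Fn Y)).inl_isoIsPushout_hom _ _ (isPushout_fn G Y)
    exact congr(($this).hom a)
  have h2 : tens G Y (1 ⊗ₜ b) = pb (snd G Y) b := by
    have := (CommRingCat.isPushout_tensorProduct k (Fn G) (Fn Y)).inr_isoIsPushout_hom _ _ (isPushout_fn G Y)
    exact congr(($this).hom b)
  rw [← h1, ← h2, ← map_mul, Algebra.TensorProduct.tmul_mul_tmul, _root_.mul_one, _root_.one_mul]

/-- Additive version. -/
noncomputable def tensE : Fn G ⊗[k] Fn Y ≃+ Fn (G ⊗ Y) :=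
  AddEquiv.ofBijective (tens G Y).toAddMonoidHom (tens_bijective G Y)

theorem tensE_apply (x : Fn G ⊗[k] Fn Y) : tensE G Y x = tens G Y x := rfl

/-- The slice of a function on `G × Y` along a linear form on the functions of `G`. -/
noncomputable def sl (l : Fn G →ₗ[k] k) : Fn (G ⊗ Y) →+ Fn Y :=
  ((TensorProduct.lid k (Fn Y)).toLinearMap ∘ₗ (l.rTensor (Fn Y))).toAddMonoidHom.comp (tensE G Y).symm.toAddMonoidHom

theorem sl_tens (l : Fn G →ₗ[k] k) (x : Fn G ⊗[k] Fn Y) :
    sl G Y l (tens G Y x) = TensorProduct.lid k (Fn Y) (l.rTensor (Fn Y) x) := by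
  change TensorProduct.lid k (Fn Y) (l.rTensor (Fn Y) ((tensE G Y).symm (tensE G Y x))) = _
  rw [AddEquiv.symm_apply_apply]

theorem sl_mul (l : Fn G →ₗ[k] k) (a : Fn G) (b : Fn Y) :
    sl G Y l (pb (fst G Y) a * pb (snd G Y) b) = l a • b := by
  rw [← tens_tmul, sl_tens, LinearMap.rTensor_tmul, TensorProduct.lid_tmul]

end

section

variable {G M : Over (Spec (CommRingCat.of k))} [IsAffine G.left] [IsAffine M.left]
  {Y Y' : Over (Spec (CommRingCat.of k))} [IsAffine Y.left] [IsAffine Y'.left]

theorem pb_whiskerLeft_tens (y : Y' ⟶ Y) (a : Fn G) (b : Fn Y) :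
    pb (G ◁ y) (tens G Y (a ⊗ₜ b)) = tens G Y' (a ⊗ₜ pb y b) := by
  rw [tens_tmul, tens_tmul, map_mul, ← pb_comp_apply, ← pb_comp_apply, whiskerLeft_fst, whiskerLeft_snd, pb_comp_apply]

theorem pb_whiskerRight_tens (i : G ⟶ M) (x : Fn M ⊗[k] Fn Y) :
    pb (i ▷ Y) (tens M Y x) = tens G Y ((pbA i).toLinearMap.rTensor (Fn Y) x) := by
  induction x using TensorProduct.induction_on with
  | zero => simp only [map_zero]
  | add x y hx hy => simp only [map_add, hx, hy]
  | tmul a b =>
    rw [LinearMap.rTensor_tmul, tens_tmul, tens_tmul, map_mul, ← pb_comp_apply, ← pb_comp_apply, whiskerRight_fst,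
      whiskerRight_snd, pb_comp_apply]
    rfl

/-- Slices are natural. -/
theorem pb_sl (l : Fn G →ₗ[k] k) (y : Y' ⟶ Y) (w : Fn (G ⊗ Y)) : pb y (sl G Y l w) = sl G Y' l (pb (G ◁ y) w) := by
  obtain ⟨x, rfl⟩ := (tens_bijective G Y).2 w
  induction x using TensorProduct.induction_on with
  | zero => simp only [map_zero]
  | add x y hx hy => simp only [map_add, hx, hy]
  | tmul a b =>
    rw [pb_whiskerLeft_tens, sl_tens, sl_tens, LinearMap.rTensor_tmul, LinearMap.rTensor_tmul, TensorProduct.lid_tmul,
      TensorProduct.lid_tmul]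
    exact map_smul (pbA y) _ _

/-- A function on `G × Y` comes from `M × Y` if and only if all its slices along the linear forms killing the functions
coming from `M` vanish. -/
theorem mem_range_iff (i : G ⟶ M) (w : Fn (G ⊗ Y)) :
    w ∈ Set.range (pb (i ▷ Y)) ↔ ∀ l : Fn G →ₗ[k] k, l ∘ₗ (pbA i).toLinearMap = 0 → sl G Y l w = 0 := by
  constructor
  · rintro ⟨v, rfl⟩ l hl
    obtain ⟨x, rfl⟩ := (tens_bijective M Y).2 v
    rw [pb_whiskerRight_tens, sl_tens, ← LinearMap.rTensor_comp_apply, hl, LinearMap.rTensor_zero, LinearMap.zero_apply,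
      map_zero]
  · intro h
    classical
    obtain ⟨x, rfl⟩ := (tens_bijective G Y).2 w
    let R := LinearMap.range (pbA i).toLinearMap
    have hex : Function.Exact (pbA i).toLinearMap R.mkQ := by
      rw [LinearMap.exact_iff, Submodule.ker_mkQ]
    have hex' := rTensor_exact (Fn Y) hex (Submodule.mkQ_surjective R)
    have hx : R.mkQ.rTensor (Fn Y) x = 0 := by
      let ℬ := Module.Basis.ofVectorSpace k (Fn G ⧸ R)
      apply (TensorProduct.equivFinsuppOfBasisLeft ℬ).injective
      rw [map_zero]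
      ext j
      rw [TensorProduct.equivFinsuppOfBasisLeft_apply, ← LinearMap.rTensor_comp_apply, ← sl_tens]
      refine (h _ ?_).trans rfl
      apply LinearMap.ext
      intro a
      have : R.mkQ ((pbA i).toLinearMap a) = 0 := hex.apply_apply_eq_zero a
      rw [LinearMap.comp_apply, LinearMap.comp_apply, this, map_zero, LinearMap.zero_apply]
    obtain ⟨z, hz⟩ := (hex' x).1 hx
    exact ⟨tens M Y z, by rw [pb_whiskerRight_tens, hz]⟩

end

end K951.Slice
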