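import Groth.Agent.Magnet.K951.Coact
import Groth.Agent.Magnet.K951.StabGrp
import Groth.Agent.Magnet.K951.ClSub
import Groth.Agent.Magnet.K951.Nilp

/-!
# Actions of monoids with zero: the contraction `x ↦ 0 x` onto the fixed points
-/

set_option autoImplicit false
set_option linter.unusedSectionVars false

universe v₁ u₁ u

open CategoryTheory MonoidalCategory CartesianMonoidalCategory MonObj AlgebraicGeometry Opposite Limits

namespace K951.Zero

open Magnet Magnet.MonAct K951.Pts K951.Prd K951.Coact K951.Stab K951.StabGrp K951.ClSub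

section General

variable {C : Type u₁} [Category.{v₁} C] [CartesianMonoidalCategory C] {A X Y : C} [MonObj A] (z : 𝟙_ C ⟶ A)
  (hz : ∀ (T : C) (m : T ⟶ A), m * (toUnit T ≫ z) = toUnit T ≫ z ∧ (toUnit T ≫ z) * m = toUnit T ≫ z)
  (a : MonAct A X) (b : MonAct A Y)

/-- The contraction `x ↦ 0 x`. -/
noncomputable def pz : X ⟶ X := lift (toUnit X ≫ z) (𝟙 X) ≫ a.act

theorem comp_pz {T : C} (x : T ⟶ X) : x ≫ pz z a = lift (toUnit T ≫ z) x ≫ a.act := by
  rw [pz, ← Category.assoc, comp_lift, Category.comp_id, ← Category.assoc, comp_toUnit]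

include hz in
theorem act_pz {T : C} (m : T ⟶ A) (x : T ⟶ X) : lift m (x ≫ pz z a) ≫ a.act = x ≫ pz z a := by
  rw [comp_pz, ← a.lift_mul_act, (hz T m).1]

include hz in
theorem pz_act {T : C} (m : T ⟶ A) (x : T ⟶ X) : (lift m x ≫ a.act) ≫ pz z a = x ≫ pz z a := by
  rw [comp_pz, ← a.lift_mul_act, (hz T m).2, comp_pz]

include hz in
theorem pz_pz : pz z a ≫ pz z a = pz z a := by
  have h := act_pz z hz a (toUnit X ≫ z) (𝟙 X)
  rw [Category.id_comp] at h
  rw [comp_pz, h]

/-- A fixed point is a point unchanged by the contraction. -/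
theorem eq_of_fixed {T : C} (x : (fixedPsh a).obj (op T)) : x.1 ≫ pz z a = x.1 := by
  have h := x.2 T (𝟙 T) (toUnit T ≫ z)
  rw [Category.id_comp] at h
  rw [comp_pz, h]

include hz in
/-- A point unchanged by the contraction is fixed. -/
theorem fixed_of_eq {T : C} (x : T ⟶ X) (h : x ≫ pz z a = x) (T' : C) (t : T' ⟶ T) (g : T' ⟶ A) :
    lift g (t ≫ x) ≫ a.act = t ≫ x := by
  have h1 := act_pz z hz a g (t ≫ x)
  rwa [Category.assoc, h] at h1

/-- The fixed point attached to a point unchanged by the contraction. -/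
def mkFixed {T : C} (x : T ⟶ X) (h : x ≫ pz z a = x) : (fixedPsh a).obj (op T) := ⟨x, fixed_of_eq z hz a x h⟩

variable {a b} in
theorem pz_comp {f : X ⟶ Y} (hf : IsEquivariant a b f) : pz z a ≫ f = f ≫ pz z b := by
  rw [comp_pz, pz]
  rw [isEquivariant_iff] at hf
  have h := hf X (toUnit X ≫ z) (𝟙 X)
  rw [Category.id_comp] at h
  rw [Category.assoc, h]

include hz in
theorem isEquivariant_pz : IsEquivariant a a (pz z a) := by
  rw [isEquivariant_iff]
  intro T g x
  rw [← Category.assoc, pz_act z hz, act_pz z hz]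

end General

section Line

variable {S : Scheme.{u}}

/-- The zero point of the affine line `A(ℕ)`. -/
noncomputable def zN (S : Scheme.{u}) : 𝟙_ (Over S) ⟶ AMonS S ℕ := ofChi (powersHom _ 0)

theorem chi_zN (T : Over S) (n : Multiplicative ℕ) : chi (toUnit T ≫ zN S) n = 0 ^ n.toAdd := by
  rw [chi_comp, zN, chi_ofChi, powersHom_apply, map_pow, map_zero]

theorem zN_mul (T : Over S) (m : T ⟶ AMonS S ℕ) :
    m * (toUnit T ≫ zN S) = toUnit T ≫ zN S ∧ (toUnit T ≫ zN S) * m = toUnit T ≫ zN S := by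
  have h : ∀ n : Multiplicative ℕ, chi m n * 0 ^ n.toAdd = 0 ^ n.toAdd := by
    intro n
    by_cases hn : n.toAdd = 0
    · have h1 : n = 1 := hn
      rw [h1, (chi m).map_one, _root_.one_mul]
    · rw [zero_pow hn, mul_zero]
  constructor
  · apply chi_injective
    apply MonoidHom.ext
    intro n
    rw [chi_mul, MonoidHom.mul_apply, chi_zN, h]
  · apply chi_injective
    apply MonoidHom.ext
    intro n
    rw [chi_mul, MonoidHom.mul_apply, chi_zN, mul_comm, h]

variable {X Y : Over S} (a : MonAct (AMonS S ℕ) X)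

/-- The contraction of an `A¹`-scheme. -/
noncomputable abbrev ct : X ⟶ X := pz (zN S) a

/-- The contraction on homogeneous functions. -/
theorem pb_ct [IsAffine X.left] {n : ℕ} {f : Fn X} (hf : IsHomog a n f) : pb (ct a) f = f * 0 ^ n := by
  rw [ct, pz, hf.pb_lift_act, pb_id, RingHom.id_apply, chi_zN]
  rfl

theorem pb_ct_zero [IsAffine X.left] {f : Fn X} (hf : IsHomog a 0 f) : pb (ct a) f = f := by
  rw [pb_ct a hf, _root_.pow_zero, _root_.mul_one]

theorem pb_ct_pos [IsAffine X.left] {n : ℕ} (hn : n ≠ 0) {f : Fn X} (hf : IsHomog a n f) : pb (ct a) f = 0 := by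
  rw [pb_ct a hf, zero_pow hn, mul_zero]

/-- A point of an affine `A¹`-scheme is fixed when it kills the homogeneous functions of positive degree. -/
theorem comp_ct_eq_iff [IsAffine X.left] {T : Over S} (x : T ⟶ X) :
    x ≫ ct a = x ↔ ∀ n ≠ 0, ∀ f, IsHomog a n f → pb x f = 0 := by
  constructor
  · intro h n hn f hf
    rw [← h, pb_comp_apply, pb_ct_pos a hn hf, map_zero]
  · intro h
    apply hom_ext_pb
    apply ringHom_ext_homog a
    intro n f hf
    rw [pb_comp_apply]
    by_cases hn : n = 0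
    · subst hn
      rw [pb_ct_zero a hf]
    · rw [pb_ct_pos a hn hf, map_zero, h n hn f hf]

end Line

section Field

variable {k : Type u} [Field k] {X : Over (Spec (CommRingCat.of k))}
  (a : MonAct (AMonS (Spec (CommRingCat.of k)) ℕ) X)

/-- The units of the affine line. -/
noncomputable abbrev un : Red.DS (Spec (CommRingCat.of k)) ℤ ⟶ AMonS (Spec (CommRingCat.of k)) ℕ :=
  AMonS.map (Spec (CommRingCat.of k)) (Nat.castAddMonoidHom ℤ)

instance : IsMonHom (un (k := k)) := inferInstanceAs (IsMonHom (AMonS.map (Spec (CommRingCat.of k)) (Nat.castAddMonoidHom ℤ)))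

theorem isStable_restrict {W : X.left.Opens} (hW : IsStable a W) : IsStable (a.restrict (un (k := k))) W := by
  unfold IsStable at hW ⊢
  rw [restrict_act, Over.comp_left, Scheme.Hom.comp_preimage]
  have h1 : (snd (Red.DS (Spec (CommRingCat.of k)) ℤ) X).left ⁻¹ᵁ W = (un (k := k) ▷ X).left ⁻¹ᵁ
      (snd (AMonS (Spec (CommRingCat.of k)) ℕ) X).left ⁻¹ᵁ W := by
    rw [← Scheme.Hom.comp_preimage, ← Over.comp_left, whiskerRight_snd]
  rw [h1]
  exact fun q hq => hW hq

/-- Stable opens are the preimages of themselves under the contraction. -/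
theorem preimage_ct {W : X.left.Opens} (hW : IsStable a W) : (ct a).left ⁻¹ᵁ W = W := by
  have hle : W ≤ (ct a).left ⁻¹ᵁ W := by
    intro x hx
    change (ct a).left x ∈ W
    rw [ct, pz, Over.comp_left, Scheme.Hom.comp_apply]
    apply hW
    change (snd _ X).left _ ∈ W
    rw [← Scheme.Hom.comp_apply, ← Over.comp_left, lift_snd]
    exact hx
  refine le_antisymm ?_ hle
  have hd := K951.Nilp.dominant_left (S := Spec (CommRingCat.of k)) (Nat.castAddMonoidHom ℤ) Nat.cast_injective
  have hd1 : IsSchemeTheoreticallyDominant (un (k := k)).left := hd.1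
  have hd2 : IsAffineHom (un (k := k)).left := hd.2
  have hq : QuasiCompact (un (k := k)).left := inferInstance
  let X' := opT X ((ct a).left ⁻¹ᵁ W)
  let φ : AMonS (Spec (CommRingCat.of k)) ℕ ⊗ X' ⟶ X := (AMonS (Spec (CommRingCat.of k)) ℕ ◁ opι X _) ≫ a.act
  have hφ : IsEquivariant (((regular (AMonS (Spec (CommRingCat.of k)) ℕ)).restrict (un (k := k))).prod
      (MonAct.trivial (Red.DS (Spec (CommRingCat.of k)) ℤ) X')) (a.restrict (un (k := k))) φ := by
    rw [mem_eqvHom_iff]
    intro T' g m t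
    simp only [φ]
    rw [lift_restrict_act, lift_regular_act, lift_restrict_act, lift_whiskerLeft_assoc, lift_whiskerLeft_assoc,
      a.lift_mul_act]
  have h1 : φ.left ⁻¹ᵁ W = ⊤ := by
    refine eq_top_of_stable (un (k := k)) (zN _) (fun T m => (zN_mul T m).2) _
      ((isStable_restrict a hW).preimage hφ) ?_
    rw [← Scheme.Hom.comp_preimage, ← Over.comp_left]
    have h2 : lift (toUnit X' ≫ zN _) (𝟙 X') ≫ φ = opι X _ ≫ ct a := by
      simp only [φ]
      rw [lift_whiskerLeft_assoc, Category.id_comp]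
      exact (comp_pz (zN _) a _).symm
    rw [h2, eq_top_iff]
    intro x _
    change ((opι X _) ≫ ct a).left x ∈ W
    rw [Over.comp_left, Scheme.Hom.comp_apply]
    exact x.2
  intro x hx
  have h3 : lift 1 (𝟙 X') ≫ φ = opι X _ := by
    simp only [φ]
    rw [lift_whiskerLeft_assoc, Category.id_comp, a.lift_one_act]
  let x' : X'.left := (⟨x, hx⟩ : ((ct a).left ⁻¹ᵁ W : Scheme.{u}))
  have h4 : (lift 1 (𝟙 X')).left x' ∈ φ.left ⁻¹ᵁ W := by rw [h1]; trivial
  change φ.left ((lift 1 (𝟙 X')).left x') ∈ W at h4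
  rw [← Scheme.Hom.comp_apply, ← Over.comp_left, h3] at h4
  exact h4

end Field

end K951.Zero
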